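import Cfsg.Agent.H568.RowAltA
import Cfsg.Agent.CpAut.Alt
import Cfsg.Agent.OddCyclic.EmpFFAlt
import Cfsg.Agent.S0254
import Cfsg.Agent.S0813
import Cfsg.Agent.ClassicalGeometry.PSL2Basic
import Cfsg.Prelude.Def_Classical

/-!
# The row of the alternating groups (helper568)
-/

set_option autoImplicit false

namespace Cfsg.Agent.H568

open Subgroup Cfsg.Agent.CpAut

universe u

/-- A simple group all whose automorphisms of order `p` are inner, with an element normalising no `p`-subgroup. -/
theorem row_of_autInner {S : Type*} [Group S] [Finite S] [IsSimpleGroup S] (hna : ¬ IsMulCommutative S) {p : ℕ}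
    [hp : Fact p.Prime] (hi : AutInner p S) (h : ∃ x : S, NoNorm p x) : Row p S :=
  row_of hna fun a ha => Or.inr (Or.inl ⟨hi a ha, h⟩)

theorem autInner_of_card {X : Type*} [Group X] [Finite X] {p n : ℕ} (hc : center X = ⊥)
    (h : Nat.card (MulAut X) = n * Nat.card X) (hn : n.Coprime p) : AutInner p X := by
  have hinj : Function.Injective (MulAut.conj : X →* MulAut X) := by
    rw [← MonoidHom.ker_eq_bot_iff, ← hc]
    ext x
    rw [MonoidHom.mem_ker, mem_center_iff]
    constructor
    · intro h y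
      have h1 : MulAut.conj x y = y := by rw [h]; rfl
      rw [MulAut.conj_apply, mul_inv_eq_iff_eq_mul] at h1
      exact h1.symm
    · intro h
      ext y
      rw [MulAut.conj_apply, ← h y, mul_inv_cancel_right]
      rfl
  refine autInner_of_index ?_ ⟨?_⟩
  · have h1 := (MulAut.conj : X →* MulAut X).range.card_mul_index
    have h2 : Nat.card (MulAut.conj : X →* MulAut X).range = Nat.card X :=
      Nat.card_congr (MonoidHom.ofInjective hinj).toEquiv.symm
    rw [h2, h, mul_comm n] at h1
    rwa [Nat.eq_of_mul_eq_mul_left Nat.card_pos h1]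
  · rintro _ ⟨x, rfl⟩ g
    refine ⟨g x, ?_⟩
    ext y
    simp [MulAut.mul_apply, MulAut.conj_apply]

theorem autInner_alt5 {p : ℕ} (hp : p.Prime) (hp2 : p ≠ 2) : AutInner p ↥(alternatingGroup (Fin 5)) := by
  apply autInner_of_sq hp hp2
  intro φ
  obtain ⟨σ, hσ⟩ := Cfsg.Agent.OddCyclic.EmpFFAlt.exists_conj φ
  have hs : σ * σ ∈ alternatingGroup (Fin 5) := by
    rw [Equiv.Perm.mem_alternatingGroup, map_mul]
    exact Int.units_mul_self _
  refine ⟨⟨σ * σ, hs⟩, ?_⟩
  apply MulEquiv.ext
  intro x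
  apply Subtype.ext
  rw [MulAut.mul_apply, hσ, hσ]
  show σ * (σ * (x : Equiv.Perm (Fin 5)) * σ⁻¹) * σ⁻¹ = σ * σ * (x : Equiv.Perm (Fin 5)) * (σ * σ)⁻¹
  group

theorem not_comm_of_alt {n : ℕ} (hn : 5 ≤ n) : ¬ IsMulCommutative ↥(alternatingGroup (Fin n)) := by
  intro h
  have h1 := alternatingGroup.center_eq_bot (α := Fin n)
    (by rw [Nat.card_eq_fintype_card, Fintype.card_fin]; omega)
  have hs : IsSimpleGroup ↥(alternatingGroup (Fin n)) := alternatingGroup.isSimpleGroup (by simpa using hn)
  obtain ⟨x, hx⟩ := exists_ne (1 : alternatingGroup (Fin n))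
  apply hx
  have h2 : x ∈ center (alternatingGroup (Fin n)) := mem_center_iff.2 fun g => h.is_comm.comm g x
  rwa [h1, mem_bot] at h2

theorem autInner_alt6 {p : ℕ} (hp : p.Prime) (hp2 : p ≠ 2) : AutInner p ↥(alternatingGroup (Fin 6)) := by
  have h3 : Fact (Nat.Prime 3) := ⟨Nat.prime_three⟩
  let _ : Fintype (GaloisField 3 2) := Fintype.ofFinite _
  have hF : Fintype.card (GaloisField 3 2) = 3 ^ 2 := by
    rw [← Nat.card_eq_fintype_card]; exact GaloisField.card 3 2 (by norm_num)
  obtain ⟨e⟩ := S0254.result (F := GaloisField 3 2) (by rw [hF]; norm_num)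
  have hA : Nat.card (alternatingGroup (Fin 6)) = 360 := by
    rw [Nat.card_eq_fintype_card]
    have h := two_mul_card_alternatingGroup (α := Fin 6)
    rw [Fintype.card_perm, Fintype.card_fin] at h
    have : (6 : ℕ).factorial = 720 := rfl
    omega
  have hM := S0813.result (F := GaloisField 3 2) 3 2 (by norm_num) hF 2 le_rfl (by norm_num)
  rw [if_pos rfl, Cfsg.Agent.ClassicalGeometry.PSL2Basic.card_PGL2, hF] at hM
  have hfin : Finite (Matrix.ProjectiveSpecialLinearGroup (Fin 2) (GaloisField 3 2)) := Finite.of_equiv _ e.symm.toEquiv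
  have hcard : Nat.card (Matrix.ProjectiveSpecialLinearGroup (Fin 2) (GaloisField 3 2)) = 360 := by
    rw [← hA]; exact Nat.card_congr e.toEquiv
  have hsimple : IsSimpleGroup ↥(alternatingGroup (Fin 6)) := alternatingGroup.isSimpleGroup (by simp)
  refine AutInner.congr e (autInner_of_card (n := 4) ?_ (by rw [hM, hcard]; norm_num) ?_)
  · have hs2 : IsSimpleGroup (Matrix.ProjectiveSpecialLinearGroup (Fin 2) (GaloisField 3 2)) := e.isSimpleGroup
    refine center_eq_bot_of_simple fun hc => not_comm_of_alt (n := 6) (by norm_num) ⟨⟨fun a b => ?_⟩⟩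
    apply e.symm.injective
    rw [map_mul, map_mul]
    exact hc.is_comm.comm _ _
  · have : Nat.Coprime (2 ^ 2) p := Nat.Coprime.pow_left _ ((Nat.coprime_primes Nat.prime_two hp).2 hp2.symm)
    exact this

theorem autInner_altAll {n p : ℕ} (hn : 5 ≤ n) (hp : p.Prime) (hp2 : p ≠ 2) :
    AutInner p ↥(alternatingGroup (Fin n)) := by
  rcases Nat.lt_or_ge n 7 with h | h
  · interval_cases n
    · exact autInner_alt5 hp hp2
    · exact autInner_alt6 hp hp2
  · exact autInner_alt h hp hp2

/-- **The row of the alternating groups.** -/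
theorem row_alt (K : Type u) [Group K] (h : Cfsg.IsAlternating K) (p : ℕ) [hp : Fact p.Prime] (hp2 : p ≠ 2) :
    Row p K := by
  obtain ⟨n, hn, ⟨e⟩⟩ := h
  have hs : IsSimpleGroup ↥(alternatingGroup (Fin n)) := alternatingGroup.isSimpleGroup (by simpa using hn)
  exact (row_of_autInner (not_comm_of_alt hn) (autInner_altAll hn hp.1 hp2)
    (Alt.exists_noNorm hp2 (by rwa [Fintype.card_fin]))).congr e.symm

end Cfsg.Agent.H568
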