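import Cfsg.Agent.H568.RowCrit

/-!
# Tools for the rows of S4329 (helper568)
-/

set_option autoImplicit false

namespace Cfsg.Agent.H568

open Subgroup

variable {S : Type*} [Group S] {p : ℕ}

theorem center_eq_bot [IsSimpleGroup S] (hna : ¬ IsMulCommutative S) : center S = ⊥ := by
  rcases (inferInstance : (center S).Normal).eq_bot_or_eq_top with h | h
  · exact h
  · exfalso
    apply hna
    exact ⟨⟨fun x y => (mem_center_iff.1 (h ▸ mem_top x : x ∈ center S) y).symm⟩⟩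

/-- **The criterion to be used for a family row**: every `a : MulAut S` of order `p` is either inner, with cyclic Sylow
`p`-subgroups in `S`, or there is a `p`-regular `x` centralising all `p`-subgroups which it normalises and centralised
by no conjugate of `a`, or `a` is inner and there is an `x` normalising no nontrivial `p`-subgroup. -/
theorem row_of [Finite S] [IsSimpleGroup S] (hna : ¬ IsMulCommutative S) [hp : Fact p.Prime]
    (h : ∀ a : MulAut S, orderOf a = p →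
      ((∃ s : S, a = MulAut.conj s) ∧ ∃ P : Sylow p S, IsCyclic ↥(P : Subgroup S)) ∨
      ((∃ s : S, a = MulAut.conj s) ∧ ∃ x : S, NoNorm p x) ∨
      ∃ x : S, ¬ p ∣ orderOf x ∧ PCent p x ∧ ∀ g : MulAut S, (g * a * g⁻¹) x ≠ x) : Row p S := by
  intro a ha
  rcases h a ha with ⟨⟨s, hs⟩, P, hP⟩ | ⟨⟨s, hs⟩, x, hx⟩ | ⟨x, hx, h1, h2⟩
  · have hdvd : p ∣ Nat.card S := by
      have h3 : orderOf s = p := by
        rw [← ha, hs]
        refine (orderOf_injective (MulAut.conj : S →* MulAut S) ?_ s).symm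
        rw [← MonoidHom.ker_eq_bot_iff, ← center_eq_bot hna]
        ext x
        rw [MonoidHom.mem_ker, mem_center_iff]
        constructor
        · intro h y
          have h1 : MulAut.conj x y = y := by rw [h]; rfl
          rw [MulAut.conj_apply, mul_inv_eq_iff_eq_mul] at h1
          exact h1.symm
        · intro h
          ext y
          rw [MulAut.conj_apply, ← h y, mul_inv_cancel_right]
          rfl
      rw [← h3]
      exact orderOf_dvd_natCard s
    obtain ⟨x, hx⟩ := exists_noNorm_of_cyclic hna hdvd P hP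
    exact ⟨x, hx.not_dvd, avoid_inner (center_eq_bot hna) ha hs hx⟩
  · exact ⟨x, hx.not_dvd, avoid_inner (center_eq_bot hna) ha hs hx⟩
  · exact ⟨x, hx, avoid_of_pcent (center_eq_bot hna) hx h1 h2⟩

/-- If every subgroup of order `l` of `S` is conjugate to `⟨x⟩` (for example if the Sylow `l`-subgroups of `S` are
cyclic), it is enough to look at the `S`-conjugates of `x`. -/
theorem not_fixed_of_conj {l : ℕ} {a : MulAut S} {x : S} (hx : orderOf x = l)
    (hconj : ∀ y : S, orderOf y = l → ∃ s : S, y ∈ zpowers (s * x * s⁻¹) ∧ s * x * s⁻¹ ∈ zpowers y)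
    (h : ∀ s : S, a (s * x * s⁻¹) ≠ s * x * s⁻¹) (g : MulAut S) : (g * a * g⁻¹) x ≠ x := by
  intro h1
  have h2 : a (g⁻¹ x) = g⁻¹ x := by
    have h3 := congrArg (g⁻¹ : MulAut S) h1
    rw [MulAut.mul_apply, MulAut.mul_apply, MulAut.inv_apply_self] at h3
    exact h3
  obtain ⟨s, -, hs⟩ := hconj (g⁻¹ x) (by rw [MulEquiv.orderOf_eq, hx])
  obtain ⟨i, hi⟩ := hs
  apply h s
  have hi' : (g⁻¹ x) ^ i = s * x * s⁻¹ := hi
  rw [← hi', map_zpow, h2]

/-- All subgroups of prime order `l` are conjugate if the Sylow `l`-subgroups are cyclic. -/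
theorem conj_of_cyclic [Finite S] {l : ℕ} [hl : Fact l.Prime] (P : Sylow l S) (hP : IsCyclic ↥(P : Subgroup S))
    {x : S} (hx : orderOf x = l) (y : S) (hy : orderOf y = l) :
    ∃ s : S, y ∈ zpowers (s * x * s⁻¹) ∧ s * x * s⁻¹ ∈ zpowers y := by
  have key : ∀ z : S, orderOf z = l → ∃ s : S, s * z * s⁻¹ ∈ (P : Subgroup S) := by
    intro z hz
    have hzp : IsPGroup l ↥(zpowers z) := IsPGroup.of_card (n := 1) (by rw [Nat.card_zpowers, hz, pow_one])
    obtain ⟨R, hR⟩ := hzp.exists_le_sylow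
    obtain ⟨g, hg⟩ := MulAction.exists_smul_eq S R P
    refine ⟨g, ?_⟩
    have h1 : MulAut.conj g z ∈ (g • R : Sylow l S) := by
      rw [Sylow.smul_def]
      exact smul_mem_pointwise_smul _ _ _ (hR (mem_zpowers z))
    rw [hg] at h1
    exact h1
  obtain ⟨s, hs⟩ := key x hx
  obtain ⟨t, ht⟩ := key y hy
  have h1 : zpowers (s * x * s⁻¹) = zpowers (t * y * t⁻¹) := by
    refine OddOrderLocal.CyclicSub.eq_of_card_eq_of_le_cyclic hP ?_ ?_ ?_
    · rwa [zpowers_le]
    · rwa [zpowers_le]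
    · rw [Nat.card_zpowers, Nat.card_zpowers, orderOf_conj', orderOf_conj', hx, hy]
  refine ⟨t⁻¹ * s, ?_, ?_⟩
  · have h2 : t * y * t⁻¹ ∈ zpowers (s * x * s⁻¹) := h1 ▸ mem_zpowers _
    obtain ⟨i, hi⟩ := h2
    refine ⟨i, ?_⟩
    have hi' : (s * x * s⁻¹) ^ i = t * y * t⁻¹ := hi
    show (t⁻¹ * s * x * (t⁻¹ * s)⁻¹) ^ i = y
    have h3 : t⁻¹ * s * x * (t⁻¹ * s)⁻¹ = t⁻¹ * (s * x * s⁻¹) * t⁻¹⁻¹ := by group
    rw [h3, conj_zpow, hi']
    group
  · have h2 : s * x * s⁻¹ ∈ zpowers (t * y * t⁻¹) := h1 ▸ mem_zpowers _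
    obtain ⟨i, hi⟩ := h2
    refine ⟨i, ?_⟩
    have hi' : (t * y * t⁻¹) ^ i = s * x * s⁻¹ := hi
    show y ^ i = t⁻¹ * s * x * (t⁻¹ * s)⁻¹
    have h3 : t⁻¹ * s * x * (t⁻¹ * s)⁻¹ = t⁻¹ * (s * x * s⁻¹) * t := by group
    rw [h3, ← hi', conj_zpow]
    group

end Cfsg.Agent.H568
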