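import Cfsg.Agent.H568.OwnChar
import Cfsg.Agent.KFacts.RgdFiltChev
import Cfsg.Agent.KFacts.RgdSL
import Cfsg.Agent.Nodes.PosPair
import Cfsg.Agent.Nodes.SimplyLaced

/-!
# Elements of `D.group F` normalising no `r`-subgroup (helper568)

`noNorm_chev`: `x ∈ D.group F` of prime order `l`, commuting with no element of order `r = char F`; if for every
node `j` there is a level `m` such that `h = ord_l(q)` does not divide the number of roots of `j`-coordinate `≥ m`,
then `x` normalises no nontrivial `r`-subgroup.  Cases `noNorm_G2` (`h = 3, 6`), `noNorm_F4` (`8, 12`), `noNorm_E6`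
(`9, 12`), `noNorm_E7` (`14, 18`), `noNorm_E8` (`24, 30`).
-/

set_option autoImplicit false
set_option linter.unusedSectionVars false

namespace Cfsg.Agent.H568

open CoxeterSystem Cfsg.Agent.ChevalleyStructure.CoxeterGeom Cfsg.Agent.Tits.Roots Cfsg.Agent.Tits.Core
  Cfsg.Agent.Tits.RootComb Cfsg.Agent.Nodes.Comb Cfsg.Agent.Nodes.Reps Cfsg.Agent.Nodes.BNOf
open Cfsg.Lie Cfsg.Agent.ChevalleyStructure Cfsg.Agent.ChevalleyStructure.Elts
  Cfsg.Agent.ChevalleyStructure.RootVec Cfsg.Agent.ChevalleyStructure.RootVecTab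
  Cfsg.Agent.ChevalleyStructure.NPerm Cfsg.Agent.ChevalleyStructure.CoxeterGeomTypes
open Cfsg.Agent.Nodes Cfsg.Agent.Nodes.RGDChev Cfsg.Agent.KFacts.RgdBorelTits Cfsg.Agent.KFacts.RgdFilt
  Cfsg.Agent.KFacts.RgdFiltChev Cfsg.Agent.KFacts.RgdCharP Cfsg.Agent.Nodes.Slope

universe u

section SL

variable {I W : Type*} [Fintype I] [DecidableEq I] [Group W] {M : CoxeterMatrix I}
  {cs : CoxeterSystem M W} {A : I → I → ℤ} {h : IsCartan M A}

/-- All levels are ideals in the simply laced types. -/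
theorem levOk_sl [Finite W] (h4 : ∀ i j, M i j ≠ 4) (h6 : ∀ i j, M i j ≠ 6) {j : I} {m : ℤ} (hm : 0 < m) :
    LevOk cs h j m := by
  have hs : Cfsg.Agent.KFacts.RgdSL.SL cs h := fun x y hx hy => SimplyLaced.cpr_symm cs h h4 h6 hx hy
  refine ⟨hm, fun x y z hx hy hx0 hym hz => ?_⟩
  by_cases hxy : x = y
  · subst hxy
    obtain ⟨hzr, k, a, b, hk, ha, hb, he⟩ := hz
    rw [← add_smul] at he
    have h1 := congrFun he j
    simp only [Pi.smul_apply, smul_eq_mul] at h1
    rcases PosPair.eq_or_eq_neg_of_smul cs h hzr hx hk.ne' he with h2 | h2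
    · rw [h2]; exact hym
    · exfalso
      rw [h2, Pi.neg_apply] at h1
      nlinarith
  · by_cases hxy' : x = -y
    · exfalso
      rw [hxy', Pi.neg_apply] at hx0
      omega
    · obtain ⟨-, h2⟩ := hs.btwn hx hy hxy hxy' hz
      rw [h2, Pi.add_apply]
      omega

end SL

variable {D : ChevalleyDatum} {n : ℕ} {M : CoxeterMatrix (Fin n)} (hp : IsType D n M) {F : Type u} [Field F]
  {W : Type*} [Group W] (cs : CoxeterSystem M W)

/-- The number of roots whose `j`-coordinate is at least `m`. -/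
def numLev (D : ChevalleyDatum) (j : ℕ) (m : ℤ) : ℕ := ((List.range D.nroots).filter fun r => decide (m ≤ rt D r j)).length

include hp in
theorem card_XV [Finite F] {r : ℕ} (hr : r < D.nroots) :
    Nat.card ↥((XV D n F (vec D n r)).subgroupOf (D.group F)) = Nat.card F := by
  rw [Nat.card_congr (Subgroup.subgroupOfEquivOfLe (XV_le_group hp _)).toEquiv, XV_vec hp F hr]
  refine Nat.card_congr (Equiv.ofBijective (fun t : F => (⟨xG hp.inList r t, xG_mem_rootSubgroup hp.inList r t⟩ :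
    ↥(D.rootSubgroup F r))) ⟨fun a b hab => xG_injective hp.inList hr (congrArg Subtype.val hab), ?_⟩).symm
  rintro ⟨g, hg⟩
  rw [mem_rootSubgroup_iff hp.inList] at hg
  obtain ⟨t, rfl⟩ := hg
  exact ⟨t, rfl⟩

theorem card_Lev [Finite F] (p : ℕ) [Fact p.Prime] [CharP F p] (j : Fin n) {m : ℤ}
    (hm : LevOk cs hp.isCartan j m) :
    Nat.card ↥(RGD.Sup (fun x => (XV D n F x).subgroupOf (D.group F)) (Lev cs hp.isCartan j m)) =
      Nat.card F ^ numLev D j m := by
  classical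
  have := finite_W hp cs
  have := Fintype.ofFinite W
  set s : Finset (Fin n → ℤ) := (((List.range D.nroots).filter fun r => decide (m ≤ rt D r j)).toFinset).image (vec D n)
    with hs
  have h1 : (s : Set (Fin n → ℤ)) = Lev cs hp.isCartan j m := by
    ext x
    rw [hs]
    simp only [Finset.coe_image, Set.mem_image, List.coe_toFinset, Set.mem_ofPred_eq, List.mem_filter, List.mem_range,
      decide_eq_true_eq]
    constructor
    · rintro ⟨r, ⟨hr, hm'⟩, rfl⟩
      exact ⟨(isRoot_iff hp cs _).2 ⟨r, hr, rfl⟩, hm'⟩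
    · rintro ⟨hx, hm'⟩
      obtain ⟨r, hr, rfl⟩ := (isRoot_iff hp cs x).1 hx
      exact ⟨r, ⟨hr, hm'⟩, rfl⟩
  have h2 := Cfsg.Agent.Cit.DCard.card_Sup (rgd (K := F) hp cs p)
    ({ toFun := fun x => x j, map_zero' := rfl, map_add' := fun _ _ => rfl } : (Fin n → ℤ) →+ ℤ) _ s rfl
    (by rw [h1]; exact Lev_closed hm) (fun x hx => by
      have h3 : x ∈ (s : Set (Fin n → ℤ)) := hx
      rw [h1] at h3
      exact lt_of_lt_of_le hm.1 h3.2)
  rw [h1] at h2
  rw [h2]
  rw [hs, Finset.prod_image, List.prod_toFinset _ (List.Nodup.filter _ List.nodup_range)]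
  · have h3 : ∀ L : List ℕ, (∀ r ∈ L, r < D.nroots) →
        (L.map fun r => Nat.card ↥((XV D n F (vec D n r)).subgroupOf (D.group F))).prod = Nat.card F ^ L.length := by
      intro L
      induction L with
      | nil => intro _; simp
      | cons a L ih =>
        intro hL
        rw [List.map_cons, List.prod_cons, ih fun r hr => hL r (List.mem_cons_of_mem _ hr),
          card_XV hp (hL a List.mem_cons_self), List.length_cons, pow_succ, mul_comm]
    exact h3 _ fun r hr => List.mem_range.1 (List.mem_filter.1 hr).1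
  · intro a ha b hb hab
    simp only [List.coe_toFinset, Set.mem_ofPred_eq, List.mem_filter, List.mem_range] at ha hb
    exact vec_inj hp ha.1 hb.1 hab

include hp in
/-- **Elements of `D.group F` normalising no `r`-subgroup.** -/
theorem noNorm_chev [Finite F] (r : ℕ) [Fact r.Prime] [CharP F r] {l : ℕ} (hl : l.Prime) {x : ↥(D.group F)}
    (hx : orderOf x = l) (hcen : ∀ y : ↥(D.group F), orderOf y = r → x * y ≠ y * x) {h : ℕ}
    (hord : ∀ k, l ∣ Nat.card F ^ k - 1 → h ∣ k)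
    (hj : ∀ j : Fin n, ∃ m : ℤ, 0 < m ∧ (m = 1 ∨ ((∀ i j, M i j ≠ 4) ∧ ∀ i j, M i j ≠ 6)) ∧ ¬ h ∣ numLev D j m) :
    NoNorm r x := by
  classical
  have hW := finite_W hp M.toCoxeterSystem
  have : Finite ↥(D.group F) := by
    have : Finite (Matrix.GeneralLinearGroup D.Idx F) := inferInstance
    infer_instance
  refine noNorm_rgd (rgd (K := F) hp M.toCoxeterSystem r)
    (fun K hK hK1 => borel_tits_of_filt (filt hp M.toCoxeterSystem r) (G1_eq_top hp _) hK hK1) hl hx hcen ?_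
  intro j
  obtain ⟨m, hm, hm', hh⟩ := hj j
  have hok : LevOk M.toCoxeterSystem hp.isCartan j m := by
    rcases hm' with rfl | ⟨h4, h6⟩
    · exact levOk_one j
    · exact levOk_sl h4 h6 hm
  refine ⟨m, hok, ?_⟩
  rw [card_Lev hp M.toCoxeterSystem r j hok]
  exact fun h1 => hh (hord _ h1)

set_option backward.isDefEq.respectTransparency false in
theorem ne_E7 : (∀ i j, CoxeterMatrix.E₇ i j ≠ 4) ∧ ∀ i j, CoxeterMatrix.E₇ i j ≠ 6 := by
  constructor <;> decide +kernel

section Types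

variable [Finite F] (r : ℕ) [Fact r.Prime] [CharP F r] {l : ℕ} (hl : l.Prime)

include hl

theorem noNorm_G2 {x : ↥(chevG2.group F)} (hx : orderOf x = l)
    (hcen : ∀ y : ↥(chevG2.group F), orderOf y = r → x * y ≠ y * x) {h : ℕ} (hh : h = 3 ∨ h = 6)
    (hord : ∀ k, l ∣ Nat.card F ^ k - 1 → h ∣ k) : NoNorm r x := by
  refine noNorm_chev (n := 2) (M := CoxeterMatrix.G₂) (by simp [IsType, typeList]) r hl hx hcen hord ?_
  rcases hh with rfl | rfl
  · exact fun j => ⟨1, one_pos, Or.inl rfl, (by decide +kernel : ∀ j : Fin 2, ¬ 3 ∣ numLev chevG2 j 1) j⟩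
  · exact fun j => ⟨1, one_pos, Or.inl rfl, (by decide +kernel : ∀ j : Fin 2, ¬ 6 ∣ numLev chevG2 j 1) j⟩

theorem noNorm_F4 {x : ↥(chevF4.group F)} (hx : orderOf x = l)
    (hcen : ∀ y : ↥(chevF4.group F), orderOf y = r → x * y ≠ y * x) {h : ℕ} (hh : h = 8 ∨ h = 12)
    (hord : ∀ k, l ∣ Nat.card F ^ k - 1 → h ∣ k) : NoNorm r x := by
  refine noNorm_chev (n := 4) (M := CoxeterMatrix.F₄) (by simp [IsType, typeList]) r hl hx hcen hord ?_
  rcases hh with rfl | rfl
  · exact fun j => ⟨1, one_pos, Or.inl rfl, (by decide +kernel : ∀ j : Fin 4, ¬ 8 ∣ numLev chevF4 j 1) j⟩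
  · exact fun j => ⟨1, one_pos, Or.inl rfl, (by decide +kernel : ∀ j : Fin 4, ¬ 12 ∣ numLev chevF4 j 1) j⟩

theorem noNorm_E6 {x : ↥(chevE6.group F)} (hx : orderOf x = l)
    (hcen : ∀ y : ↥(chevE6.group F), orderOf y = r → x * y ≠ y * x) {h : ℕ} (hh : h = 9 ∨ h = 12)
    (hord : ∀ k, l ∣ Nat.card F ^ k - 1 → h ∣ k) : NoNorm r x := by
  refine noNorm_chev (n := 6) (M := CoxeterMatrix.E₆) (by simp [IsType, typeList]) r hl hx hcen hord ?_
  rcases hh with rfl | rfl
  · exact fun j => ⟨1, one_pos, Or.inl rfl, (by decide +kernel : ∀ j : Fin 6, ¬ 9 ∣ numLev chevE6 j 1) j⟩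
  · exact fun j => ⟨1, one_pos, Or.inl rfl, (by decide +kernel : ∀ j : Fin 6, ¬ 12 ∣ numLev chevE6 j 1) j⟩

theorem noNorm_E7 {x : ↥(chevE7.group F)} (hx : orderOf x = l)
    (hcen : ∀ y : ↥(chevE7.group F), orderOf y = r → x * y ≠ y * x) {h : ℕ} (hh : h = 14 ∨ h = 18)
    (hord : ∀ k, l ∣ Nat.card F ^ k - 1 → h ∣ k) : NoNorm r x := by
  refine noNorm_chev (n := 7) (M := CoxeterMatrix.E₇) (by simp [IsType, typeList]) r hl hx hcen hord ?_
  rcases hh with rfl | rfl
  · intro j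
    rcases (by decide +kernel : ∀ j : Fin 7, ¬ 14 ∣ numLev chevE7 j 1 ∨ ¬ 14 ∣ numLev chevE7 j 2) j with h1 | h1
    · exact ⟨1, one_pos, Or.inl rfl, h1⟩
    · exact ⟨2, two_pos, Or.inr ne_E7, h1⟩
  · exact fun j => ⟨1, one_pos, Or.inl rfl, (by decide +kernel : ∀ j : Fin 7, ¬ 18 ∣ numLev chevE7 j 1) j⟩

theorem noNorm_E8 {x : ↥(chevE8.group F)} (hx : orderOf x = l)
    (hcen : ∀ y : ↥(chevE8.group F), orderOf y = r → x * y ≠ y * x) {h : ℕ} (hh : h = 24 ∨ h = 30)
    (hord : ∀ k, l ∣ Nat.card F ^ k - 1 → h ∣ k) : NoNorm r x := by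
  refine noNorm_chev (n := 8) (M := CoxeterMatrix.E₈) (by simp [IsType, typeList]) r hl hx hcen hord ?_
  rcases hh with rfl | rfl
  · exact fun j => ⟨1, one_pos, Or.inl rfl, (by decide +kernel : ∀ j : Fin 8, ¬ 24 ∣ numLev chevE8 j 1) j⟩
  · exact fun j => ⟨1, one_pos, Or.inl rfl, (by decide +kernel : ∀ j : Fin 8, ¬ 30 ∣ numLev chevE8 j 1) j⟩

end Types

end Cfsg.Agent.H568
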