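import Mathlib

/-!
# The rows of S4329 (helper568)

`Row p S` is the assertion of S4329 for the group `S`, formulated in `MulAut S`; criteria for it.
-/

set_option autoImplicit false

namespace Cfsg.Agent.H568

open Subgroup

variable {S : Type*} [Group S] {p : ℕ}

/-- No `p`-subgroup of `MulAut S` containing a conjugate of `a` is normalised by `x`. -/
def Avoid (p : ℕ) (a : MulAut S) (x : S) : Prop :=
  ∀ Y : Subgroup (MulAut S), IsPGroup p Y → (∃ g : MulAut S, g * a * g⁻¹ ∈ Y) →
    MulAut.conj x ∉ Subgroup.normalizer (Y : Set (MulAut S))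

/-- The assertion of S4329 for `S`. -/
def Row (p : ℕ) (S : Type*) [Group S] : Prop :=
  ∀ a : MulAut S, orderOf a = p → ∃ x : S, ¬ p ∣ orderOf x ∧ Avoid p a x

/-- `x` centralises every `p`-subgroup which it normalises. -/
def PCent (p : ℕ) (x : S) : Prop :=
  ∀ Q : Subgroup S, IsPGroup p Q → x ∈ normalizer (Q : Set S) → ∀ y ∈ Q, x * y = y * x

/-- `x` normalises no nontrivial `p`-subgroup. -/
def NoNorm (p : ℕ) (x : S) : Prop :=
  ∀ Q : Subgroup S, IsPGroup p Q → x ∈ normalizer (Q : Set S) → Q = ⊥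

theorem NoNorm.pcent {x : S} (h : NoNorm p x) : PCent p x := fun Q hQ hx y hy => by
  have h1 := h Q hQ hx
  rw [h1, mem_bot] at hy
  rw [hy, mul_one, one_mul]

/-- A `p`-element commuting with `x` is trivial. -/
theorem NoNorm.eq_one [Fact p.Prime] {x : S} (h : NoNorm p x) {y : S} (hxy : x * y = y * x) {k : ℕ}
    (hy : y ^ p ^ k = 1) : y = 1 := by
  have h1 : zpowers y = ⊥ := by
    refine h _ ?_ ?_
    · rw [IsPGroup.iff_orderOf]
      rintro ⟨z, hz⟩
      obtain ⟨m, rfl⟩ := hz
      have h2 : orderOf (y ^ m) ∣ p ^ k := by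
        apply orderOf_dvd_of_pow_eq_one
        rw [← zpow_natCast, ← zpow_mul, mul_comm, zpow_mul, zpow_natCast, hy, one_zpow]
      obtain ⟨j, -, hj⟩ := (Nat.dvd_prime_pow (Fact.out : p.Prime)).1 h2
      exact ⟨j, by rw [← hj]; exact (Subgroup.orderOf_coe _).symm⟩
    · have h3 : x ∈ centralizer ((zpowers y : Subgroup S) : Set S) := by
        rw [mem_centralizer_iff]
        rintro _ ⟨m, rfl⟩
        exact ((Commute.zpow_right (show Commute x y from hxy) m).symm).eq
      exact centralizer_le_normalizer _ h3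
  rw [zpowers_eq_bot] at h1
  exact h1

theorem NoNorm.not_dvd [Finite S] [hp : Fact p.Prime] {x : S} (h : NoNorm p x) : ¬ p ∣ orderOf x := by
  rintro ⟨m, hm⟩
  have h1 : orderOf (x ^ m) = p := by
    have h0 : 0 < orderOf x := orderOf_pos x
    have hm0 : m ≠ 0 := by rintro rfl; omega
    rw [orderOf_pow' x hm0, hm, Nat.gcd_eq_right (Dvd.intro_left _ rfl), Nat.mul_div_cancel _ (Nat.pos_of_ne_zero hm0)]
  have h2 : x ^ m = 1 := h.eq_one (k := 1) ((Commute.refl x).pow_right m).eq (by rw [pow_one, ← h1, pow_orderOf_eq_one])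
  rw [h2, orderOf_one] at h1
  exact hp.1.one_lt.ne h1

theorem conj_mem_normalizer_comap {x : S} {Y : Subgroup (MulAut S)}
    (hx : MulAut.conj x ∈ Subgroup.normalizer (Y : Set (MulAut S))) :
    x ∈ normalizer ((Y.comap (MulAut.conj : S →* MulAut S) : Subgroup S) : Set S) := by
  rw [mem_normalizer_iff] at hx ⊢
  intro y
  rw [mem_comap, mem_comap, map_mul, map_mul, map_inv]
  exact hx _

theorem isPGroup_comap (hZ : center S = ⊥) {Y : Subgroup (MulAut S)} (hY : IsPGroup p Y) :
    IsPGroup p ↥(Y.comap (MulAut.conj : S →* MulAut S)) := by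
  refine IsPGroup.comap_of_injective hY _ ?_
  rw [← MonoidHom.ker_eq_bot_iff, ← hZ]
  ext x
  rw [MonoidHom.mem_ker, mem_center_iff]
  constructor
  · intro h y
    have h1 : MulAut.conj x y = y := by rw [h]; rfl
    rw [MulAut.conj_apply, mul_inv_eq_iff_eq_mul] at h1
    exact h1.symm
  · intro h
    ext y
    rw [MulAut.conj_apply, ← h y, mul_inv_cancel_right]
    rfl

/-- The main criterion. -/
theorem avoid_of_pcent [Finite S] [hp : Fact p.Prime] (hZ : center S = ⊥) {a : MulAut S} {x : S}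
    (hx : ¬ p ∣ orderOf x) (h1 : PCent p x) (h2 : ∀ g : MulAut S, (g * a * g⁻¹) x ≠ x) : Avoid p a x := by
  rintro Y hY ⟨g, hg⟩ hn
  have hQ := h1 _ (isPGroup_comap hZ hY) (conj_mem_normalizer_comap hn)
  set b := g * a * g⁻¹ with hb
  apply h2 g
  rw [← hb]
  have h3 : b * (MulAut.conj x * b⁻¹ * (MulAut.conj x)⁻¹) ∈ Y :=
    Y.mul_mem hg ((mem_normalizer_iff.1 hn _).1 (Y.inv_mem hg))
  have h4 : b * (MulAut.conj x * b⁻¹ * (MulAut.conj x)⁻¹) = MulAut.conj (b x * x⁻¹) := by
    ext y
    simp [MulAut.mul_apply, MulAut.conj_apply, mul_assoc]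
  have h5 : b x * x⁻¹ ∈ Y.comap (MulAut.conj : S →* MulAut S) := by
    rw [mem_comap, ← h4]
    exact h3
  set s := b x * x⁻¹ with hs
  have h6 : x * s = s * x := hQ s h5
  have h7 : b x = s * x := by rw [hs, inv_mul_cancel_right]
  have h8 : (s * x) ^ orderOf x = 1 := by
    rw [← h7, ← map_pow, pow_orderOf_eq_one, map_one]
  have h9 : s ^ orderOf x = 1 := by
    rw [(show Commute s x from h6.symm).mul_pow, pow_orderOf_eq_one, mul_one] at h8
    exact h8
  have h10 : s = 1 := by
    obtain ⟨k, hk⟩ := (isPGroup_comap hZ hY) ⟨s, h5⟩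
    have h11 : s ^ p ^ k = 1 := by simpa using congrArg Subtype.val hk
    have h12 : orderOf s ∣ Nat.gcd (p ^ k) (orderOf x) :=
      Nat.dvd_gcd (orderOf_dvd_of_pow_eq_one h11) (orderOf_dvd_of_pow_eq_one h9)
    have h13 : Nat.Coprime (p ^ k) (orderOf x) := Nat.Coprime.pow_left _ ((Nat.Prime.coprime_iff_not_dvd hp.1).2 hx)
    rw [h13, Nat.dvd_one, orderOf_eq_one_iff] at h12
    exact h12
  rw [h7, h10, one_mul]

/-- An element normalising no `p`-subgroup avoids every inner automorphism of order `p`. -/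
theorem avoid_inner [hp : Fact p.Prime] (hZ : center S = ⊥) {a : MulAut S} (ha : orderOf a = p)
    {s : S} (has : a = MulAut.conj s) {x : S} (h : NoNorm p x) : Avoid p a x := by
  rintro Y hY ⟨g, hg⟩ hn
  have h1 := h _ (isPGroup_comap hZ hY) (conj_mem_normalizer_comap hn)
  have h2 : g s ∈ Y.comap (MulAut.conj : S →* MulAut S) := by
    rw [mem_comap]
    have h3 : MulAut.conj (g s) = g * a * g⁻¹ := by
      rw [has]
      ext y
      simp [MulAut.mul_apply, MulAut.conj_apply]
    rw [h3]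
    exact hg
  rw [h1, mem_bot, map_eq_one_iff g g.injective] at h2
  rw [has, h2, map_one, orderOf_one] at ha
  exact hp.1.one_lt.ne ha

/-- `Row` from an element normalising no `p`-subgroup and not centralised by an outer automorphism of order `p`. -/
theorem avoid_of_noNorm [Finite S] [hp : Fact p.Prime] (hZ : center S = ⊥) {a : MulAut S} (ha : orderOf a = p)
    {x : S} (h : NoNorm p x)
    (h2 : (∀ s : S, a ≠ MulAut.conj s) → ∀ g : MulAut S, (g * a * g⁻¹) x ≠ x) : Avoid p a x := by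
  by_cases h3 : ∃ s : S, a = MulAut.conj s
  · obtain ⟨s, hs⟩ := h3
    exact avoid_inner hZ ha hs h
  · push Not at h3
    exact avoid_of_pcent hZ h.not_dvd h.pcent (h2 h3)

/-- No element of order `p` commutes with `x` of prime order `l`, and `p ^ k ≡ 1 mod l` is impossible for the
`p ^ k` dividing the order of the group. -/
theorem noNorm_of_order [Finite S] [hp : Fact p.Prime] {x : S} {l : ℕ} (hl : l.Prime) (hx : orderOf x = l)
    (hcen : ∀ y : S, orderOf y = p → x * y ≠ y * x) (hord : ∀ k : ℕ, k ≠ 0 → p ^ k ∣ Nat.card S → ¬ l ∣ p ^ k - 1) :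
    NoNorm p x := by
  classical
  intro Q hQ hn
  have : Fact l.Prime := ⟨hl⟩
  obtain ⟨k, hk⟩ := IsPGroup.iff_card.1 hQ
  by_contra hb
  have hk0 : k ≠ 0 := by
    rintro rfl
    rw [pow_zero, Subgroup.card_eq_one] at hk
    exact hb hk
  have hdvd : p ^ k ∣ Nat.card S := hk ▸ Subgroup.card_subgroup_dvd_card Q
  apply hord k hk0 hdvd
  -- the action of `zpowers x` on `Q` by conjugation
  have hn' : zpowers x ≤ normalizer (Q : Set S) := by rwa [zpowers_le]
  let act : MulAction ↥(zpowers x) ↥Q :=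
    { smul := fun z y => ⟨(z : S) * y * (z : S)⁻¹, (mem_normalizer_iff.1 (hn' z.2) y).1 y.2⟩
      one_smul := fun y => Subtype.ext (by show ((1 : ↥(zpowers x)) : S) * y * ((1 : ↥(zpowers x)) : S)⁻¹ = y; simp)
      mul_smul := fun z z' y => Subtype.ext (by
        show ((z * z' : ↥(zpowers x)) : S) * y * ((z * z' : ↥(zpowers x)) : S)⁻¹ =
          (z : S) * ((z' : S) * y * (z' : S)⁻¹) * (z : S)⁻¹
        simp [mul_assoc]) }
  have hsm : ∀ (z : ↥(zpowers x)) (y : ↥Q), ((z • y : ↥Q) : S) = (z : S) * y * (z : S)⁻¹ := fun _ _ => rfl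
  have hlg : IsPGroup l ↥(zpowers x) := IsPGroup.of_card (n := 1) (by rw [Nat.card_zpowers, hx, pow_one])
  have h1 := hlg.card_modEq_card_fixedPoints (↥Q)
  have h2 : Nat.card (MulAction.fixedPoints ↥(zpowers x) ↥Q) = 1 := by
    rw [Nat.card_eq_one_iff_unique]
    refine ⟨⟨?_⟩, ⟨⟨1, ?_⟩⟩⟩
    · have h3 : ∀ y : MulAction.fixedPoints ↥(zpowers x) ↥Q, ((y : ↥Q) : S) = 1 := by
        rintro ⟨y, hy⟩
        have h4 := congrArg Subtype.val (hy ⟨x, mem_zpowers x⟩)
        rw [hsm] at h4
        have h5 : x * (y : S) = y * x := mul_inv_eq_iff_eq_mul.1 h4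
        by_contra hne
        -- an element of order `p` among the powers of `y`
        obtain ⟨j, hj⟩ := hQ y
        have hj' : (y : S) ^ p ^ j = 1 := by simpa using congrArg Subtype.val hj
        obtain ⟨i, -, hi⟩ := (Nat.dvd_prime_pow hp.1).1 (orderOf_dvd_of_pow_eq_one hj')
        have hi0 : i ≠ 0 := by
          rintro rfl
          rw [pow_zero, orderOf_eq_one_iff] at hi
          exact hne hi
        obtain ⟨i', rfl⟩ := Nat.exists_eq_succ_of_ne_zero hi0
        have h6 : orderOf ((y : S) ^ p ^ i') = p := by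
          rw [orderOf_pow_of_dvd (pow_ne_zero _ hp.1.ne_zero) (by rw [hi]; exact pow_dvd_pow _ (Nat.le_succ _)), hi,
            Nat.pow_div (Nat.le_succ _) hp.1.pos]
          simp
        exact hcen _ h6 ((show Commute x (y : S) from h5).pow_right _).eq
      intro y y'
      exact Subtype.ext (Subtype.ext ((h3 y).trans (h3 y').symm))
    · intro z
      exact Subtype.ext (by rw [hsm]; simp)
  rw [h2, hk] at h1
  exact (Nat.modEq_iff_dvd' (Nat.one_le_pow _ _ hp.1.pos)).1 h1.symm

end Cfsg.Agent.H568
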