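import Mathlib
import Cfsg.Prelude.Def_Solvable
import Cfsg.Agent.Solvable.Zipper
import Cfsg.Agent.PLocal.SubnormalCore

/-!
Subnormality of `p`-subgroups in overgroups: basic criteria.
-/

set_option autoImplicit false

namespace Cfsg.Agent.H568.Sn

open Cfsg

variable {G : Type*} [Group G]

/-- In a finite `p`-group every subgroup is subnormal. -/
theorem subnormal_of_pgroup {P : Type*} [Group P] [Finite P] {p : ℕ} [Fact p.Prime]
    (hP : IsPGroup p P) (A : Subgroup P) : A.IsSubnormal :=
  Cfsg.Agent.Solvable.Zipper.isSubnormal_of_isNilpotent hP.isNilpotent A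

/-- A subgroup of a normal `p`-subgroup is subnormal. -/
theorem subnormal_of_le_normal [Finite G] {p : ℕ} [Fact p.Prime] {A N : Subgroup G}
    (hN : N.Normal) (hp : IsPGroup p N) (h : A ≤ N) : A.IsSubnormal :=
  Subgroup.IsSubnormal.trans h (subnormal_of_pgroup hp _) hN.isSubnormal

/-- If `A ≤ R`, `R` a `p`-group normalized by `L ≥ A`, then `A` is subnormal in `L`. -/
theorem subnormal_of_normalized [Finite G] {p : ℕ} [Fact p.Prime] {A R L : Subgroup G}
    (hR : IsPGroup p R) (hA : A ≤ R) (hL : L ≤ Subgroup.normalizer (R : Set G)) :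
    (A.subgroupOf L).IsSubnormal := by
  refine subnormal_of_le_normal (p := p) (N := R.subgroupOf L) ?_ ?_ ?_
  · refine ⟨fun x hx g => ?_⟩
    rw [Subgroup.mem_subgroupOf] at hx ⊢
    have := (Subgroup.mem_normalizer_iff.mp (hL g.2) (x : G)).mp hx
    simpa using this
  · exact hR.comap_of_injective L.subtype (Subgroup.subtype_injective L)
  · intro x hx
    exact hA hx

/-- A `p`-subgroup subnormal in `L` lies in `O_p(L)`. -/
theorem le_pCore_of_subnormal {p : ℕ} {A L : Subgroup G} (hA : IsPGroup p A)
    (h : (A.subgroupOf L).IsSubnormal) : A.subgroupOf L ≤ pCore p L :=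
  Cfsg.Agent.PLocal.SubnormalCore.le_pCore_of_isSubnormal h
    (hA.comap_of_injective L.subtype (Subgroup.subtype_injective L))

end Cfsg.Agent.H568.Sn
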