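import Cfsg.Agent.H719.AutForm
import Cfsg.Agent.H719.AutInv
import Cfsg.Agent.H522.FldUntw
import Cfsg.Agent.H568.FieldFix
import Cfsg.Agent.ChevalleyStructure.OrderFinal
import Cfsg.Agent.ChevalleyStructure.CardCombAll

/-!
# Field automorphisms of the exceptional Chevalley groups (helper568)

`D` one of `G2, F4, E6, E7, E8`, `F` a field with `r ^ e` elements, `a` an automorphism of odd prime order `p` of
`D.group F`.

* `field_or_lin` : `a` is conjugation by an element of `D.group k`, or `p ∣ e` and every element of prime order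
  `l` (prime to `d'`) fixed by `a` is conjugate in `D.group k` to an element of `D.group F₀`, `|F₀| = r ^ (e / p)`;
* `lin_or_dvd` : in the second case `l ∣ r ^ (e / p * m) - 1` for one of the degrees `m`.
-/

set_option autoImplicit false
set_option linter.unusedSectionVars false

namespace Cfsg.Agent.H568.FldExc

open CoxeterSystem Cfsg Cfsg.Lie Cfsg.Lie.ChevalleyDatum
open Cfsg.Agent.ChevalleyStructure Cfsg.Agent.ChevalleyStructure.Elts Cfsg.Agent.ChevalleyStructure.CoxeterGeom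
  Cfsg.Agent.ChevalleyStructure.CoxeterGeomTypes Cfsg.Agent.ChevalleyStructure.NPerm
open Cfsg.Agent.Tits.Roots Cfsg.Agent.Tits.Core Cfsg.Agent.Nodes Cfsg.Agent.Nodes.Reps Cfsg.Agent.Nodes.BNOf
  Cfsg.Agent.Nodes.RGDChev
open Cfsg.Agent.KFacts.RgdChevCoord Cfsg.Agent.GpExc.Field Cfsg.Agent.BpExc.Fr Cfsg.Agent.BpExc.LangFr
  Cfsg.Agent.BpExc.TowChev Cfsg.Agent.BpExc
open Cfsg.Agent.H129.TorusChar Cfsg.Agent.H129.TorusMain Cfsg.Agent.H129.TorusUntw
open Cfsg.Agent.H70.ChevFix Cfsg.Agent.H70.ChevField Cfsg.Agent.H70.OutCount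
open Cfsg.Agent.H719.AutForm

universe u

section Gen

variable {D : ChevalleyDatum} {l : ℕ} {M : CoxeterMatrix (Fin l)} (hp : IsType D l M) {k : Type u} [Field k]
  {W : Type*} [Group W] (cs : CoxeterSystem M W) {r e : ℕ} [Fact r.Prime] [CharP k r]

include hp

theorem phi_add [IsAlgClosed k] (i j : ℕ) (g : ↥(D.group k)) :
    phi D k r (i + j) g = phi D k r i (phi D k r j g) := by
  rw [phi_eq hp, phi_eq hp (e := j), phi_eq hp (e := i), emb_comp]
  congr 1
  have h : iterateFrobenius k r (i + j) = (iterateFrobenius k r i).comp (iterateFrobenius k r j) := by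
    ext x
    rw [RingHom.comp_apply, iterateFrobenius_def, iterateFrobenius_def, iterateFrobenius_def, ← pow_mul, pow_add,
      mul_comm]
  rw [h]

theorem phi_mul_fix [IsAlgClosed k] {Y : ↥(D.group k)} (hY : phi D k r e Y = Y) (m : ℕ) :
    phi D k r (m * e) Y = Y := by
  induction m with
  | zero =>
    have h := phi_add hp (k := k) (r := r) 0 0 Y
    rw [zero_mul]
    exact (phi D k r 0).injective (by rw [← phi_add hp, add_zero])
  | succ m ih => rw [add_mul, one_mul, phi_add hp, hY, ih]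

/-- Iteration of a relation `Mt * φ_j(Y) * Mt⁻¹ = Y`. -/
theorem iterate [IsAlgClosed k] {Y Mt : ↥(D.group k)} {j : ℕ} (hY : Mt * phi D k r j Y * Mt⁻¹ = Y) (s : ℕ) :
    ∃ N : ↥(D.group k), N * phi D k r (s * j) Y * N⁻¹ = Y := by
  induction s with
  | zero =>
    refine ⟨1, ?_⟩
    rw [zero_mul, one_mul, inv_one, mul_one]
    exact (phi D k r 0).injective (by rw [← phi_add hp, add_zero])
  | succ s ih =>
    obtain ⟨N, hN⟩ := ih
    refine ⟨Mt * phi D k r j N, ?_⟩
    have h1 := congrArg (phi D k r j) hN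
    rw [map_mul, map_mul, map_inv, ← phi_add hp] at h1
    have h2 : (s + 1) * j = j + s * j := by ring
    rw [h2]
    calc Mt * phi D k r j N * phi D k r (j + s * j) Y * (Mt * phi D k r j N)⁻¹
        = Mt * (phi D k r j N * phi D k r (j + s * j) Y * (phi D k r j N)⁻¹) * Mt⁻¹ := by group
      _ = Y := by rw [h1, hY]

/-- Reduction of the exponent. -/
theorem reduce [IsAlgClosed k] {p : ℕ} (hpp : p.Prime) {Y Mt : ↥(D.group k)} {j : ℕ} (hY : Mt * phi D k r j Y * Mt⁻¹ = Y)
    (hYe : phi D k r e Y = Y) (he : 0 < e) (h1 : e ∣ p * j) (h2 : ¬ e ∣ j) :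
    p ∣ e ∧ ∃ N : ↥(D.group k), N * phi D k r (e / p) Y * N⁻¹ = Y := by
  have hpe : p ∣ e := by
    by_contra hcon
    exact h2 ((Nat.Coprime.dvd_mul_left ((Nat.coprime_comm.1 ((Nat.Prime.coprime_iff_not_dvd hpp).2 hcon)))).1 h1)
  refine ⟨hpe, ?_⟩
  obtain ⟨c, rfl⟩ := hpe
  have hp0 := hpp.pos
  rw [Nat.mul_div_cancel_left _ hp0]
  have hc : c ∣ j := Nat.dvd_of_mul_dvd_mul_left hp0 h1
  obtain ⟨i, rfl⟩ := hc
  have hc0 : 0 < c := Nat.pos_of_mul_pos_left he |> fun h => by
    rcases Nat.eq_zero_or_pos c with h0 | h0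
    · subst h0; simp at he
    · exact h0
  have hpi : ¬ p ∣ i := by
    rintro ⟨m, rfl⟩
    exact h2 ⟨m, by ring⟩
  have hcop : Nat.Coprime i p := (Nat.coprime_comm.1 ((Nat.Prime.coprime_iff_not_dvd hpp).2 hpi))
  obtain ⟨s, hs⟩ := Nat.exists_mul_mod_eq_one_of_coprime hcop hpp.one_lt
  have h3 : i * s = p * (i * s / p) + 1 := by
    have := Nat.div_add_mod (i * s) p
    omega
  obtain ⟨N, hN⟩ := iterate hp hY s
  refine ⟨N, ?_⟩
  have h4 : s * (c * i) = c + (i * s / p) * (p * c) := by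
    calc s * (c * i) = c * (i * s) := by ring
      _ = c * (p * (i * s / p) + 1) := by rw [← h3]
      _ = c + (i * s / p) * (p * c) := by ring
  rw [h4, phi_add hp, phi_mul_fix hp hYe] at hN
  exact hN

variable {F : Type u} [Field F] [Fintype F] (f : F →+* k)

/-- **Elements fixed by the Frobenius of order prime to `d` lie in `D.group F`.** -/
theorem mem_range_of_fix [IsAlgClosed k] (hq : Fintype.card F = r ^ e) {d : ℕ} {B : Fin l → Fin l → ℤ}
    (hB : InvC D l d B) (hd : d ≠ 0) {g : ↥(D.group k)} (hg : phi D k r e g = g) {n : ℕ} (hn : g ^ n = 1)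
    (hnd : n.Coprime d) : g ∈ (emb hp.inList f).range := by
  obtain ⟨x, t, ht, rfl⟩ := fix_split hp f hq hg
  have ht1 : phi D k r e t = t := by
    rw [map_mul, phi_emb hp f hq] at hg
    exact mul_left_cancel hg
  have ht2 := fix_pow hp M.toCoxeterSystem f hq hB hd ht ht1
  refine H522.FldUntw.mem_of_pow_mem (N := (emb hp.inList f).range) hn (m := d) ?_ hnd
  refine H522.FldUntw.pow_mem_of_split (N := (emb hp.inList f).range) ⟨_, rfl⟩ (fun b hb => ?_) ht2
  exact Emb.conj_mem_range hp.inList (f := f) (φ := iterateFrobenius k r e) (fun t => by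
    rw [iterateFrobenius_def, hq]) (σ := phi D k r e) (fun y => coe_phi y) ht1 hb

end Gen

theorem dvd_of_frob {F : Type*} [Field F] [Fintype F] {r e m : ℕ} (hr : r.Prime) (hq : Fintype.card F = r ^ e)
    (h : ∀ x : F, x ^ r ^ m = x) : e ∣ m := by
  classical
  obtain ⟨g, hg⟩ := IsCyclic.exists_generator (α := Fˣ)
  have h1 : orderOf g = r ^ e - 1 := by
    rw [orderOf_eq_card_of_forall_mem_zpowers hg, Nat.card_units, Nat.card_eq_fintype_card, hq]
  have h2 : g ^ (r ^ m - 1) = 1 := by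
    have h3 : g ^ r ^ m = g := Units.ext (by rw [Units.val_pow_eq_pow_val]; exact h _)
    have h4 : 1 ≤ r ^ m := Nat.one_le_pow _ _ hr.pos
    have h5 : g ^ (r ^ m - 1) * g = g := by
      rw [← pow_succ, Nat.sub_add_cancel h4, h3]
    exact mul_eq_right.1 h5
  have h3 : r ^ e - 1 ∣ r ^ m - 1 := h1 ▸ orderOf_dvd_of_pow_eq_one h2
  have h4 := Nat.pow_sub_one_gcd_pow_sub_one r e m
  rw [Nat.gcd_eq_left h3] at h4
  have h5 : 1 ≤ r ^ e := Nat.one_le_pow _ _ hr.pos
  have h6 : 1 ≤ r ^ Nat.gcd e m := Nat.one_le_pow _ _ hr.pos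
  have h7 : r ^ e = r ^ Nat.gcd e m := by omega
  have h8 := Nat.pow_right_injective hr.two_le h7
  rw [h8]
  exact Nat.gcd_dvd_right _ _

theorem frob_of_dvd {F : Type*} [Field F] [Fintype F] {r e m : ℕ} (hq : Fintype.card F = r ^ e) (h : e ∣ m) (x : F) :
    x ^ r ^ m = x := by
  obtain ⟨c, rfl⟩ := h
  induction c with
  | zero => rw [mul_zero, pow_zero, pow_one]
  | succ c ih => rw [mul_add, mul_one, pow_add, pow_mul, ih, ← hq, FiniteField.pow_card]

section Main

variable {D : ChevalleyDatum} {l : ℕ} {M : CoxeterMatrix (Fin l)} (hp : IsType D l M) {k : Type u} [Field k]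
  {W : Type*} [Group W] (cs : CoxeterSystem M W) {r e : ℕ} [Fact r.Prime] [CharP k r]
  {F : Type u} [Field F] [Fintype F] (f : F →+* k)

include hp in
/-- `phi j` on the image of `emb` depends only on the action on `F`. -/
theorem phi_emb_of [IsAlgClosed k] {j : ℕ} (h : ∀ x : F, x ^ r ^ j = x) (y : ↥(D.group F)) :
    phi D k r j (emb hp.inList f y) = emb hp.inList f y := by
  rw [phi_eq hp, emb_comp]
  congr 1
  have h : (iterateFrobenius k r j).comp f = f := by
    ext a
    rw [RingHom.comp_apply, iterateFrobenius_def, ← map_pow, h]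
  rw [h]

/-- **An automorphism of odd prime order is conjugation by an element of `D.group k` or a field automorphism.** -/
theorem lin_or_fld [IsAlgClosed k] [CharP F r] (hq : Fintype.card F = r ^ e) (he : 0 < e) {d' : ℕ}
    {B' : Fin l → Fin l → ℤ} (hB : InvC D l d' B') (hd' : d' ≠ 0) (hR : ∀ π ∈ realised hp.inList F, π * π = 1)
    {a : MulAut ↥(D.group F)} {p : ℕ} (hpp : p.Prime) (hp2 : p ≠ 2) (ha : a ^ p = 1) :
    (∃ Mt : ↥(D.group k), phi D k r e Mt = Mt ∧
      ∀ y : ↥(D.group F), emb hp.inList f (a y) = Mt * emb hp.inList f y * Mt⁻¹) ∨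
    (p ∣ e ∧ ∃ (F₀ : Type u) (_ : Field F₀) (_ : Fintype F₀), Fintype.card F₀ = r ^ (e / p) ∧
      ∀ (y : ↥(D.group F)) (n : ℕ), a y = y → y ^ n = 1 → n.Coprime d' →
        ∃ y₀ : ↥(D.group F₀), orderOf y₀ = orderOf y) := by
  classical
  obtain ⟨Mt, τ, j, hMt, hτ, hj, -, hform⟩ := aut_form hp M.toCoxeterSystem f hq hB hd' hR
    (hpp.odd_of_ne_two hp2) ha
  by_cases hτ1 : τ = 1
  · left
    refine ⟨Mt, hMt, fun y => ?_⟩
    rw [hform, phi_emb_of hp f (fun x => by rw [← hj, hτ1]; rfl)]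
  · right
    have h1 : ∀ (m : ℕ) (x : F), (τ ^ m) x = x ^ r ^ (m * j) := by
      intro m
      induction m with
      | zero => intro x; simp
      | succ m ih =>
        intro x
        rw [pow_succ, RingAut.mul_apply, ih, hj, ← pow_mul, ← pow_add]
        congr 2
        ring
    have h2 : e ∣ p * j := dvd_of_frob (Fact.out : r.Prime) hq fun x => by
      rw [← h1, hτ]; rfl
    have h3 : ¬ e ∣ j := by
      intro h
      apply hτ1
      ext x
      rw [hj]
      exact frob_of_dvd hq h x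
    have hpe : p ∣ e := by
      by_contra hcon
      exact h3 ((Nat.Coprime.dvd_mul_left ((Nat.coprime_comm.1 ((Nat.Prime.coprime_iff_not_dvd hpp).2 hcon)))).1 h2)
    have hc := Cfsg.Agent.H568.FieldFix.card_fx hpp hτ hτ1
    have : Fintype ↥(Cfsg.Agent.H568.FieldFix.fx τ) := Fintype.ofFinite _
    have hc' : Fintype.card ↥(Cfsg.Agent.H568.FieldFix.fx τ) = r ^ (e / p) := by
      rw [Nat.card_eq_fintype_card, Nat.card_eq_fintype_card, hq] at hc
      obtain ⟨c, rfl⟩ := hpe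
      rw [Nat.mul_div_cancel_left _ hpp.pos]
      rw [mul_comm, pow_mul] at hc
      exact (Nat.pow_left_injective hpp.ne_zero hc).symm
    have he0 : 0 < e / p := Nat.div_pos (Nat.le_of_dvd he hpe) hpp.pos
    refine ⟨hpe, ↥(Cfsg.Agent.H568.FieldFix.fx τ), inferInstance, inferInstance, hc', fun y n hy hyn hnd => ?_⟩
    have hY : Mt * phi D k r j (emb hp.inList f y) * Mt⁻¹ = emb hp.inList f y := by rw [← hform, hy]
    obtain ⟨-, N, hN⟩ := reduce hp hpp hY (phi_emb hp f hq y) he h2 h3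
    obtain ⟨z, hz⟩ := lang_all hp M.toCoxeterSystem he0 (isFrob_phi (D := D) (k := k) (p := r) (e := e / p))
      (fr_phi (k := k) (p := r) (e := e / p) hp M.toCoxeterSystem) 1 N
    rw [map_one, one_mul] at hz
    set Y := emb hp.inList f y with hYdef
    have hfix : phi D k r (e / p) (z * Y * z⁻¹) = z * Y * z⁻¹ := by
      have h4 : phi D k r (e / p) Y = N⁻¹ * Y * N := by
        conv_rhs => rw [← hN]
        group
      have h5 : phi D k r (e / p) z = z * N := by rw [hz, mul_inv_cancel_left]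
      rw [map_mul, map_mul, map_inv, h5, h4]
      group
    have hYn : (z * Y * z⁻¹) ^ n = 1 := by
      rw [conj_pow, hYdef, ← map_pow, hyn, map_one, mul_one, mul_inv_cancel]
    obtain ⟨y₀, hy₀⟩ := mem_range_of_fix hp (f.comp (Cfsg.Agent.H568.FieldFix.fx τ).subtype) hc' hB hd' hfix hYn hnd
    refine ⟨y₀, ?_⟩
    have h6 : orderOf (emb hp.inList (f.comp (Cfsg.Agent.H568.FieldFix.fx τ).subtype) y₀) = orderOf y₀ :=
      orderOf_injective _ (emb_injective hp.inList _) y₀
    rw [← h6, hy₀]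
    have h7 : orderOf (MulAut.conj z Y) = orderOf Y := orderOf_injective (MulAut.conj z).toMonoidHom
      (MulAut.conj z).injective Y
    rw [MulAut.conj_apply] at h7
    rw [h7]
    exact orderOf_injective _ (emb_injective hp.inList f) y

/-- The order is of the form `q ^ N * ∏ (q ^ m - 1)` up to a factor. -/
def OrdF (D : ChevalleyDatum) (degs : List ℕ) : Prop :=
  ∀ (F₀ : Type u) [Field F₀] [Fintype F₀], ∃ N : ℕ,
    Nat.card ↥(D.group F₀) ∣ Fintype.card F₀ ^ N * (degs.map fun m => Fintype.card F₀ ^ m - 1).prod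

include hp in
/-- **Field automorphisms fix only elements of small order.** -/
theorem lin_of_fix [IsAlgClosed k] [CharP F r] (hq : Fintype.card F = r ^ e) (he : 0 < e) {d' : ℕ}
    {B' : Fin l → Fin l → ℤ} (hB : InvC D l d' B') (hd' : d' ≠ 0) (hR : ∀ π ∈ realised hp.inList F, π * π = 1)
    {degs : List ℕ} (hO : OrdF.{u} D degs)
    {a : MulAut ↥(D.group F)} {p : ℕ} (hpp : p.Prime) (hp2 : p ≠ 2) (ha : a ^ p = 1) {y : ↥(D.group F)} {n : ℕ}
    (hn : n.Prime) (hnr : n ≠ r) (hnd : n.Coprime d') (hy : orderOf y = n) (hay : a y = y) {h : ℕ}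
    (hord : ∀ m, n ∣ r ^ m - 1 → e * h ∣ m) (hh : ∀ m ∈ degs, 0 < m ∧ m < 3 * h) :
    ∃ Mt : ↥(D.group k), phi D k r e Mt = Mt ∧
      ∀ y : ↥(D.group F), emb hp.inList f (a y) = Mt * emb hp.inList f y * Mt⁻¹ := by
  rcases lin_or_fld hp f hq he hB hd' hR hpp hp2 ha with h1 | ⟨hpe, F₀, _, _, hF₀, h1⟩
  · exact h1
  exfalso
  obtain ⟨y₀, hy₀⟩ := h1 y n hay (by rw [← hy, pow_orderOf_eq_one]) hnd
  obtain ⟨N, hN⟩ := hO F₀
  have hr : r.Prime := Fact.out
  have h2 : n ∣ Fintype.card F₀ ^ N * (degs.map fun m => Fintype.card F₀ ^ m - 1).prod := by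
    have h3 : orderOf y₀ ∣ Nat.card ↥(D.group F₀) := orderOf_dvd_natCard y₀
    rw [hy₀, hy] at h3
    exact h3.trans hN
  rcases (hn.dvd_mul).1 h2 with h3 | h3
  · have h4 := hn.dvd_of_dvd_pow h3
    rw [hF₀] at h4
    exact hnr ((Nat.prime_dvd_prime_iff_eq hn hr).1 (hn.dvd_of_dvd_pow h4))
  · obtain ⟨x, hx, hnx⟩ := (Prime.dvd_prod_iff hn.prime).1 h3
    rw [List.mem_map] at hx
    obtain ⟨m, hm, rfl⟩ := hx
    rw [hF₀, ← pow_mul] at hnx
    have h4 := hord _ hnx
    obtain ⟨c, rfl⟩ := hpe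
    rw [Nat.mul_div_cancel_left _ hpp.pos] at h4
    have hc : 0 < c := by
      rcases Nat.eq_zero_or_pos c with rfl | h0
      · simp at he
      · exact h0
    have h5 : c * (p * h) ∣ c * m := by
      have h6 : c * (p * h) = p * c * h := by ring
      rw [h6]; exact h4
    have h6 := Nat.le_of_dvd (hh m hm).1 (Nat.dvd_of_mul_dvd_mul_left hc h5)
    have h7 : 3 ≤ p := by
      have := hpp.two_le
      omega
    have h8 : 3 * h ≤ p * h := Nat.mul_le_mul_right h h7
    have := (hh m hm).2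
    omega

end Main

/-! ### orders -/

theorem ordF_G2 : OrdF.{u} chevG2 [2, 6] := fun F₀ _ _ =>
  ⟨_, Dvd.intro_left _ (OrderFinal.order_formula (F := F₀) rfl chevG2 1 [2, 6] (by simp) (by simp [InList])
    (CardCombAll.comb_of_mem (by simp)) (by simp) rfl)⟩

theorem ordF_F4 : OrdF.{u} chevF4 [2, 6, 8, 12] := fun F₀ _ _ =>
  ⟨_, Dvd.intro_left _ (OrderFinal.order_formula (F := F₀) rfl chevF4 1 [2, 6, 8, 12] (by simp) (by simp [InList])
    (CardCombAll.comb_of_mem (by simp)) (by simp) rfl)⟩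

theorem ordF_E6 : OrdF.{u} chevE6 [2, 5, 6, 8, 9, 12] := fun F₀ _ _ =>
  ⟨_, Dvd.intro_left _ (OrderFinal.order_formula (F := F₀) rfl chevE6 (Nat.gcd 3 (Fintype.card F₀ - 1))
    [2, 5, 6, 8, 9, 12] (by simp) (by simp [InList]) (CardCombAll.comb_of_mem (by simp)) (by simp) rfl)⟩

theorem ordF_E7 : OrdF.{u} chevE7 [2, 6, 8, 10, 12, 14, 18] := fun F₀ _ _ =>
  ⟨_, Dvd.intro_left _ (OrderFinal.order_formula (F := F₀) rfl chevE7 (Nat.gcd 2 (Fintype.card F₀ - 1))
    [2, 6, 8, 10, 12, 14, 18] (by simp) (by simp [InList]) (CardCombAll.comb_of_mem (by simp)) (by simp) rfl)⟩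

theorem ordF_E8 : OrdF.{u} chevE8 [2, 8, 12, 14, 18, 20, 24, 30] := fun F₀ _ _ =>
  ⟨_, Dvd.intro_left _ (OrderFinal.order_formula (F := F₀) rfl chevE8 1 [2, 8, 12, 14, 18, 20, 24, 30] (by simp)
    (by simp [InList]) (CardCombAll.comb_of_mem (by simp)) (by simp) rfl)⟩

end Cfsg.Agent.H568.FldExc
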