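import Cfsg.Agent.H568.ESixThreeB
import Cfsg.Agent.H568.FldExc
import Cfsg.Agent.Lib.Zsigmondy
import Cfsg.Agent.S1054
import Cfsg.Agent.S1093

/-!
# The row of E6(q), q = 1 mod 3, p = 3, in S4329 (helper568)

`e6_three` : `Row 3 ↥(chevE6.group F)` if `3 ∣ |F| - 1`.
-/

set_option autoImplicit false
set_option linter.unusedSectionVars false

namespace Cfsg.Agent.H568.ESixThree

open CoxeterSystem Cfsg Cfsg.Lie Cfsg.Lie.ChevalleyDatum
open Cfsg.Agent.ChevalleyStructure Cfsg.Agent.ChevalleyStructure.Elts Cfsg.Agent.ChevalleyStructure.CoxeterGeom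
  Cfsg.Agent.ChevalleyStructure.CoxeterGeomTypes Cfsg.Agent.ChevalleyStructure.NPerm
open Cfsg.Agent.Tits.Roots Cfsg.Agent.Tits.Core Cfsg.Agent.Nodes Cfsg.Agent.Nodes.Reps Cfsg.Agent.Nodes.BNOf
  Cfsg.Agent.Nodes.RGDChev
open Cfsg.Agent.KFacts.RgdChevCoord Cfsg.Agent.GpExc.Field Cfsg.Agent.BpExc.Fr Cfsg.Agent.BpExc.LangFr
  Cfsg.Agent.BpExc.TowChev Cfsg.Agent.BpExc
open Cfsg.Agent.H129.TorusChar Cfsg.Agent.H129.TorusCent Cfsg.Agent.H129.TorusTw Cfsg.Agent.H129.TorusMain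
  Cfsg.Agent.H129.TorusUntw Cfsg.Agent.H719.RowTorus Cfsg.Agent.H719

universe u

/-! ### numbers -/

theorem nine_mod {q : ℕ} (hq : 3 ∣ q - 1) (hq1 : 1 < q) : (q ^ 6 + q ^ 3 + 1) % 9 = 3 := by
  have h : q % 9 = 1 ∨ q % 9 = 4 ∨ q % 9 = 7 := by omega
  rcases h with h | h | h <;> simp [Nat.pow_mod, Nat.add_mod, h]

theorem twelve_mod {q : ℕ} (hq : 3 ∣ q - 1) (hq1 : 1 < q) : ((q ^ 4 - q ^ 2 + 1) * (q ^ 2 + q + 1)) % 9 = 3 := by
  have h : q % 9 = 1 ∨ q % 9 = 4 ∨ q % 9 = 7 := by omega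
  have h0 : q ^ 2 ≤ q ^ 4 := Nat.pow_le_pow_right (by omega) (by norm_num)
  obtain ⟨m, hm⟩ : ∃ m, m = q ^ 4 - q ^ 2 + 1 := ⟨_, rfl⟩
  have h1 : m + q ^ 2 = q ^ 4 + 1 := by omega
  rw [← hm]
  have h2 : (m + q ^ 2) % 9 = (q ^ 4 + 1) % 9 := by rw [h1]
  rcases h with h | h | h
  · have h3 : q ^ 2 % 9 = 1 := by simp [Nat.pow_mod, h]
    have h4 : q ^ 4 % 9 = 1 := by simp [Nat.pow_mod, h]
    have h5 : m % 9 = 1 := by omega
    simp [Nat.mul_mod, Nat.add_mod, h3, h, h5]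
  · have h3 : q ^ 2 % 9 = 7 := by simp [Nat.pow_mod, h]
    have h4 : q ^ 4 % 9 = 4 := by simp [Nat.pow_mod, h]
    have h5 : m % 9 = 7 := by omega
    simp [Nat.mul_mod, Nat.add_mod, h3, h, h5]
  · have h3 : q ^ 2 % 9 = 4 := by simp [Nat.pow_mod, h]
    have h4 : q ^ 4 % 9 = 7 := by simp [Nat.pow_mod, h]
    have h5 : m % 9 = 4 := by omega
    simp [Nat.mul_mod, Nat.add_mod, h3, h, h5]

theorem three_of_mod {N : ℕ} (h : N % 9 = 3) : 3 ∣ N ∧ ¬ 3 ∣ N / 3 := by omega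

theorem prime_five {r : ℕ} (hr : r.Prime) (h2 : r ≠ 2) (h3 : r ≠ 3) (h5 : r ≠ 5) : ¬ r ∣ 51840 := by
  intro h
  have h0 : (51840 : ℕ) = 2 ^ 7 * 3 ^ 4 * 5 := by norm_num
  rw [h0] at h
  rcases (Nat.Prime.dvd_mul hr).1 h with h | h
  · rcases (Nat.Prime.dvd_mul hr).1 h with h | h
    · exact h2 ((Nat.prime_dvd_prime_iff_eq hr Nat.prime_two).1 (hr.dvd_of_dvd_pow h))
    · exact h3 ((Nat.prime_dvd_prime_iff_eq hr Nat.prime_three).1 (hr.dvd_of_dvd_pow h))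
  · exact h5 ((Nat.prime_dvd_prime_iff_eq hr Nat.prime_five).1 h)

theorem ne_nine {q r : ℕ} (h : r ∣ q ^ 6 + q ^ 3 + 1) : r ≠ 2 ∧ r ≠ 5 := by
  have h4 : ((q : ZMod r) ^ 6 + (q : ZMod r) ^ 3 + 1 = 0) := by
    have := (ZMod.natCast_eq_zero_iff (q ^ 6 + q ^ 3 + 1) r).2 h
    push_cast at this
    exact this
  refine ⟨?_, ?_⟩ <;> rintro rfl
  · generalize (q : ZMod 2) = x at h4; revert h4; revert x; decide
  · generalize (q : ZMod 5) = x at h4; revert h4; revert x; decide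

theorem ne_twelve {q r : ℕ} (hq : 1 ≤ q) (h : r ∣ q ^ 4 - q ^ 2 + 1) : r ≠ 2 ∧ r ≠ 3 ∧ r ≠ 5 := by
  have h0 : q ^ 2 ≤ q ^ 4 := Nat.pow_le_pow_right hq (by norm_num)
  have h4 : ((q : ZMod r) ^ 4 - (q : ZMod r) ^ 2 + 1 = 0) := by
    have := (ZMod.natCast_eq_zero_iff (q ^ 4 - q ^ 2 + 1) r).2 h
    push_cast [Nat.cast_sub h0] at this
    exact this
  refine ⟨?_, ?_, ?_⟩ <;> rintro rfl
  · generalize (q : ZMod 2) = x at h4; revert h4; revert x; decide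
  · generalize (q : ZMod 3) = x at h4; revert h4; revert x; decide
  · generalize (q : ZMod 5) = x at h4; revert h4; revert x; decide

/-- a primitive prime divisor of `q ^ 9 - 1` -/
theorem exists_nine {r e : ℕ} (hr : r.Prime) (he : 0 < e) (h3 : 3 ∣ r ^ e - 1) :
    ∃ n : ℕ, n.Prime ∧ n ≠ r ∧ n ≠ 3 ∧ n ∣ ((r ^ e) ^ 6 + (r ^ e) ^ 3 + 1) / 3 ∧ ∀ m, n ∣ r ^ m - 1 → e * 9 ∣ m := by
  obtain ⟨l, hl, hd, hl1, hlr⟩ := Lib.Zsigmondy.exists_primitive hr.two_le (n := e * 9) (by omega) (by omega) (by omega)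
  have hq1 : 1 < r ^ e := Nat.one_lt_pow he.ne' hr.one_lt
  have hln : l ≠ r := by
    rintro rfl
    have h1 : l ∣ l ^ (e * 9) - 1 := (hd _).2 dvd_rfl
    have h2 : l ∣ l ^ (e * 9) := dvd_pow_self l (by omega)
    have h4 : 1 ≤ l ^ (e * 9) := Nat.one_le_pow _ _ hr.pos
    have h5 := Nat.dvd_sub h2 h1
    rw [Nat.sub_sub_self h4] at h5
    exact hr.one_lt.ne' (Nat.dvd_one.1 h5)
  have hl3 : l ≠ 3 := by
    rintro rfl
    have := Nat.le_of_dvd (by norm_num) hl1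
    omega
  refine ⟨l, hl, hln, hl3, ?_, fun m hm => (hd m).1 hm⟩
  set q := r ^ e with hq
  have h9 : l ∣ q ^ 9 - 1 := by rw [hq, ← pow_mul, hd]
  have h3' : ¬ l ∣ q ^ 3 - 1 := by
    rw [hq, ← pow_mul, hd]
    intro h
    have := Nat.le_of_dvd (by omega) h
    omega
  have e1 : q ^ 9 - 1 = (q ^ 3 - 1) * (q ^ 6 + q ^ 3 + 1) := by
    have h01 : 1 ≤ q ^ 9 := Nat.one_le_pow _ _ (by omega)
    have h02 : 1 ≤ q ^ 3 := Nat.one_le_pow _ _ (by omega)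
    zify [h01, h02]
    ring
  rw [e1] at h9
  have h4 := (hl.dvd_mul.1 h9).resolve_left h3'
  obtain ⟨c, hc⟩ := (three_of_mod (nine_mod h3 hq1)).1
  rw [hc] at h4 ⊢
  rw [Nat.mul_div_cancel_left _ (by norm_num)]
  exact (hl.dvd_mul.1 h4).resolve_left fun h => hl3 ((Nat.prime_dvd_prime_iff_eq hl Nat.prime_three).1 h)

/-- a primitive prime divisor of `q ^ 12 - 1` -/
theorem exists_twelve {r e : ℕ} (hr : r.Prime) (he : 0 < e) :
    ∃ n : ℕ, n.Prime ∧ n ≠ r ∧ n ≠ 3 ∧ n ∣ (r ^ e) ^ 4 - (r ^ e) ^ 2 + 1 ∧ ∀ m, n ∣ r ^ m - 1 → e * 12 ∣ m := by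
  obtain ⟨l, hl, hd, hl1, hlr⟩ := Lib.Zsigmondy.exists_primitive hr.two_le (n := e * 12) (by omega) (by omega) (by omega)
  have hq1 : 1 < r ^ e := Nat.one_lt_pow he.ne' hr.one_lt
  have hln : l ≠ r := by
    rintro rfl
    have h1 : l ∣ l ^ (e * 12) - 1 := (hd _).2 dvd_rfl
    have h2 : l ∣ l ^ (e * 12) := dvd_pow_self l (by omega)
    have h4 : 1 ≤ l ^ (e * 12) := Nat.one_le_pow _ _ hr.pos
    have h5 := Nat.dvd_sub h2 h1
    rw [Nat.sub_sub_self h4] at h5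
    exact hr.one_lt.ne' (Nat.dvd_one.1 h5)
  have hl3 : l ≠ 3 := by
    rintro rfl
    have := Nat.le_of_dvd (by norm_num) hl1
    omega
  refine ⟨l, hl, hln, hl3, ?_, fun m hm => (hd m).1 hm⟩
  set q := r ^ e with hq
  have h12 : l ∣ q ^ 12 - 1 := by rw [hq, ← pow_mul, hd]
  have h6 : ¬ l ∣ q ^ 6 - 1 := by
    rw [hq, ← pow_mul, hd]
    intro h
    have := Nat.le_of_dvd (by omega) h
    omega
  have h4 : ¬ l ∣ q ^ 4 - 1 := by
    rw [hq, ← pow_mul, hd]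
    intro h
    have := Nat.le_of_dvd (by omega) h
    omega
  have e1 : q ^ 12 - 1 = (q ^ 6 - 1) * ((q ^ 2 + 1) * (q ^ 4 - q ^ 2 + 1)) := by
    have h0 : q ^ 2 ≤ q ^ 4 := Nat.pow_le_pow_right (by omega) (by norm_num)
    have h01 : 1 ≤ q ^ 12 := Nat.one_le_pow _ _ (by omega)
    have h02 : 1 ≤ q ^ 6 := Nat.one_le_pow _ _ (by omega)
    zify [h01, h02, h0]
    ring
  rw [e1] at h12
  refine (hl.dvd_mul.1 ((hl.dvd_mul.1 h12).resolve_left h6)).resolve_left fun h => h4 ?_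
  have e2 : q ^ 4 - 1 = (q ^ 2 + 1) * (q ^ 2 - 1) := by
    have h01 : 1 ≤ q ^ 4 := Nat.one_le_pow _ _ (by omega)
    have h02 : 1 ≤ q ^ 2 := Nat.one_le_pow _ _ (by omega)
    zify [h01, h02]
    ring
  rw [e2]
  exact h.mul_right _

theorem trace_conj' {D : ChevalleyDatum} {k : Type u} [Field k] (g h : ↥(D.group k)) :
    Matrix.trace (((g⁻¹ * h * g : ↥(D.group k)) : GL D.Idx k) : Matrix D.Idx D.Idx k) =
      Matrix.trace ((h : GL D.Idx k) : Matrix D.Idx D.Idx k) := by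
  rw [Subgroup.coe_mul, Subgroup.coe_mul, Units.val_mul, Units.val_mul, Subgroup.coe_inv]
  exact Matrix.trace_units_conj' _ _

/-- **The conjugate element fixed by `a`.** -/
theorem exists_fix {S : Type*} [Group S] [Finite S] (hZ : Subgroup.center S = ⊥) {a : MulAut S} (ha : orderOf a = 3)
    {x : S} (hx : NoNorm 3 x) (hA : ¬ Avoid 3 a x) {n : ℕ} (hn : n.Prime) (hnx : n ∣ orderOf x)
    (hc : ∀ s ∈ Subgroup.zpowers x, s ≠ 1 → IsCyclic ↥(Subgroup.centralizer ({s} : Set S))) :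
    ∃ v s : S, v ∈ Subgroup.zpowers x ∧ orderOf v = n ∧ v ≠ 1 ∧ a (s * v * s⁻¹) = s * v * s⁻¹ := by
  obtain ⟨g, hg⟩ : ∃ g : MulAut S, (g * a * g⁻¹) x = x := by
    by_contra hcon
    push Not at hcon
    exact hA (avoid_of_noNorm (hp := ⟨Nat.prime_three⟩) hZ ha hx fun _ => hcon)
  obtain ⟨v, hv, hvn⟩ := exists_orderOf_dvd hnx
  have hv1 : v ≠ 1 := by
    rintro rfl
    rw [orderOf_one] at hvn
    exact hn.one_lt.ne hvn
  have hgv : (g * a * g⁻¹) v = v := by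
    obtain ⟨i, rfl⟩ := hv
    show (g * a * g⁻¹) (x ^ i) = x ^ i
    rw [map_zpow, hg]
  have : Fact n.Prime := ⟨hn⟩
  obtain ⟨P, hP⟩ := cyclic_sylow_of_cent hvn (hc v hv hv1)
  by_contra hcon
  refine not_fixed_of_conj hvn (fun y hy => conj_of_cyclic P hP hvn y hy) (fun s hs => ?_) g hgv
  exact hcon ⟨v, s, hv, hvn, hv1, hs⟩

/-! ### the theorem -/

section Main

variable {F : Type u} [Field F] [Fintype F]

theorem e6_three_aux {q : ℕ} (hq : Fintype.card F = q) (h3 : 3 ∣ q - 1) : Row 3 ↥(chevE6.group F) := by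
  classical
  have hp : IsType chevE6 6 CoxeterMatrix.E₆ := by simp
  have hW : Nat.card CoxeterMatrix.E₆.Group = 51840 :=
    Cfsg.Agent.S1093.result (⟨6, CoxeterMatrix.E₆⟩, 51840) (by simp)
  have : Finite CoxeterMatrix.E₆.Group := Nat.finite_of_card_ne_zero (by rw [hW]; norm_num)
  have hfin : Finite ↥(chevE6.group F) := inferInstance
  obtain ⟨hS, hna⟩ := S1054.result (F := F) chevE6 (by simp)
  have hZ : Subgroup.center ↥(chevE6.group F) = ⊥ := H568.center_eq_bot hna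
  obtain ⟨r, e, hrF, hrc, hrk, he, rfl, hk⟩ := exists_closure hq
  have hr : r.Prime := Fact.out
  have hq1 : 1 < r ^ e := Nat.one_lt_pow he.ne' hr.one_lt
  have hq4 : 4 ≤ r ^ e := by omega
  obtain ⟨h90, h91⟩ := three_of_mod (nine_mod h3 hq1)
  obtain ⟨h120, h121⟩ := three_of_mod (twelve_mod h3 hq1)
  obtain ⟨n9, hn9, hn9r, hn93, hn9d, hn9o⟩ := exists_nine hr he h3
  obtain ⟨n12, hn12, hn12r, hn123, hn12d, hn12o⟩ := exists_twelve hr he
  have h0 : (r ^ e) ^ 2 ≤ (r ^ e) ^ 4 := Nat.pow_le_pow_right (by omega) (by norm_num)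
  -- the torus of order `Φ₉(q)`
  obtain ⟨n, z, t, u, x, hT⟩ := exists_tor' hp CoxeterMatrix.E₆.toCoxeterSystem (algebraMap F (AlgebraicClosure F))
    (by norm_num) hk he hq invC_E6 (by norm_num) TE6_9.hA TE6_9.chainOK TE6_9.cycOK TE6_9.rootOK
    (N := (r ^ e) ^ 6 + (r ^ e) ^ 3 + 1) (N0 := ((r ^ e) ^ 6 + (r ^ e) ^ 3 + 1) / 3)
    (by rw [TE6_9.fN_eq]; push_cast; ring)
    (H129.UntwData.coprime_of_eq (a := ((r ^ e : ℕ) : ℤ) ^ 2 + ((r ^ e : ℕ) : ℤ) ^ 5) (by push_cast; ring))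
    (Nat.div_dvd_of_dvd h90) (fun l hl hld => by
      have hl3 : l ≠ 3 := fun h => h91 (h ▸ hld)
      have hld' := hld.trans (Nat.div_dvd_of_dvd h90)
      obtain ⟨hl2, hl5⟩ := ne_nine hld'
      refine ⟨by rw [hW]; exact prime_five hl hl2 hl3 hl5,
        fun h => hl3 ((Nat.prime_dvd_prime_iff_eq hl Nat.prime_three).1 h), fun s hs => ?_⟩
      have h1 : (l : ℤ) ∣ 1 + ((r ^ e : ℕ) : ℤ) ^ 3 + ((r ^ e : ℕ) : ℤ) ^ 6 := by
        have h2 := Int.natCast_dvd_natCast.2 hld'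
        push_cast at h2 ⊢
        have e1 : (1 : ℤ) + ((r : ℤ) ^ e) ^ 3 + ((r : ℤ) ^ e) ^ 6 = ((r : ℤ) ^ e) ^ 6 + ((r : ℤ) ^ e) ^ 3 + 1 := by ring
        rw [e1]
        exact h2
      exact hl3 ((Nat.prime_dvd_prime_iff_eq hl Nat.prime_three).1
        (by exact_mod_cast TE6_9.dvd_of_G h1 s hs)))
  -- the torus of order `Φ₁₂(q) Φ₃(q)`
  obtain ⟨n', z', t', u', x', hT'⟩ := exists_tor' hp CoxeterMatrix.E₆.toCoxeterSystem
    (algebraMap F (AlgebraicClosure F)) (by norm_num) hk he hq invC_E6 (by norm_num) TE6_12.hA TE6_12.chainOK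
    TE6_12.cycOK TE6_12.rootOK
    (N := ((r ^ e) ^ 4 - (r ^ e) ^ 2 + 1) * ((r ^ e) ^ 2 + (r ^ e) + 1)) (N0 := (r ^ e) ^ 4 - (r ^ e) ^ 2 + 1)
    (by rw [TE6_12.fN_eq]; push_cast [Nat.cast_sub h0]; ring)
    (H129.UntwData.coprime_of_eq (a := 1 - ((r ^ e : ℕ) : ℤ) ^ 2 + ((r ^ e : ℕ) : ℤ) ^ 4 + ((r ^ e : ℕ) : ℤ) ^ 5)
      (by push_cast [Nat.cast_sub h0]; ring))
    (Nat.dvd_mul_right _ _) (fun l hl hld => by
      obtain ⟨hl2, hl3, hl5⟩ := ne_twelve (by omega) hld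
      refine ⟨by rw [hW]; exact prime_five hl hl2 hl3 hl5,
        fun h => hl3 ((Nat.prime_dvd_prime_iff_eq hl Nat.prime_three).1 h), fun s hs => ?_⟩
      have h1 : (l : ℤ) ∣ 1 - ((r ^ e : ℕ) : ℤ) ^ 2 + ((r ^ e : ℕ) : ℤ) ^ 4 := by
        have h2 := Int.natCast_dvd_natCast.2 hld
        push_cast [Nat.cast_sub h0] at h2 ⊢
        have e1 : (1 : ℤ) - ((r : ℤ) ^ e) ^ 2 + ((r : ℤ) ^ e) ^ 4 = ((r : ℤ) ^ e) ^ 4 - ((r : ℤ) ^ e) ^ 2 + 1 := by ring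
        rw [e1]
        exact h2
      exact hl2 ((Nat.prime_dvd_prime_iff_eq hl Nat.prime_two).1
        (by exact_mod_cast TE6_12.dvd_of_G h1 s hs)))
  -- no element of order 3 commutes
  have hN9 : NoNorm 3 x := noNorm_tor hp hq h3 hT h90 h91 (by
    have h1 : 4 ^ 6 ≤ (r ^ e) ^ 6 := Nat.pow_le_pow_left hq4 6
    rw [Nat.lt_div_iff_mul_lt (by norm_num)]
    omega)
  have hN12 : NoNorm 3 x' := noNorm_tor hp hq h3 hT' h120 h121 (by
    have h1 : (r ^ e) ^ 4 = (r ^ e) ^ 2 * (r ^ e) ^ 2 := by ring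
    have h2 : 4 ^ 2 ≤ (r ^ e) ^ 2 := Nat.pow_le_pow_left hq4 2
    have h4 : 16 * (r ^ e) ^ 2 ≤ (r ^ e) ^ 4 := by
      rw [h1]
      exact Nat.mul_le_mul_right _ h2
    omega)
  intro a ha
  by_cases hA9 : Avoid 3 a x
  · exact ⟨x, hN9.not_dvd (hp := ⟨Nat.prime_three⟩), hA9⟩
  by_cases hA12 : Avoid 3 a x'
  · exact ⟨x', hN12.not_dvd (hp := ⟨Nat.prime_three⟩), hA12⟩
  exfalso
  obtain ⟨v, s, hv, hvo, hv1, hav⟩ := exists_fix hZ ha hN9 hA9 hn9 (by rw [hT.hx]; exact hn9d)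
    (fun s hs hs1 => hT.cyclic hq hs hs1)
  obtain ⟨v', s', hv', hvo', hv1', hav'⟩ := exists_fix hZ ha hN12 hA12 hn12 (by rw [hT'.hx]; exact hn12d)
    (fun s hs hs1 => hT'.cyclic hq hs hs1)
  have ha3 : a ^ 3 = 1 := by rw [← ha, pow_orderOf_eq_one]
  have hconj : orderOf (s * v * s⁻¹) = n9 := by rw [orderOf_conj', hvo]
  obtain ⟨Mt, hφ, hform⟩ := FldExc.lin_of_fix hp (algebraMap F (AlgebraicClosure F)) hq he invC_E6 (by norm_num)
    (AutInv.inv_E6 hp.inList) FldExc.ordF_E6 Nat.prime_three (by norm_num) ha3 hn9 hn9r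
    ((Nat.coprime_primes hn9 Nat.prime_three).2 hn93) hconj hav (h := 9) hn9o (by decide)
  have hZk : Subgroup.center ↥(chevE6.group (AlgebraicClosure F)) = ⊥ := by
    obtain ⟨hSk, hnak⟩ := S1054.result (F := AlgebraicClosure F) chevE6 (by simp)
    exact H568.center_eq_bot hnak
  have hMt3 : Mt ^ 3 = 1 := by
    refine FamUntw.eq_one_of_comm hp hk r (algebraMap F (AlgebraicClosure F)) hZk fun y => ?_
    have h1 : a (a (a y)) = y := by
      have h2 : (a ^ 3) y = y := by rw [ha3]; rfl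
      exact h2
    have h2 := hform (a (a y))
    rw [h1, hform, hform] at h2
    conv_rhs => rw [h2]
    rw [pow_succ, pow_two]
    simp only [mul_assoc, inv_mul_cancel_left, inv_mul_cancel, mul_one]
  have hMt1 : Mt ≠ 1 := by
    intro h1
    have h2 : a = 1 := by
      ext y
      have h4 := hform y
      rw [h1, one_mul, inv_one, mul_one] at h4
      have h5 := emb_injective hp.inList _ h4
      rw [h5]
      rfl
    rw [h2, orderOf_one] at ha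
    exact absurd ha (by norm_num)
  have key : ∀ g : ↥(chevE6.group (AlgebraicClosure F)), (g⁻¹ * Mt * g) ^ 3 = 1 ∧ g⁻¹ * Mt * g ≠ 1 := by
    intro g
    refine ⟨?_, fun h => hMt1 ?_⟩
    · have h1 := conj_pow (i := 3) (a := g⁻¹) (b := Mt)
      rw [inv_inv] at h1
      rw [h1, hMt3]
      group
    · have h1 : Mt = g * (g⁻¹ * Mt * g) * g⁻¹ := by group
      rw [h1, h]
      group
  have hdiv : (3 : ℤ) ∣ ((r ^ e : ℕ) : ℤ) - 1 := by
    have h1 : (((r ^ e - 1 : ℕ)) : ℤ) = ((r ^ e : ℕ) : ℤ) - 1 := by push_cast [Nat.cast_sub hq1.le]; rfl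
    rw [← h1]
    exact_mod_cast h3
  -- the traces
  have h1 := mem_of_fix hT hq hφ hform hv hv1 hav
  have e1 : z⁻¹ * ((emb hp.inList (algebraMap F (AlgebraicClosure F)) s)⁻¹ * Mt *
      emb hp.inList (algebraMap F (AlgebraicClosure F)) s) * z =
      (emb hp.inList (algebraMap F (AlgebraicClosure F)) s * z)⁻¹ * Mt *
        (emb hp.inList (algebraMap F (AlgebraicClosure F)) s * z) := by group
  rw [e1] at h1
  obtain ⟨ω, hω, hω1, hch⟩ := char_of_pow_three hT (by positivity) h1 (key _).1 (key _).2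
  have htr := trace_nine hp (Subgroup.zpowers_le.2 hT.ht h1) hω hω1 hdiv hch
  rw [trace_conj'] at htr
  have h2 := mem_of_fix hT' hq hφ hform hv' hv1' hav'
  have e2 : z'⁻¹ * ((emb hp.inList (algebraMap F (AlgebraicClosure F)) s')⁻¹ * Mt *
      emb hp.inList (algebraMap F (AlgebraicClosure F)) s') * z' =
      (emb hp.inList (algebraMap F (AlgebraicClosure F)) s' * z')⁻¹ * Mt *
        (emb hp.inList (algebraMap F (AlgebraicClosure F)) s' * z') := by group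
  rw [e2] at h2
  obtain ⟨ω', hω', hω1', hch'⟩ := char_of_pow_three hT' (by positivity) h2 (key _).1 (key _).2
  have htr' := trace_twelve hp (Subgroup.zpowers_le.2 hT'.ht h2) hω' hω1' hdiv hch'
  rw [trace_conj', htr] at htr'
  have h9 : ((3 : ℕ) : AlgebraicClosure F) ^ 2 = 0 := by
    push_cast
    linear_combination -htr'
  have h10 : ((3 : ℕ) : AlgebraicClosure F) = 0 := pow_eq_zero_iff (by norm_num) |>.1 h9
  rw [CharP.cast_eq_zero_iff (AlgebraicClosure F) r] at h10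
  have hr3 : r = 3 := (Nat.prime_dvd_prime_iff_eq hr Nat.prime_three).1 h10
  subst hr3
  have h11 : 3 ∣ 3 ^ e := dvd_pow_self 3 he.ne'
  have h12 := Nat.dvd_sub h11 h3
  rw [Nat.sub_sub_self hq1.le] at h12
  exact absurd h12 (by norm_num)

/-- **The row of `E6(q)`, `q = 1 mod 3`, `p = 3`.** -/
theorem e6_three (h3 : 3 ∣ Fintype.card F - 1) : Row 3 ↥(chevE6.group F) := e6_three_aux rfl h3

end Main

end Cfsg.Agent.H568.ESixThree
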