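import Cfsg.Agent.H719.RowTorus
import Cfsg.Agent.H719.TE6_9
import Cfsg.Agent.H719.TE6_12

/-!
# Traces of torus elements of order three in E6 (helper568)

* `trace_TT` : the trace of an element of the torus of `D.group k` is `rank + ∑ cX`;
* `trace_nine`, `trace_twelve` : the traces `-3` and `6` of the elements `t` with `cX t y = ω ^ Gq B q y`.
-/

set_option autoImplicit false
set_option linter.unusedSectionVars false

namespace Cfsg.Agent.H568.ESixThree

open CoxeterSystem Cfsg Cfsg.Lie Cfsg.Lie.ChevalleyDatum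
open Cfsg.Agent.ChevalleyStructure Cfsg.Agent.ChevalleyStructure.Elts Cfsg.Agent.ChevalleyStructure.CoxeterGeom
  Cfsg.Agent.ChevalleyStructure.CoxeterGeomTypes Cfsg.Agent.ChevalleyStructure.NPerm
open Cfsg.Agent.Tits.Roots Cfsg.Agent.Tits.Core Cfsg.Agent.Nodes Cfsg.Agent.Nodes.Reps Cfsg.Agent.Nodes.BNOf
  Cfsg.Agent.Nodes.RGDChev
open Cfsg.Agent.KFacts.RgdChevCoord Cfsg.Agent.GpExc.Field Cfsg.Agent.BpExc.Fr Cfsg.Agent.BpExc.LangFr
  Cfsg.Agent.BpExc.TowChev Cfsg.Agent.BpExc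
open Cfsg.Agent.H129 Cfsg.Agent.H129.TorusChar Cfsg.Agent.H129.TorusCent Cfsg.Agent.H129.TorusTw
  Cfsg.Agent.H129.TorusMain Cfsg.Agent.H129.TorusUntw

universe u

section Trace

variable {D : ChevalleyDatum} {l : ℕ} {M : CoxeterMatrix (Fin l)} (hp : IsType D l M) {k : Type u} [Field k]

/-- The trace of an element of the torus. -/
theorem trace_TT {t : ↥(D.group k)} (ht : t ∈ TT D k) :
    Matrix.trace ((t : GL D.Idx k) : Matrix D.Idx D.Idx k) =
      (D.rank : k) + ∑ s : Fin D.nroots, cX hp t (vec D l s) := by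
  have ht' := ht
  rw [Subgroup.mem_subgroupOf] at ht
  obtain ⟨c, hc, e, hact⟩ := Tor.exists_c hp ht
  have key : ∀ s, s < D.nroots → ch hp (vec D l s) t = ∏ i ∈ Finset.range D.rank, c i ^ D.cartan i s := by
    intro s hs
    apply ch_eq hp hs ht'
    apply Subtype.ext
    rw [Subgroup.coe_mul, Subgroup.coe_mul, Subgroup.coe_inv, coe_xc hp hs, coe_xc hp hs, hact s hs, mul_one]
  rw [e, Matrix.trace_diagonal, Fintype.sum_sum_type]
  simp only [Sum.elim_inl, Sum.elim_inr]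
  rw [Finset.sum_const, Finset.card_univ, Fintype.card_fin, nsmul_eq_mul, mul_one]
  congr 1
  refine Finset.sum_congr rfl fun s _ => ?_
  rw [cX_vec hp ht' s.2, key s s.2]

end Trace

/-- `Gq` modulo `3`. -/
theorem gq_mod {l : ℕ} (B : Fin l → Fin l → ℤ) {q : ℤ} (hq : (3 : ℤ) ∣ q - 1) (x : Fin l → ℤ) :
    (3 : ℤ) ∣ Gq B q x - Gq B 1 x := by
  unfold Gq
  rw [← Finset.sum_sub_distrib]
  refine Finset.dvd_sum fun j _ => ?_
  rw [← mul_sub, ← Finset.sum_sub_distrib]
  refine Dvd.dvd.mul_left (Finset.dvd_sum fun i _ => ?_) _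
  rw [← mul_sub, one_pow]
  refine Dvd.dvd.mul_left (hq.trans ?_) _
  exact sub_one_dvd_pow_sub_one _ _

theorem zpow_mod {k : Type u} [Field k] {ω : k} (hω : ω ^ 3 = 1) {g g' : ℤ} (h : (3 : ℤ) ∣ g - g') : ω ^ g = ω ^ g' := by
  have h0 : ω ≠ 0 := by
    rintro rfl
    rw [zero_pow (by norm_num)] at hω
    exact zero_ne_one hω
  obtain ⟨c, hc⟩ := h
  have e : g = g' + 3 * c := by omega
  rw [e, zpow_add₀ h0, zpow_mul]
  have h3 : ω ^ (3 : ℤ) = 1 := by exact_mod_cast hω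
  rw [h3, one_zpow, mul_one]

/-- The sum of the powers of a primitive cube root of unity. -/
theorem sum_omega {k : Type u} [Field k] {ω : k} (hω : ω ^ 3 = 1) (hω1 : ω ≠ 1) {ι : Type*} [Fintype ι] [DecidableEq ι]
    (g : ι → ℤ) {a b : ℕ} (h0 : (Finset.univ.filter fun s => g s % 3 = 0).card = a)
    (h1 : (Finset.univ.filter fun s => g s % 3 = 1).card = b) (h2 : (Finset.univ.filter fun s => g s % 3 = 2).card = b) :
    ∑ s, ω ^ g s = (a : k) - b := by
  have hsum : ω ^ 2 + ω + 1 = 0 := by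
    have h3 : (ω - 1) * (ω ^ 2 + ω + 1) = 0 := by
      have : (ω - 1) * (ω ^ 2 + ω + 1) = ω ^ 3 - 1 := by ring
      rw [this, hω, sub_self]
    exact (mul_eq_zero.1 h3).resolve_left (sub_ne_zero.2 hω1)
  have key : ∀ s, ω ^ g s = (if g s % 3 = 0 then 1 else 0) + (if g s % 3 = 1 then ω else 0) +
      (if g s % 3 = 2 then ω ^ 2 else 0) := by
    intro s
    have h3 : (3 : ℤ) ∣ g s - g s % 3 := Int.dvd_self_sub_emod
    rw [zpow_mod hω h3]
    have h4 := Int.emod_nonneg (g s) (by norm_num : (3 : ℤ) ≠ 0)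
    have h5 := Int.emod_lt_of_pos (g s) (by norm_num : (0 : ℤ) < 3)
    have h6 : g s % 3 = 0 ∨ g s % 3 = 1 ∨ g s % 3 = 2 := by omega
    rcases h6 with h | h | h
    · rw [h]; simp
    · rw [h]; simp
    · rw [h]
      norm_num
  rw [Finset.sum_congr rfl fun s _ => key s, Finset.sum_add_distrib, Finset.sum_add_distrib,
    ← Finset.sum_filter, ← Finset.sum_filter, ← Finset.sum_filter, Finset.sum_const, Finset.sum_const,
    Finset.sum_const, h0, h1, h2, nsmul_eq_mul, nsmul_eq_mul, nsmul_eq_mul]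
  linear_combination (b : k) * hsum

section Six

variable {k : Type u} [Field k]

set_option maxRecDepth 10000 in
theorem trace_nine {M : CoxeterMatrix (Fin 6)} (hp : IsType chevE6 6 M) {t : ↥(chevE6.group k)} (ht : t ∈ TT chevE6 k)
    {ω : k} (hω : ω ^ 3 = 1) (hω1 : ω ≠ 1) {q : ℤ} (hq : (3 : ℤ) ∣ q - 1)
    (h : ∀ y, cX hp t y = ω ^ Gq H719.TE6_9.B q y) :
    Matrix.trace ((t : GL chevE6.Idx k) : Matrix chevE6.Idx chevE6.Idx k) = -3 := by
  rw [trace_TT hp ht, Finset.sum_congr rfl fun s _ => (h _).trans (zpow_mod hω (gq_mod _ hq _)),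
    sum_omega hω hω1 (fun s : Fin chevE6.nroots => Gq H719.TE6_9.B 1 (vec chevE6 6 s)) (a := 18) (b := 27)
      (by decide +kernel) (by decide +kernel) (by decide +kernel)]
  have hr : chevE6.rank = 6 := hp.rank_eq
  rw [hr]
  norm_num

set_option maxRecDepth 10000 in
theorem trace_twelve {M : CoxeterMatrix (Fin 6)} (hp : IsType chevE6 6 M) {t : ↥(chevE6.group k)}
    (ht : t ∈ TT chevE6 k) {ω : k} (hω : ω ^ 3 = 1) (hω1 : ω ≠ 1) {q : ℤ} (hq : (3 : ℤ) ∣ q - 1)
    (h : ∀ y, cX hp t y = ω ^ Gq H719.TE6_12.B q y) :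
    Matrix.trace ((t : GL chevE6.Idx k) : Matrix chevE6.Idx chevE6.Idx k) = 6 := by
  rw [trace_TT hp ht, Finset.sum_congr rfl fun s _ => (h _).trans (zpow_mod hω (gq_mod _ hq _)),
    sum_omega hω hω1 (fun s : Fin chevE6.nroots => Gq H719.TE6_12.B 1 (vec chevE6 6 s)) (a := 24) (b := 24)
      (by decide +kernel) (by decide +kernel) (by decide +kernel)]
  have hr : chevE6.rank = 6 := hp.rank_eq
  rw [hr]
  norm_num

end Six

end Cfsg.Agent.H568.ESixThree
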