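import Cfsg.Agent.H568.ESixThreeA
import Cfsg.Agent.H719.RowHasT
import Cfsg.Agent.H129.UntwTwo
import Cfsg.Agent.H129.PhiE
import Cfsg.Agent.H83.Frob

/-!
# Elements of E6(q), q = 1 mod 3, normalising no 3-subgroup (helper568)

* `exists_tor'` : `Tor` from tabulated data;
* `pow_div_eq_one` : everything commuting with `1 ≠ s ∈ ⟨x⟩` in `chevE6.group F` is killed by `N / 3`;
* `noNorm_tor` : `NoNorm 3 x`.
-/

set_option autoImplicit false
set_option linter.unusedSectionVars false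

namespace Cfsg.Agent.H568.ESixThree

open CoxeterSystem Cfsg Cfsg.Lie Cfsg.Lie.ChevalleyDatum
open Cfsg.Agent.ChevalleyStructure Cfsg.Agent.ChevalleyStructure.Elts Cfsg.Agent.ChevalleyStructure.CoxeterGeom
  Cfsg.Agent.ChevalleyStructure.CoxeterGeomTypes Cfsg.Agent.ChevalleyStructure.NPerm
open Cfsg.Agent.Tits.Roots Cfsg.Agent.Tits.Core Cfsg.Agent.Nodes Cfsg.Agent.Nodes.Reps Cfsg.Agent.Nodes.BNOf
  Cfsg.Agent.Nodes.RGDChev
open Cfsg.Agent.KFacts.RgdChevCoord Cfsg.Agent.GpExc.Field Cfsg.Agent.BpExc.Fr Cfsg.Agent.BpExc.LangFr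
  Cfsg.Agent.BpExc.TowChev Cfsg.Agent.BpExc
open Cfsg.Agent.H129.TorusChar Cfsg.Agent.H129.TorusCent Cfsg.Agent.H129.TorusTw Cfsg.Agent.H129.TorusMain
  Cfsg.Agent.H129.TorusUntw Cfsg.Agent.H129.WData Cfsg.Agent.H129.StCover Cfsg.Agent.H129.UntwTwo
  Cfsg.Agent.H719.RowTorus
open Cfsg.Agent.ChevalleyStructure.StTorus (eval_eq_one)

universe u

section Gen

variable {D : ChevalleyDatum} {l : ℕ} {M : CoxeterMatrix (Fin l)} (hp : IsType D l M) {k : Type u} [Field k]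
  {W : Type*} [Group W] (cs : CoxeterSystem M W) {p e : ℕ} [Fact p.Prime] [CharP k p]
  {F : Type u} [Field F] [Fintype F] (f : F →+* k)

/-- `Tor` from tabulated data. -/
theorem exists_tor' [IsAlgClosed k] [Finite W] (hl : 0 < l) (hk : LocFin k)
    (he : 0 < e) (hq : Fintype.card F = p ^ e) {d' : ℕ}
    {B' : Fin l → Fin l → ℤ} (hB : InvC D l d' B') (hd' : d' ≠ 0) {A : Mat l}
    (hA : ∀ i j, A i j = cartanOf D l i j) {L : List (Fin l × Mat l)} (hL : ChainOK A L) {V B : Mat l}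
    {c : Fin l → ℤ} (hcyc : CycOK l (hd L) V B c) {m : ℕ} {R : Fin m → Fin l → ℤ} {prv dep : ℕ → ℕ}
    (hR : RootOK D l (hd L) R prv dep) {N N0 : ℕ} (hfN : fN c ((p ^ e : ℕ) : ℤ) = N) (hqN : (p ^ e).Coprime N)
    (hN0 : N0 ∣ N)
    (hgood : ∀ r : ℕ, r.Prime → r ∣ N0 → ¬ r ∣ Nat.card W ∧ ¬ r ∣ d' ∧ ∀ s, ¬ (r : ℤ) ∣ Gq B ((p ^ e : ℕ) : ℤ) (R s)) :
    ∃ (n z t : ↥(D.group k)) (u : k) (x : ↥(D.group F)),
      Tor hp cs f p e (hN := nsys_of_locFin hp cs hk p) (cs.wordProd (L.map Prod.fst)) B N N0 n z t u x := by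
  have hpF : p.Prime := Fact.out
  have hpN : ¬ p ∣ N := fun h1 => by
    have h2 : p ∣ Nat.gcd (p ^ e) N := Nat.dvd_gcd (dvd_pow_self p he.ne') h1
    rw [hqN] at h2
    exact hpF.one_lt.ne' (Nat.dvd_one.1 h2)
  have hlin := lin_refl hp cs hA hL
  have hc := cyc_of hlin hcyc
  exact exists_tor hp cs f hl hk he hq hB hd' _ hc hfN hpN hN0
    (fun r hr hrN => ⟨(hgood r hr hrN).1, (hgood r hr hrN).2.1, fun a ha =>
      not_dvd_G hp cs hlin hc hR hfN hr (hrN.trans hN0) hqN (hgood r hr hrN).2.2 ha⟩)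

variable {hp cs f}

/-- Everything commuting with `1 ≠ s ∈ ⟨x⟩` is killed by `N / d`. -/
theorem pow_div_eq_one [IsAlgClosed k] (hq : Fintype.card F = p ^ e) {d : ℕ} (hd : d.Prime)
    {B' : Fin l → Fin l → ℤ} (hB : InvC D l d B') (hdq : d ∣ p ^ e - 1) (hpd : ¬ p ∣ d)
    (hPhi : ∃ Φ : (Fin D.rank → kˣ) →* D.SteinbergGroup k, IsPhi Φ)
    {kv : Fin D.rank → ℤ} {i0 : Fin D.rank} (hk0 : kv i0 = 1)
    (hkv : ∀ s < D.nroots, (d : ℤ) ∣ ∑ i : Fin D.rank, kv i * D.cartan i s)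
    {Bc : Fin D.rank → Fin D.rank → ℤ}
    (hBc : ∀ i m : Fin D.rank, ∑ j : Fin D.rank, D.cartan i (D.simple j) * Bc j m = if i = m then (d : ℤ) else 0)
    {hN : NSys M (TT D k) (nc hp k)} {w : W} {B : Fin l → Fin l → ℤ} {N N0 : ℕ} {n z t : ↥(D.group k)} {u : k}
    {x : ↥(D.group F)} (hT : Tor hp cs f p e (hN := hN) w B N N0 n z t u x) (hdN : d ∣ N)
    {s : ↥(D.group F)} (hs : s ∈ Subgroup.zpowers x) (hs1 : s ≠ 1) {y : ↥(D.group F)} (hy : y * s = s * y) :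
    y ^ (N / d) = 1 := by
  obtain ⟨Φ, hΦ⟩ := hPhi
  have hpF : p.Prime := Fact.out
  -- the centre
  have hdk : ((d : ℕ) : k) ≠ 0 := by
    rw [Ne, CharP.cast_eq_zero_iff k p]
    exact hpd
  have : NeZero ((d : ℕ) : k) := ⟨hdk⟩
  have : NeZero d := ⟨hd.ne_zero⟩
  obtain ⟨ζ, hζ⟩ := HasEnoughRootsOfUnity.exists_primitiveRoot k d
  have hζ0 : ζ ≠ 0 := hζ.ne_zero hd.ne_zero
  set ω : kˣ := Units.mk0 ζ hζ0 with hω
  have hωd : ω ^ d = 1 := Units.ext (by rw [Units.val_pow_eq_pow_val]; exact hζ.pow_eq_one)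
  have hc : ∀ s < D.nroots, ∏ i : Fin D.rank, (ω ^ kv i) ^ D.cartan i s = 1 := by
    intro s hs
    obtain ⟨a, ha⟩ := hkv s hs
    rw [Finset.prod_congr rfl fun i _ => (zpow_mul ω (kv i) (D.cartan i s)).symm, prod_zpow_sum, ha, zpow_mul,
      zpow_natCast, hωd, one_zpow]
  have hc1 : (fun i => ω ^ kv i : Fin D.rank → kˣ) ≠ 1 := by
    intro h1
    have h2 := congrFun h1 i0
    simp only [hk0, zpow_one, Pi.one_apply] at h2
    have h3 : ζ = 1 := congrArg Units.val h2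
    rw [h3] at hζ
    exact hd.one_lt.ne' (hζ.eq_orderOf.trans orderOf_one)
  have hfix : ∀ b : Fin D.rank → kˣ, (∀ s < D.nroots, ∏ i : Fin D.rank, b i ^ D.cartan i s = 1) →
      ∀ i, b i ^ p ^ e = b i := by
    intro b hb i
    have h1 := eval_eq_one (fun i j : Fin D.rank => D.cartan i (D.simple j)) (fun j => Bc j i)
      (fun m => if m = i then (d : ℤ) else 0) (fun m => hBc m i) b
      (fun j => hb (D.simple j) (simple_lt hp.inList j.2))
    rw [Finset.prod_eq_single i] at h1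
    · rw [if_pos rfl, zpow_natCast] at h1
      obtain ⟨a, ha⟩ := hdq
      have h2 : p ^ e = d * a + 1 := by
        have : 0 < p ^ e := Nat.pow_pos hpF.pos
        omega
      rw [h2, pow_succ, pow_mul, h1, one_pow, one_mul]
    · intro j _ hj; rw [if_neg hj, zpow_zero]
    · intro hi; exact absurd (Finset.mem_univ _) hi
  have h1 : z * t ^ d * z⁻¹ ∈ (emb hp.inList f).range := by
    rw [← conj_pow]
    exact fix_pow_range hp cs f hq hB hd.ne_zero (conj_fixed hT.hz hT.fixed (Subgroup.mem_zpowers t))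
  have h2 : z * t * z⁻¹ ∉ (emb hp.inList f).range := not_mem_range hp cs hΦ f hq hc hc1 hfix hT.hn hT.hz hT.gen
  -- the element
  have h3 := hT.mem_zpowers hs hs1 (y := emb hp.inList f y) (by rw [← map_mul, hy, map_mul]) (phi_emb hp f hq y)
  have h4 : z * (z⁻¹ * emb hp.inList f y * z) * z⁻¹ ∈ (emb hp.inList f).range := ⟨y, by group⟩
  obtain ⟨i, hi⟩ := (hS_of_prime hd h1 h2 h3).1 h4
  have hi' : (t ^ d) ^ i = z⁻¹ * emb hp.inList f y * z := hi
  have h5 : (z⁻¹ * emb hp.inList f y * z) ^ (N / d) = 1 := by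
    rw [← hi', ← zpow_natCast, ← zpow_natCast, ← zpow_mul, ← zpow_mul]
    have e1 : (d : ℤ) * (i * ((N / d : ℕ) : ℤ)) = (N : ℤ) * i := by
      obtain ⟨m, rfl⟩ := hdN
      rw [Nat.mul_div_cancel_left _ hd.pos]
      push_cast
      ring
    rw [e1, zpow_mul, zpow_natCast, ← hT.order, pow_orderOf_eq_one, one_zpow]
  apply emb_injective hp.inList f
  rw [map_pow, map_one]
  have h6 : emb hp.inList f y = z * (z⁻¹ * emb hp.inList f y * z) * z⁻¹ := by group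
  rw [h6, conj_pow, h5]
  group

end Gen

section Six

variable {k : Type u} [Field k] [IsAlgClosed k] {p e : ℕ} [Fact p.Prime] [CharP k p]
  {F : Type u} [Field F] [Fintype F] {f : F →+* k}

/-- **`NoNorm 3 x`.** -/
theorem noNorm_tor (hp : IsType chevE6 6 CoxeterMatrix.E₆) (hq : Fintype.card F = p ^ e) (h3 : 3 ∣ p ^ e - 1)
    {hN : NSys CoxeterMatrix.E₆ (TT chevE6 k) (nc hp k)} {w : CoxeterMatrix.E₆.Group} {B : Fin 6 → Fin 6 → ℤ}
    {N N0 : ℕ} {n z t : ↥(chevE6.group k)} {u : k} {x : ↥(chevE6.group F)}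
    (hT : Tor hp CoxeterMatrix.E₆.toCoxeterSystem f p e (hN := hN) w B N N0 n z t u x) (hdN : 3 ∣ N)
    (hdN2 : ¬ 3 ∣ N / 3) (hN0 : 78 < N0) : NoNorm 3 x := by
  have hpF : p.Prime := Fact.out
  have hp3 : ¬ p ∣ 3 := by
    intro h
    have h1 : p = 3 := (Nat.prime_dvd_prime_iff_eq hpF Nat.prime_three).1 h
    subst h1
    have he : e ≠ 0 := by
      rintro rfl
      have := Fintype.one_lt_card (α := F)
      rw [hq, pow_zero] at this
      exact lt_irrefl _ this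
    have h2 : 3 ∣ 3 ^ e := dvd_pow_self 3 he
    have h4 : 1 ≤ 3 ^ e := Nat.one_le_pow _ _ (by norm_num)
    have h5 := (Nat.dvd_sub h2 h3)
    rw [Nat.sub_sub_self h4] at h5
    exact absurd h5 (by norm_num)
  have h3k : ((3 : ℕ) : F) ≠ 0 := by
    intro h
    have h1 : f ((3 : ℕ) : F) = 0 := by rw [h, map_zero]
    rw [map_natCast, CharP.cast_eq_zero_iff k p] at h1
    exact hp3 h1
  refine H83.Frob.noNorm_of_frob (chevE6.group F).subtype (chevE6.group F).subtype_injective Nat.prime_three h3k ?_ ?_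
  · have h1 : Fintype.card chevE6.Idx = 78 := by
      rw [Fintype.card_sum, Fintype.card_fin, Fintype.card_fin]
      rfl
    rw [h1, hT.hx]
    exact hN0
  · intro s hs hs1 y hy hcomm
    have h1 := pow_div_eq_one hq Nat.prime_three invC_E6 h3 hp3 (Cfsg.Agent.H129.PhiE.isPhi_E6 _) (kv := ![1, 0, 2, 0, 1, 2])
      (i0 := ⟨0, by decide⟩) rfl (by decide +kernel)
      (Bc := ![![4, 3, 5, 6, 4, 2], ![3, 6, 6, 9, 6, 3], ![5, 6, 10, 12, 8, 4],
        ![6, 9, 12, 18, 12, 6], ![4, 6, 8, 12, 10, 5], ![2, 3, 4, 6, 5, 4]]) (by decide +kernel) hT hdN hs hs1 hcomm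
    apply hdN2
    have h2 := orderOf_dvd_of_pow_eq_one h1
    rwa [hy] at h2

/-- An element of order three of the twisted torus. -/
theorem char_of_pow_three {D : ChevalleyDatum} {l : ℕ} {M : CoxeterMatrix (Fin l)} {hp : IsType D l M}
    {W : Type*} [Group W] {cs : CoxeterSystem M W}
    {hN : NSys M (TT D k) (nc hp k)} {w : W} {B : Fin l → Fin l → ℤ} {N N0 : ℕ} {n z t : ↥(D.group k)} {u : k}
    {x : ↥(D.group F)} (hT : Tor hp cs f p e (hN := hN) w B N N0 n z t u x) (hN1 : N ≠ 0) {m : ↥(D.group k)}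
    (hm : m ∈ Subgroup.zpowers t) (hm3 : m ^ 3 = 1) (hm1 : m ≠ 1) :
    ∃ ω : k, ω ^ 3 = 1 ∧ ω ≠ 1 ∧ ∀ y, cX hp m y = ω ^ Gq B ((p ^ e : ℕ) : ℤ) y := by
  obtain ⟨i, hi⟩ := hm
  have hi' : t ^ i = m := hi
  have hu0 : u ≠ 0 := hT.prim.ne_zero hN1
  have hone : ∀ g : ℤ, u ^ g = 1 ↔ (N : ℤ) ∣ g := fun g => hT.prim.zpow_eq_one_iff_dvd g
  have htg : ∀ g : ℤ, t ^ g = 1 ↔ (N : ℤ) ∣ g := fun g => by rw [← hT.order, orderOf_dvd_iff_zpow_eq_one]
  refine ⟨u ^ i, ?_, ?_, ?_⟩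
  · rw [← zpow_natCast, ← zpow_mul, hone, ← htg, zpow_mul, hi', zpow_natCast, hm3]
  · rw [Ne, hone, ← htg, hi']
    exact hm1
  · intro y
    have h1 := (isMC_cX hp hT.ht).ne_zero y
    have h2 : ∀ g : ℤ, cX hp (t ^ g) y = cX hp t y ^ g := by
      intro g
      obtain ⟨b, rfl | rfl⟩ := Int.eq_nat_or_neg g
      · rw [zpow_natCast, zpow_natCast, cX_pow hp hT.ht]
      · have h3 : cX hp (t ^ (-(b : ℤ))) y * cX hp (t ^ b) y = 1 := by
          rw [← cX_mul hp (zpow_mem hT.ht _) (pow_mem hT.ht _), zpow_neg, zpow_natCast, inv_mul_cancel, cX_one]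
        rw [cX_pow hp hT.ht] at h3
        rw [zpow_neg (cX hp t y), zpow_natCast]
        exact eq_inv_of_mul_eq_one_left h3
    rw [← hi', h2, hT.char, ← zpow_mul, ← zpow_mul, mul_comm]

/-- A linear automorphism of order three fixing (up to conjugacy) an element of `⟨x⟩`. -/
theorem mem_of_fix {D : ChevalleyDatum} {l : ℕ} {M : CoxeterMatrix (Fin l)} {hp : IsType D l M}
    {W : Type*} [Group W] {cs : CoxeterSystem M W}
    {hN : NSys M (TT D k) (nc hp k)} {w : W} {B : Fin l → Fin l → ℤ} {N N0 : ℕ} {n z t : ↥(D.group k)} {u : k}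
    {x : ↥(D.group F)} (hT : Tor hp cs f p e (hN := hN) w B N N0 n z t u x) (hq : Fintype.card F = p ^ e)
    {a : MulAut ↥(D.group F)} {Mt : ↥(D.group k)} (hφ : phi D k p e Mt = Mt)
    (ha : ∀ y : ↥(D.group F), emb hp.inList f (a y) = Mt * emb hp.inList f y * Mt⁻¹)
    {v s : ↥(D.group F)} (hv : v ∈ Subgroup.zpowers x) (hv1 : v ≠ 1) (hav : a (s * v * s⁻¹) = s * v * s⁻¹) :
    z⁻¹ * ((emb hp.inList f s)⁻¹ * Mt * emb hp.inList f s) * z ∈ Subgroup.zpowers t := by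
  have h1 := ha (s * v * s⁻¹)
  rw [hav, map_mul, map_mul, map_inv] at h1
  refine hT.mem_zpowers hv hv1 (y := (emb hp.inList f s)⁻¹ * Mt * emb hp.inList f s) ?_ ?_
  · set S := emb hp.inList f s
    set V := emb hp.inList f v
    have h2 : S * V * S⁻¹ * Mt = Mt * (S * V * S⁻¹) := eq_mul_inv_iff_mul_eq.1 h1
    calc S⁻¹ * Mt * S * V = S⁻¹ * (Mt * (S * V * S⁻¹)) * S := by group
      _ = S⁻¹ * (S * V * S⁻¹ * Mt) * S := by rw [h2]
      _ = _ := by group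
  · rw [map_mul, map_mul, map_inv, phi_emb hp f hq, hφ]

end Six

end Cfsg.Agent.H568.ESixThree
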