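import Mathlib
import Cfsg.Agent.H568.NormMap

/-!
Orbits of elements of a normal `p`-subgroup on an abelian `p'`-group: restriction to invariant
subgroups and the imprimitive case.
-/

set_option autoImplicit false

namespace Cfsg.Agent.H568.Imprim

open Subgroup Cfsg.Agent.H568.NormMap

universe u

/-- Every nontrivial `a` in a normal `p`-subgroup `N` of `H ≤ Aut V` has a vector `v` fixed by no
`H`-conjugate of `a`. -/
def Claim (p : ℕ) (V : Type u) [CommGroup V] : Prop :=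
  ∀ H N : Subgroup (MulAut V), N ≤ H → (∀ h ∈ H, ∀ n ∈ N, h * n * h⁻¹ ∈ N) → IsPGroup p N →
    ∀ a ∈ N, a ≠ 1 → ∃ v : V, ∀ h ∈ H, (h * a * h⁻¹) v ≠ v

variable {V : Type u} [CommGroup V]

/-- Restriction of a group of automorphisms to an invariant subgroup. -/
def restr (H : Subgroup (MulAut V)) (W : Subgroup V) (hW : ∀ h ∈ H, ∀ w ∈ W, h w ∈ W) :
    H →* MulAut W where
  toFun h :=
    { toFun := fun w => ⟨(h : MulAut V) w, hW h h.2 w w.2⟩
      invFun := fun w => ⟨(h : MulAut V)⁻¹ w, hW _ (H.inv_mem h.2) w w.2⟩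
      left_inv := fun w => Subtype.ext (by
        simp only [MulAut.inv_apply, MulEquiv.symm_apply_apply])
      right_inv := fun w => Subtype.ext (by
        simp only [MulAut.inv_apply, MulEquiv.apply_symm_apply])
      map_mul' := fun w w' => Subtype.ext (map_mul _ _ _) }
  map_one' := by ext w; rfl
  map_mul' h h' := by ext w; rfl

theorem restr_apply (H : Subgroup (MulAut V)) (W : Subgroup V) (hW : ∀ h ∈ H, ∀ w ∈ W, h w ∈ W)
    (h : H) (w : W) : ((restr H W hW h w : W) : V) = (h : MulAut V) w := rfl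

theorem of_claim {p : ℕ} {H N : Subgroup (MulAut V)} {W : Subgroup V}
    (hW : ∀ h ∈ H, ∀ w ∈ W, h w ∈ W) (hNH : N ≤ H) (hHN : ∀ h ∈ H, ∀ n ∈ N, h * n * h⁻¹ ∈ N)
    (hN : IsPGroup p N) (hc : Claim p W) {a : MulAut V} (ha : a ∈ N) (haW : ∃ w ∈ W, a w ≠ w) :
    ∃ w ∈ W, ∀ h ∈ H, (h * a * h⁻¹) w ≠ w := by
  set ρ := restr H W hW with hρ
  obtain ⟨w, hw⟩ := hc (N.subgroupOf H |>.map ρ |> fun N' => ρ.range) ((N.subgroupOf H).map ρ)
    (by
      rintro _ ⟨n, _, rfl⟩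
      exact ⟨n, rfl⟩)
    (by
      rintro _ ⟨h, rfl⟩ _ ⟨n, hn, rfl⟩
      refine ⟨h * n * h⁻¹, hHN h h.2 n hn, by simp⟩)
    ((hN.comap_of_injective H.subtype (Subgroup.subtype_injective H)).map ρ)
    (ρ ⟨a, hNH ha⟩) ⟨⟨a, hNH ha⟩, ha, rfl⟩
    (by
      intro h
      obtain ⟨w, hw, haw⟩ := haW
      apply haw
      have := congrArg Subtype.val (DFunLike.congr_fun h (⟨w, hw⟩ : W))
      exact this)
  refine ⟨w, w.2, fun h hh heq => ?_⟩
  refine hw (ρ ⟨h, hh⟩) ⟨_, rfl⟩ (Subtype.ext ?_)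
  rw [← map_mul, ← map_inv, ← map_mul]
  exact heq

/-- The product over a group of automorphisms, as an endomorphism. -/
noncomputable def tr [Finite V] (N : Subgroup (MulAut V)) : V →* V where
  toFun v := ∏ᶠ n : N, (n : MulAut V) v
  map_one' := by simp
  map_mul' v w := by
    have : Finite N := inferInstance
    simp only [map_mul]
    exact finprod_mul_distrib (Set.toFinite _) (Set.toFinite _)

theorem tr_apply [Finite V] (N : Subgroup (MulAut V)) (v : V) :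
    tr N v = ∏ᶠ n : N, (n : MulAut V) v := rfl

theorem apply_tr [Finite V] {N : Subgroup (MulAut V)} {m : MulAut V} (hm : m ∈ N) (v : V) :
    m (tr N v) = tr N v := by
  have : Finite N := inferInstance
  rw [tr_apply, map_finprod _ (Set.toFinite _)]
  have h1 : ∀ n : N, m ((n : MulAut V) v) = ((Equiv.mulLeft (⟨m, hm⟩ : N) n : N) : MulAut V) v :=
    fun n => rfl
  simp only [h1]
  exact finprod_comp_equiv (Equiv.mulLeft (⟨m, hm⟩ : N)) (f := fun n : N => (n : MulAut V) v)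

theorem tr_fix [Finite V] {N : Subgroup (MulAut V)} {v : V} (hv : ∀ n ∈ N, n v = v) :
    tr N v = v ^ Nat.card N := by
  have : Finite N := inferInstance
  rw [tr_apply]
  have h1 : ∀ n : N, (n : MulAut V) v = v := fun n => hv n n.2
  simp only [h1]
  have := Fintype.ofFinite N
  rw [finprod_eq_prod_of_fintype, Finset.prod_const, Finset.card_univ, Nat.card_eq_fintype_card]

theorem tr_conj [Finite V] {N : Subgroup (MulAut V)} {h : MulAut V}
    (hN : ∀ n, n ∈ N ↔ h * n * h⁻¹ ∈ N) (v : V) : tr N (h v) = h (tr N v) := by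
  have : Finite N := inferInstance
  rw [tr_apply, tr_apply, map_finprod _ (Set.toFinite _)]
  let e : N ≃ N :=
    { toFun := fun n => ⟨h * n * h⁻¹, (hN _).mp n.2⟩
      invFun := fun n => ⟨h⁻¹ * n * h, (hN _).mpr (by
        have : h * (h⁻¹ * (n : MulAut V) * h) * h⁻¹ = n := by group
        rw [this]; exact n.2)⟩
      left_inv := fun n => Subtype.ext (by simp only; group)
      right_inv := fun n => Subtype.ext (by simp only; group) }
  rw [← finprod_comp_equiv e]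
  refine finprod_congr fun n => ?_
  change (h * (n : MulAut V) * h⁻¹) (h v) = _
  rw [MulAut.mul_apply, MulAut.mul_apply, MulAut.inv_apply, MulEquiv.symm_apply_apply]

/-- Reduction to the irreducible case. -/
theorem of_reducible [Finite V] {p : ℕ} [hpf : Fact p.Prime] (hV : ¬ p ∣ Nat.card V)
    (hIH : ∀ W : Subgroup V, W ≠ ⊤ → Claim p W) {H N : Subgroup (MulAut V)} (hNH : N ≤ H)
    (hHN : ∀ h ∈ H, ∀ n ∈ N, h * n * h⁻¹ ∈ N) (hN : IsPGroup p N) {a : MulAut V} (ha : a ∈ N)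
    (ha1 : a ≠ 1) {W : Subgroup V} (hW : ∀ h ∈ H, ∀ w ∈ W, h w ∈ W) (hW0 : W ≠ ⊥) (hW1 : W ≠ ⊤) :
    ∃ v : V, ∀ h ∈ H, (h * a * h⁻¹) v ≠ v := by
  have hp := hpf.out
  by_cases haW : ∃ w ∈ W, a w ≠ w
  · obtain ⟨w, -, hw⟩ := of_claim hW hNH hHN hN (hIH W hW1) ha haW
    exact ⟨w, hw⟩
  push Not at haW
  -- the normal closure of `a`
  set K : Subgroup (MulAut V) := closure {x | ∃ h ∈ H, x = h * a * h⁻¹} with hK
  have haK : a ∈ K := subset_closure ⟨1, H.one_mem, by group⟩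
  have hKN : K ≤ N := by
    rw [hK, closure_le]
    rintro x ⟨h, hh, rfl⟩
    exact hHN h hh a ha
  have hHK' : ∀ h ∈ H, ∀ k ∈ K, h * k * h⁻¹ ∈ K := by
    intro h hh k hk
    have h1 : K ≤ K.comap (MulAut.conj h).toMonoidHom := by
      conv_lhs => rw [hK]
      rw [closure_le]
      rintro x ⟨h', hh', rfl⟩
      refine subset_closure ⟨h * h', H.mul_mem hh hh', ?_⟩
      change h * (h' * a * h'⁻¹) * h⁻¹ = _
      group
    exact h1 hk
  have hHK : ∀ h ∈ H, ∀ k, k ∈ K ↔ h * k * h⁻¹ ∈ K := by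
    intro h hh k
    refine ⟨hHK' h hh k, fun hk => ?_⟩
    have h1 := hHK' h⁻¹ (H.inv_mem hh) _ hk
    have h2 : h⁻¹ * (h * k * h⁻¹) * h⁻¹⁻¹ = k := by group
    rwa [h2] at h1
  have hKW : ∀ k ∈ K, ∀ w ∈ W, k w = w := by
    intro k hk
    have h1 : K ≤ { carrier := {x | ∀ w ∈ W, x w = w}
                    mul_mem' := fun {x y} hx hy w hw => by
                      rw [MulAut.mul_apply, hy w hw, hx w hw]
                    one_mem' := fun w _ => rfl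
                    inv_mem' := fun {x} hx w hw => fix_inv (hx w hw) : Subgroup (MulAut V) } := by
      rw [hK, closure_le]
      rintro x ⟨h, hh, rfl⟩ w hw
      rw [MulAut.mul_apply, MulAut.mul_apply, haW _ (hW _ (H.inv_mem hh) w hw),
        MulAut.inv_apply, MulEquiv.apply_symm_apply]
    exact h1 hk
  obtain ⟨m, hm⟩ := IsPGroup.iff_card.mp (hN.to_le hKN)
  have hpow : ∀ v w : V, v ^ Nat.card K = w ^ Nat.card K → v = w := by
    intro v w h
    rw [hm] at h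
    clear hm
    induction m with
    | zero => simpa using h
    | succ m ih =>
      rw [pow_succ, pow_mul, pow_mul] at h
      exact ih (pow_inj hp hV h)
  set U : Subgroup V := (tr K).ker with hU
  have hUH : ∀ h ∈ H, ∀ u ∈ U, h u ∈ U := by
    intro h hh u hu
    rw [hU, MonoidHom.mem_ker] at hu ⊢
    rw [tr_conj (hHK h hh), hu, map_one]
  have hU1 : U ≠ ⊤ := by
    intro h
    obtain ⟨w, hw, hw1⟩ := exists_ne_one hW0
    have h1 : w ∈ U := by rw [h]; trivial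
    rw [hU, MonoidHom.mem_ker, tr_fix (fun k hk => hKW k hk w hw)] at h1
    exact hw1 (hpow _ _ (by rw [h1, one_pow]))
  have haU : ∃ u ∈ U, a u ≠ u := by
    by_contra hcon
    push Not at hcon
    apply ha1
    ext v
    rw [MulAut.one_apply]
    have h1 : v ^ Nat.card K * (tr K v)⁻¹ ∈ U := by
      rw [hU, MonoidHom.mem_ker, map_mul, map_pow, map_inv,
        tr_fix (v := tr K v) (fun k hk => apply_tr hk v), mul_inv_cancel]
    have h2 := hcon _ h1
    rw [map_mul, map_inv, apply_tr haK, map_pow] at h2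
    exact hpow _ _ (mul_right_cancel h2)
  obtain ⟨w, -, hw⟩ := of_claim hUH hNH hHN hN (hIH U hU1) ha haU
  exact ⟨w, hw⟩

/-- A normal `p`-subgroup meets a maximal subgroup in a normal subgroup. -/
theorem conj_mem_of_covBy {G : Type*} [Group G] [Finite G] {p : ℕ} [Fact p.Prime]
    {H N H₁ : Subgroup G} (hNH : N ≤ H) (hHN : ∀ h ∈ H, ∀ n ∈ N, h * n * h⁻¹ ∈ N)
    (hN : IsPGroup p N) (hcov : H₁ ⋖ H) {b : G} (hb : b ∈ N) (hb1 : b ∈ H₁) {h : G}
    (hh : h ∈ H) : h * b * h⁻¹ ∈ H₁ := by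
  by_cases hle : N ≤ H₁
  · exact hle (hHN h hh b hb)
  -- the normalizer of `N ⊓ H₁`
  set L : Subgroup G := H ⊓ normalizer ((N ⊓ H₁ : Subgroup G) : Set G) with hL
  have hH₁L : H₁ ≤ L := by
    intro x hx
    refine ⟨hcov.le hx, ?_⟩
    refine mem_normalizer_iff.mpr fun y => ⟨fun hy => ?_, fun hy => ?_⟩
    · exact ⟨hHN x (hcov.le hx) y hy.1, H₁.mul_mem (H₁.mul_mem hx hy.2) (H₁.inv_mem hx)⟩
    · have h1 : y = x⁻¹ * (x * y * x⁻¹) * x⁻¹⁻¹ := by group
      rw [h1]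
      exact ⟨hHN _ (H.inv_mem (hcov.le hx)) _ hy.1,
        H₁.mul_mem (H₁.mul_mem (H₁.inv_mem hx) hy.2) (H₁.inv_mem (H₁.inv_mem hx))⟩
  have hnil : Group.IsNilpotent N := hN.isNilpotent
  have hlt : (N ⊓ H₁).subgroupOf N < ⊤ := by
    refine lt_top_iff_ne_top.mpr fun h => hle fun n hn => ?_
    have : (⟨n, hn⟩ : N) ∈ (N ⊓ H₁).subgroupOf N := by rw [h]; trivial
    exact this.2
  obtain ⟨n, hn1, hn2⟩ := SetLike.exists_of_lt (Group.normalizerCondition_of_isNilpotent _ hlt)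
  have hnL : (n : G) ∈ L := by
    refine ⟨hNH n.2, ?_⟩
    refine mem_normalizer_iff.mpr fun y => ?_
    rw [mem_normalizer_iff] at hn1
    constructor
    · intro hy
      have hy' : (⟨y, hy.1⟩ : N) ∈ (N ⊓ H₁).subgroupOf N := mem_subgroupOf.mpr hy
      exact mem_subgroupOf.mp ((hn1 ⟨y, hy.1⟩).mp hy')
    · intro hy
      have hyN : y ∈ N := by
        have h1 : y = (n : G)⁻¹ * (n * y * (n : G)⁻¹) * n := by group
        rw [h1]
        exact N.mul_mem (N.mul_mem (N.inv_mem n.2) hy.1) n.2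
      have hy' : n * (⟨y, hyN⟩ : N) * n⁻¹ ∈ (N ⊓ H₁).subgroupOf N := mem_subgroupOf.mpr hy
      exact mem_subgroupOf.mp ((hn1 ⟨y, hyN⟩).mpr hy')
  have hnH₁ : (n : G) ∉ H₁ := fun h => hn2 (by rw [mem_subgroupOf]; exact ⟨n.2, h⟩)
  have hLH : L = H := by
    have h1 : H₁ < L := lt_of_le_of_ne hH₁L fun h => hnH₁ (by rw [h]; exact hnL)
    by_contra hne
    exact hcov.2 h1 (lt_of_le_of_ne inf_le_left hne)
  have hhL : h ∈ L := by rw [hLH]; exact hh
  exact ((mem_normalizer_iff.mp hhL.2 b).mp ⟨hb, hb1⟩).2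

/-- The imprimitive case. -/
theorem of_imprimitive [Finite V] {p : ℕ} [hpf : Fact p.Prime]
    {H N H₁ : Subgroup (MulAut V)} (hNH : N ≤ H) (hHN : ∀ h ∈ H, ∀ n ∈ N, h * n * h⁻¹ ∈ N)
    (hN : IsPGroup p N) (hcov : H₁ ⋖ H) {V₁ V₂ : Subgroup V}
    (h1 : ∀ h ∈ H₁, ∀ v ∈ V₁, h v ∈ V₁) (h2 : ∀ h ∈ H₁, ∀ v ∈ V₂, h v ∈ V₂)
    (hd : V₁ ⊓ V₂ = ⊥) (hout : ∀ h ∈ H, h ∉ H₁ → ∀ v ∈ V₁, h v ∈ V₂) (hV₁ : V₁ ≠ ⊥)
    (hc : Claim p V₁) {a : MulAut V} (ha : a ∈ N)
    (hmv : ∃ h ∈ H, ∃ w ∈ V₁, a (h w) ≠ h w) : ∃ v : V, ∀ h ∈ H, (h * a * h⁻¹) v ≠ v := by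
  classical
  have hd' : ∀ v, v ∈ V₁ → v ∈ V₂ → v = 1 := fun v hv1 hv2 => by
    have : v ∈ V₁ ⊓ V₂ := ⟨hv1, hv2⟩
    rwa [hd, mem_bot] at this
  by_cases hall : ∀ h ∈ H, h * a * h⁻¹ ∈ H₁
  · obtain ⟨h₀, hh₀, w₀, hw₀, hmv₀⟩ := hmv
    -- replace `a` by a conjugate that moves a point of `V₁`
    set b := h₀⁻¹ * a * h₀ with hb
    have hbN : b ∈ N := by
      have := hHN h₀⁻¹ (H.inv_mem hh₀) a ha
      rwa [inv_inv] at this
    have hbH₁ : b ∈ H₁ := by
      have := hall h₀⁻¹ (H.inv_mem hh₀)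
      rwa [inv_inv] at this
    have hbw : ∃ w ∈ V₁, b w ≠ w := by
      refine ⟨w₀, hw₀, fun h => hmv₀ ?_⟩
      have h3 : a = h₀ * b * h₀⁻¹ := by rw [hb]; group
      conv_lhs => rw [h3]
      rw [MulAut.mul_apply, MulAut.mul_apply, MulAut.inv_apply, MulEquiv.symm_apply_apply, h]
    obtain ⟨v₁, hv₁, hv₁'⟩ := of_claim (H := H₁) (N := N ⊓ H₁) h1 inf_le_right
      (fun h hh n hn => ⟨hHN h (hcov.le hh) n hn.1,
        H₁.mul_mem (H₁.mul_mem hh hn.2) (H₁.inv_mem hh)⟩) (hN.to_le inf_le_left) hc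
      ⟨hbN, hbH₁⟩ hbw
    have : Fintype (H ⧸ H₁.subgroupOf H) := Fintype.ofFinite _
    -- the vector
    set v : V := ∏ q : H ⧸ H₁.subgroupOf H, ((q.out : H) : MulAut V) v₁ with hv
    refine ⟨v, fun h hh hfix => ?_⟩
    -- the coset of `h * h₀`
    set q₀ : H ⧸ H₁.subgroupOf H := QuotientGroup.mk (⟨h, hh⟩ * ⟨h₀, hh₀⟩ : H) with hq₀
    set g : MulAut V := ((q₀.out : H) : MulAut V) with hg
    have hgH : g ∈ H := q₀.out.2
    have hu : g⁻¹ * (h * h₀) ∈ H₁ := by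
      have h3 : (QuotientGroup.mk (q₀.out) : H ⧸ H₁.subgroupOf H) =
          QuotientGroup.mk (⟨h, hh⟩ * ⟨h₀, hh₀⟩ : H) := Quotient.out_eq' q₀
      rw [QuotientGroup.eq, mem_subgroupOf] at h3
      exact h3
    have hdec : g⁻¹ v = v₁ * ∏ q ∈ Finset.univ.erase q₀, (g⁻¹ * ((q.out : H) : MulAut V)) v₁ := by
      rw [hv, map_prod, ← Finset.mul_prod_erase Finset.univ _ (Finset.mem_univ q₀)]
      congr 1
      rw [← hg, MulAut.inv_apply, MulEquiv.symm_apply_apply]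
    set s : V := ∏ q ∈ Finset.univ.erase q₀, (g⁻¹ * ((q.out : H) : MulAut V)) v₁ with hs
    have hsV₂ : s ∈ V₂ := by
      refine Subgroup.prod_mem _ fun q hq => ?_
      refine hout _ (H.mul_mem (H.inv_mem hgH) q.out.2) (fun hmem => ?_) v₁ hv₁
      refine (Finset.mem_erase.mp hq).1 ?_
      have h3 : (QuotientGroup.mk (q₀.out) : H ⧸ H₁.subgroupOf H) = QuotientGroup.mk (q.out) := by
        rw [QuotientGroup.eq, mem_subgroupOf]
        exact hmem
      rw [← Quotient.out_eq' q, ← Quotient.out_eq' q₀]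
      exact h3.symm
    set b' := g⁻¹ * (h * a * h⁻¹) * g with hb'
    have hb'H₁ : b' ∈ H₁ := by
      have h3 := hall (g⁻¹ * h) (H.mul_mem (H.inv_mem hgH) hh)
      have h4 : g⁻¹ * h * a * (g⁻¹ * h)⁻¹ = b' := by rw [hb']; group
      rwa [h4] at h3
    have hfix' : b' (g⁻¹ v) = g⁻¹ v := by
      have h3 : b' (g⁻¹ v) = g⁻¹ ((h * a * h⁻¹) v) := by
        have h8 : g (g⁻¹ v) = v := by
          rw [← MulAut.mul_apply, mul_inv_cancel, MulAut.one_apply]
        rw [hb', MulAut.mul_apply, MulAut.mul_apply, h8]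
      rw [h3, hfix]
    rw [hdec, map_mul] at hfix'
    have h5 : b' v₁ * v₁⁻¹ = s * (b' s)⁻¹ := by
      rw [mul_inv_eq_iff_eq_mul, mul_assoc, mul_comm (b' s)⁻¹, ← mul_assoc, mul_comm s v₁, ← hfix']
      group
    have h6 : b' v₁ * v₁⁻¹ = 1 := by
      refine hd' _ (V₁.mul_mem (h1 _ hb'H₁ _ hv₁) (V₁.inv_mem hv₁)) ?_
      rw [h5]
      exact V₂.mul_mem hsV₂ (V₂.inv_mem (h2 _ hb'H₁ _ hsV₂))
    have h7 : b' = (g⁻¹ * (h * h₀)) * b * (g⁻¹ * (h * h₀))⁻¹ := by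
      rw [hb', hb]; group
    refine hv₁' _ hu ?_
    rw [← h7]
    exact mul_inv_eq_one.mp h6
  · -- a conjugate of `a` lies outside `H₁`
    push Not at hall
    obtain ⟨h₀, hh₀, hh₀'⟩ := hall
    obtain ⟨w, hw, hw1⟩ := exists_ne_one hV₁
    refine ⟨w, fun h hh hfix => ?_⟩
    have h3 : h * a * h⁻¹ ∈ H₁ := by
      by_contra hn
      have h4 := hout _ (H.mul_mem (H.mul_mem hh (hNH ha)) (H.inv_mem hh)) hn w hw
      rw [hfix] at h4
      exact hw1 (hd' w hw h4)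
    apply hh₀'
    have h5 := conj_mem_of_covBy hNH hHN hN hcov (hHN h hh a ha) h3
      (H.mul_mem hh₀ (H.inv_mem hh))
    have h6 : h₀ * h⁻¹ * (h * a * h⁻¹) * (h₀ * h⁻¹)⁻¹ = h₀ * a * h₀⁻¹ := by group
    rwa [h6] at h5

end Cfsg.Agent.H568.Imprim
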