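import Mathlib
import Cfsg.Agent.H568.Imprim

/-!
The case of a noncyclic elementary abelian invariant subgroup.
-/

set_option autoImplicit false

namespace Cfsg.Agent.H568.Elem

open Subgroup Cfsg.Agent.H568.NormMap Cfsg.Agent.H568.Imprim

universe u

variable {V : Type u} [CommGroup V]

/-- Common fixed points. -/
def fixS (K : Subgroup (MulAut V)) : Subgroup V where
  carrier := {v | ∀ k ∈ K, k v = v}
  mul_mem' := fun {a b} ha hb k hk => by rw [map_mul, ha k hk, hb k hk]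
  one_mem' := fun k _ => map_one k
  inv_mem' := fun {a} ha k hk => by rw [map_inv, ha k hk]

theorem mem_fixS {K : Subgroup (MulAut V)} {v : V} : v ∈ fixS K ↔ ∀ k ∈ K, k v = v := Iff.rfl

/-- Conjugate subgroup. -/
def cj (h : MulAut V) (K : Subgroup (MulAut V)) : Subgroup (MulAut V) :=
  K.map (MulAut.conj h).toMonoidHom

theorem mem_cj {h : MulAut V} {K : Subgroup (MulAut V)} {x : MulAut V} :
    x ∈ cj h K ↔ h⁻¹ * x * h ∈ K := by
  constructor
  · rintro ⟨k, hk, rfl⟩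
    change h⁻¹ * (h * k * h⁻¹) * h ∈ K
    have : h⁻¹ * (h * k * h⁻¹) * h = k := by group
    rwa [this]
  · intro hx
    refine ⟨_, hx, ?_⟩
    change h * (h⁻¹ * x * h) * h⁻¹ = x
    group

theorem cj_cj (g h : MulAut V) (K : Subgroup (MulAut V)) : cj g (cj h K) = cj (g * h) K := by
  ext x
  rw [mem_cj, mem_cj, mem_cj]
  have : h⁻¹ * (g⁻¹ * x * g) * h = (g * h)⁻¹ * x * (g * h) := by group
  rw [this]

theorem cj_one (K : Subgroup (MulAut V)) : cj 1 K = K := by
  ext x
  rw [mem_cj]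
  simp

theorem cj_mono {h : MulAut V} {K L : Subgroup (MulAut V)} (hKL : K ≤ L) : cj h K ≤ cj h L :=
  Subgroup.map_mono hKL

theorem cj_lt {h : MulAut V} {K L : Subgroup (MulAut V)} (hKL : K < L) : cj h K < cj h L := by
  refine lt_of_le_of_ne (cj_mono hKL.le) fun heq => hKL.ne ?_
  have := congrArg (cj h⁻¹) heq
  rwa [cj_cj, cj_cj, inv_mul_cancel, cj_one, cj_one] at this

theorem cj_covBy {h : MulAut V} {K L : Subgroup (MulAut V)} (hKL : K ⋖ L) : cj h K ⋖ cj h L := by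
  refine ⟨cj_lt hKL.1, fun M hM1 hM2 => ?_⟩
  have h1 := cj_lt (h := h⁻¹) hM1
  have h2 := cj_lt (h := h⁻¹) hM2
  rw [cj_cj, inv_mul_cancel, cj_one] at h1 h2
  exact hKL.2 h1 h2

theorem tr_cj [Finite V] {K : Subgroup (MulAut V)} {h : MulAut V} (v : V) :
    tr (cj h K) (h v) = h (tr K v) := by
  have : Finite K := inferInstance
  rw [tr_apply, tr_apply, map_finprod _ (Set.toFinite _)]
  let e : K ≃ cj h K :=
    { toFun := fun n => ⟨h * n * h⁻¹, ⟨n, n.2, rfl⟩⟩
      invFun := fun n => ⟨h⁻¹ * n * h, mem_cj.mp n.2⟩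
      left_inv := fun n => Subtype.ext (by simp only; group)
      right_inv := fun n => Subtype.ext (by simp only; group) }
  rw [← finprod_comp_equiv e]
  refine finprod_congr fun n => ?_
  change (h * (n : MulAut V) * h⁻¹) (h v) = _
  rw [MulAut.mul_apply, MulAut.mul_apply, MulAut.inv_apply, MulEquiv.symm_apply_apply]

theorem pow_card_inj [Finite V] {p : ℕ} [hpf : Fact p.Prime] (hV : ¬ p ∣ Nat.card V)
    {K : Subgroup (MulAut V)} (hK : IsPGroup p K) {v w : V}
    (h : v ^ Nat.card K = w ^ Nat.card K) : v = w := by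
  obtain ⟨m, hm⟩ := IsPGroup.iff_card.mp hK
  rw [hm] at h
  clear hm
  induction m with
  | zero => simpa using h
  | succ m ih =>
    rw [pow_succ, pow_mul, pow_mul] at h
    exact ih (pow_inj hpf.out hV h)

theorem of_elementary [Finite V] {p : ℕ} [hpf : Fact p.Prime] (hV : ¬ p ∣ Nat.card V)
    (hIH : ∀ W : Subgroup V, W ≠ ⊤ → Claim p W) {H N E : Subgroup (MulAut V)} (hNH : N ≤ H)
    (hHN : ∀ h ∈ H, ∀ n ∈ N, h * n * h⁻¹ ∈ N) (hN : IsPGroup p N) (hEN : E ≤ N)
    (hHE : ∀ h ∈ H, ∀ e ∈ E, h * e * h⁻¹ ∈ E) (hEc : ∀ a ∈ E, ∀ b ∈ E, a * b = b * a)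
    (hEp : ∀ e ∈ E, e ^ p = 1) (hEnc : ∀ x ∈ E, ¬ E ≤ zpowers x)
    (hirr : ∀ W : Subgroup V, (∀ h ∈ H, ∀ w ∈ W, h w ∈ W) → W = ⊥ ∨ W = ⊤)
    {a : MulAut V} (ha : a ∈ N) (ha1 : a ≠ 1) : ∃ v : V, ∀ h ∈ H, (h * a * h⁻¹) v ≠ v := by
  have hp := hpf.out
  have hbt : (⊥ : Subgroup V) ≠ ⊤ := by
    intro h
    apply ha1
    ext v
    have hv : v ∈ (⊥ : Subgroup V) := by rw [h]; trivial
    rw [mem_bot] at hv
    rw [hv, map_one, map_one]
  have hpg : ∀ K ≤ E, IsPGroup p K := fun K hK => hN.to_le (hK.trans hEN)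
  have hcjE : ∀ h ∈ H, cj h E = E := by
    intro h hh
    ext x
    rw [mem_cj]
    constructor
    · intro hx
      have h1 := hHE h hh _ hx
      have h2 : h * (h⁻¹ * x * h) * h⁻¹ = x := by group
      rwa [h2] at h1
    · intro hx
      have h1 := hHE h⁻¹ (H.inv_mem hh) _ hx
      rwa [inv_inv] at h1
  -- fixed points of an invariant subgroup
  have hfixinv : ∀ K : Subgroup (MulAut V), (∀ h ∈ H, cj h K = K) → fixS K = ⊥ ∨ K = ⊥ := by
    intro K hK
    rcases hirr (fixS K) (fun h hh w hw k hk => by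
      have h1 : h⁻¹ * k * h ∈ K := by
        rw [← mem_cj, hK h hh]; exact hk
      have h2 : k * h = h * (h⁻¹ * k * h) := by group
      rw [← MulAut.mul_apply, h2, MulAut.mul_apply, hw _ h1]) with h1 | h1
    · exact Or.inl h1
    · right
      rw [eq_bot_iff]
      intro k hk
      rw [mem_bot]
      ext v
      have hv : v ∈ fixS K := by rw [h1]; trivial
      exact hv k hk
  have hE0 : fixS E = ⊥ := by
    refine (hfixinv E hcjE).resolve_right fun h => ?_
    exact hEnc 1 E.one_mem (by rw [h]; exact bot_le)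
  -- the maximal `K₁`
  obtain ⟨K₁, hK₁⟩ := (Set.toFinite {K : Subgroup (MulAut V) | K ≤ E ∧ fixS K ≠ ⊥}).exists_maximal
    ⟨⊥, bot_le, fun h => hbt (h.symm.trans (eq_top_iff.mpr fun v _ k hk => by
      rw [mem_bot] at hk; rw [hk]; rfl))⟩
  obtain ⟨⟨hK₁E, hK₁f⟩, hK₁max⟩ := hK₁
  have hnofix : ∀ e ∈ E, e ∉ K₁ → ∀ w ∈ fixS K₁, e w = w → w = 1 := by
    intro e he hne w hw hew
    by_contra hw1
    have h1 : K₁ ⊔ zpowers e ∈ {K : Subgroup (MulAut V) | K ≤ E ∧ fixS K ≠ ⊥} := by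
      refine ⟨sup_le hK₁E (by rw [zpowers_le]; exact he), fun h => hw1 ?_⟩
      have h2 : w ∈ fixS (K₁ ⊔ zpowers e) := by
        have h3 : K₁ ⊔ zpowers e ≤
            { carrier := {x | x w = w}
              mul_mem' := fun {x y} hx hy => by
                change (x * y) w = w
                rw [MulAut.mul_apply, hy, hx]
              one_mem' := rfl
              inv_mem' := fun {x} hx => fix_inv hx : Subgroup (MulAut V) } := by
          refine sup_le (fun k hk => hw k hk) ?_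
          rw [zpowers_le]
          exact hew
        exact fun k hk => h3 hk
      rw [h, mem_bot] at h2
      exact h2
    exact hne (hK₁max h1 le_sup_left ((le_sup_right : zpowers e ≤ _) (mem_zpowers e)))
  have hK₁lt : K₁ < E := lt_of_le_of_ne hK₁E fun h => hK₁f (by rw [h]; exact hE0)
  have hgen : ∀ x ∈ E, x ∉ K₁ → E ≤ K₁ ⊔ zpowers x := by
    intro x hx hxK y hy
    have hWinv : ∀ e ∈ E, ∀ w ∈ fixS K₁, e w ∈ fixS K₁ := by
      intro e he w hw k hk
      rw [← MulAut.mul_apply, hEc k (hK₁E hk) e he, MulAut.mul_apply, hw k hk]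
    obtain ⟨k, w, hw, hw1, hkw⟩ := exists_fixed hp hV (x := y) (z := x) (hEc y hy x hx)
      (hEp y hy) (hEp x hx) hK₁f (hWinv y hy) (hWinv x hx) (hnofix x hx hxK)
    have h1 : y * x ^ k ∈ K₁ := by
      by_contra hn
      exact hw1 (hnofix _ (E.mul_mem hy (E.pow_mem hx k)) hn w hw hkw)
    have h2 : y = (y * x ^ k) * (x ^ k)⁻¹ := by group
    rw [h2]
    exact mul_mem ((le_sup_left : K₁ ≤ _) h1)
      (inv_mem ((le_sup_right : zpowers x ≤ _) (pow_mem (mem_zpowers x) k)))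
  have hcov₁ : K₁ ⋖ E := by
    refine ⟨hK₁lt, fun L hL1 hL2 => ?_⟩
    obtain ⟨x, hxL, hxK⟩ := SetLike.exists_of_lt hL1
    have h1 := hgen x (hL2.le hxL) hxK
    exact hL2.not_ge (h1.trans (sup_le hL1.le (by rw [zpowers_le]; exact hxL)))
  have hK₁ne : K₁ ≠ ⊥ := by
    intro h
    obtain ⟨x, hxE, hxK⟩ := SetLike.exists_of_lt hK₁lt
    have h1 := hgen x hxE hxK
    rw [h, bot_sup_eq] at h1
    exact hEnc x hxE h1
  -- the stabilizer of `K₁`
  have hNlt : H ⊓ normalizer (K₁ : Set (MulAut V)) < H := by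
    refine lt_of_le_of_ne inf_le_left fun h => ?_
    rcases hfixinv K₁ (fun g hg => by
      have h1 : g ∈ normalizer (K₁ : Set (MulAut V)) := by
        rw [← h] at hg; exact hg.2
      ext x
      rw [mem_cj]
      exact (mem_normalizer_iff''.mp h1 x).symm) with h1 | h1
    · exact hK₁f h1
    · exact hK₁ne h1
  obtain ⟨H₁, hNH₁, hcovH⟩ := exists_le_covBy_of_lt hNlt
  -- the block
  let B : Set (Subgroup (MulAut V)) := {K | ∃ g ∈ H₁, K = cj g K₁}
  have hB1 : K₁ ∈ B := ⟨1, H₁.one_mem, (cj_one K₁).symm⟩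
  have hBinv : ∀ g ∈ H₁, ∀ K, K ∈ B → cj g K ∈ B := by
    rintro g hg K ⟨u, hu, rfl⟩
    exact ⟨g * u, H₁.mul_mem hg hu, cj_cj g u K₁⟩
  have hBout : ∀ h ∈ H, ∀ K, K ∈ B → cj h K ∈ B → h ∈ H₁ := by
    rintro h hh K ⟨u, hu, rfl⟩ ⟨u', hu', heq⟩
    have h1 : cj (u'⁻¹ * h * u) K₁ = K₁ := by
      have h2 := congrArg (cj u'⁻¹) heq
      rwa [cj_cj, cj_cj, cj_cj, inv_mul_cancel, cj_one] at h2
    have h3 : u'⁻¹ * h * u ∈ H₁ := by
      refine hNH₁ ⟨H.mul_mem (H.mul_mem (H.inv_mem (hcovH.le hu')) hh) (hcovH.le hu), ?_⟩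
      refine mem_normalizer_iff''.mpr fun x => ?_
      rw [← mem_cj, h1]
    have h4 : h = u' * (u'⁻¹ * h * u) * u⁻¹ := by group
    rw [h4]
    exact H₁.mul_mem (H₁.mul_mem hu' h3) (H₁.inv_mem hu)
  have hcjcov : ∀ h ∈ H, ∀ K : Subgroup (MulAut V), K ⋖ E → cj h K ⋖ E := by
    intro h hh K hK
    have := cj_covBy (h := h) hK
    rwa [hcjE h hh] at this
  have htr : ∀ (h : MulAut V) (K : Subgroup (MulAut V)) (v : V),
      tr K (h v) = h (tr (cj h⁻¹ K) v) := by
    intro h K v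
    have := tr_cj (K := cj h⁻¹ K) (h := h) v
    rwa [cj_cj, mul_inv_cancel, cj_one] at this
  let V₁ : Subgroup V :=
    { carrier := {v | ∀ K, K ⋖ E → K ∉ B → tr K v = 1}
      mul_mem' := fun {x y} hx hy K hK hKB => by rw [map_mul, hx K hK hKB, hy K hK hKB, one_mul]
      one_mem' := fun K _ _ => map_one _
      inv_mem' := fun {x} hx K hK hKB => by rw [map_inv, hx K hK hKB, inv_one] }
  let V₂ : Subgroup V :=
    { carrier := {v | ∀ K, K ⋖ E → K ∈ B → tr K v = 1}
      mul_mem' := fun {x y} hx hy K hK hKB => by rw [map_mul, hx K hK hKB, hy K hK hKB, one_mul]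
      one_mem' := fun K _ _ => map_one _
      inv_mem' := fun {x} hx K hK hKB => by rw [map_inv, hx K hK hKB, inv_one] }
  let U : Subgroup V :=
    { carrier := {v | ∀ K, K ⋖ E → tr K v = 1}
      mul_mem' := fun {x y} hx hy K hK => by rw [map_mul, hx K hK, hy K hK, one_mul]
      one_mem' := fun K _ => map_one _
      inv_mem' := fun {x} hx K hK => by rw [map_inv, hx K hK, inv_one] }
  have hU : U = ⊥ := by
    refine (hirr U fun h hh w hw K hK => ?_).resolve_right fun h => ?_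
    · rw [htr, hw _ (hcjcov _ (H.inv_mem hh) K hK), map_one]
    · obtain ⟨w, hw, hw1⟩ := exists_ne_one hK₁f
      have h1 : w ∈ U := by rw [h]; trivial
      have h2 := h1 K₁ hcov₁
      rw [tr_fix hw] at h2
      exact hw1 (pow_card_inj hV (hpg K₁ hK₁E) (by rw [h2, one_pow]))
  have hd : V₁ ⊓ V₂ = ⊥ := by
    rw [eq_bot_iff, ← hU]
    rintro v ⟨hv1, hv2⟩ K hK
    by_cases hKB : K ∈ B
    · exact hv2 K hK hKB
    · exact hv1 K hK hKB
  have h1 : ∀ h ∈ H₁, ∀ v ∈ V₁, h v ∈ V₁ := by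
    intro h hh v hv K hK hKB
    rw [htr, hv _ (hcjcov _ (H.inv_mem (hcovH.le hh)) K hK), map_one]
    intro hmem
    have := hBinv h hh _ hmem
    rw [cj_cj, mul_inv_cancel, cj_one] at this
    exact hKB this
  have h2 : ∀ h ∈ H₁, ∀ v ∈ V₂, h v ∈ V₂ := by
    intro h hh v hv K hK hKB
    rw [htr, hv _ (hcjcov _ (H.inv_mem (hcovH.le hh)) K hK) (hBinv _ (H₁.inv_mem hh) K hKB),
      map_one]
  have hout : ∀ h ∈ H, h ∉ H₁ → ∀ v ∈ V₁, h v ∈ V₂ := by
    intro h hh hh1 v hv K hK hKB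
    rw [htr, hv _ (hcjcov _ (H.inv_mem hh) K hK), map_one]
    intro hmem
    refine hh1 (hBout h hh _ hmem ?_)
    rwa [cj_cj, mul_inv_cancel, cj_one]
  have hsupE : ∀ K, K ⋖ E → K ≠ K₁ → ∀ v, v ∈ fixS K → v ∈ fixS K₁ → v = 1 := by
    intro K hK hne v hv hv'
    have h3 : K ⊔ K₁ = E := by
      have h4 : K < K ⊔ K₁ := by
        refine lt_of_le_of_ne le_sup_left fun h => ?_
        have h5 : K₁ ≤ K := by rw [h]; exact le_sup_right
        rcases h5.eq_or_lt with h6 | h6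
        · exact hne h6.symm
        · exact hcov₁.2 h6 hK.1
      rcases (sup_le hK.le hcov₁.le : K ⊔ K₁ ≤ E).eq_or_lt with h5 | h5
      · exact h5
      · exact absurd h5 (hK.2 h4)
    have h4 : v ∈ fixS E := by
      have h5 : E ≤ { carrier := {x | x v = v}
                      mul_mem' := fun {x y} hx hy => by
                        change (x * y) v = v
                        rw [MulAut.mul_apply, hy, hx]
                      one_mem' := rfl
                      inv_mem' := fun {x} hx => fix_inv hx : Subgroup (MulAut V) } := by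
        rw [← h3]
        exact sup_le (fun k hk => hv k hk) (fun k hk => hv' k hk)
      exact fun k hk => h5 hk
    rw [hE0, mem_bot] at h4
    exact h4
  have hfV₁ : fixS K₁ ≤ V₁ := by
    intro w hw K hK hKB
    refine hsupE K hK (fun h => hKB (by rw [h]; exact hB1)) _ (fun k hk => apply_tr hk w) ?_
    intro k hk
    rw [← tr_conj, hw k hk]
    intro n
    have hkE := hK₁E hk
    constructor
    · intro hn
      rw [hEc k hkE n (hK.le hn), mul_inv_cancel_right]
      exact hn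
    · intro hn
      have h3 : n = k⁻¹ * (k * n * k⁻¹) * k := by group
      rw [h3, hEc _ (E.inv_mem hkE) _ (hK.le hn), inv_mul_cancel_right]
      exact hn
  have hV₁0 : V₁ ≠ ⊥ := fun h => hK₁f (by rw [eq_bot_iff, ← h]; exact hfV₁)
  have hV₁1 : V₁ ≠ ⊤ := by
    intro h
    obtain ⟨g, hgH, hgH₁⟩ := SetLike.exists_of_lt hcovH.1
    have h3 : V₂ = ⊤ := by
      rw [eq_top_iff]
      intro v _
      have h4 : g⁻¹ v ∈ V₁ := by rw [h]; trivial
      have h5 := hout g hgH hgH₁ _ h4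
      rwa [← MulAut.mul_apply, mul_inv_cancel, MulAut.one_apply] at h5
    rw [h, h3, top_inf_eq] at hd
    exact hbt hd.symm
  refine of_imprimitive hNH hHN hN hcovH h1 h2 hd hout hV₁0 (hIH V₁ hV₁1) ha ?_
  by_contra hcon
  push Not at hcon
  let T : Subgroup V :=
    { carrier := {v | ∀ h ∈ H, a (h v) = h v}
      mul_mem' := fun {x y} hx hy h hh => by rw [map_mul, map_mul, hx h hh, hy h hh]
      one_mem' := fun h _ => by rw [map_one, map_one]
      inv_mem' := fun {x} hx h hh => by rw [map_inv, map_inv, hx h hh] }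
  rcases hirr T (fun g hg w hw h hh => hw (h * g) (H.mul_mem hh hg)) with h3 | h3
  · apply hV₁0
    rw [eq_bot_iff, ← h3]
    exact fun w hw h hh => hcon h hh w hw
  · apply ha1
    ext v
    have hv : v ∈ T := by rw [h3]; trivial
    exact hv 1 H.one_mem

end Cfsg.Agent.H568.Elem
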