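import Cfsg.Agent.H568.LinA

/-!
# Coprime automorphisms of `p`-groups acting on small modules (helper568)
-/

set_option autoImplicit false

namespace Cfsg.Agent.H568.LinB

open Module Subgroup Cfsg.Agent.H568.LinA

section Grp

variable {P : Type*} [Group P] [Finite P] {p l : ℕ}

/-- `α (y) = y u` with `α u = u` and `α ^ l = 1`: then `u = 1`. -/
theorem eq_of_fix (hP : IsPGroup p P) (hp : p.Prime) (hl : l.Prime) (hlp : l ≠ p) (α : P →* P)
    (hα : ∀ y, α^[l] y = y) {y : P} (h : α (y⁻¹ * α y) = y⁻¹ * α y) : α y = y := by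
  set u := y⁻¹ * α y with hu
  have h1 : α y = y * u := by rw [hu, mul_inv_cancel_left]
  have h2 : ∀ k : ℕ, α^[k] y = y * u ^ k := by
    intro k
    induction k with
    | zero => simp
    | succ k ih => rw [Function.iterate_succ_apply', ih, map_mul, map_pow, h, h1, pow_succ', mul_assoc]
  have h3 : u ^ l = 1 := by
    have h4 := h2 l
    rw [hα] at h4
    exact (mul_eq_left.1 h4.symm)
  have h4 : u = 1 := by
    obtain ⟨k, hk⟩ := hP u
    have h5 : orderOf u ∣ Nat.gcd l (p ^ k) := Nat.dvd_gcd (orderOf_dvd_of_pow_eq_one h3) (orderOf_dvd_of_pow_eq_one hk)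
    rw [Nat.Coprime.pow_right k ((Nat.coprime_primes hl hp).2 hlp), Nat.dvd_one, orderOf_eq_one_iff] at h5
    exact h5
  rw [h1, h4, mul_one]

theorem injective_of_iterate (hl : l.Prime) (α : P →* P) (hα : ∀ y, α^[l] y = y) : Function.Injective α := by
  intro a b h
  obtain ⟨m, rfl⟩ := Nat.exists_eq_succ_of_ne_zero hl.ne_zero
  rw [← hα a, ← hα b, Function.iterate_succ_apply, Function.iterate_succ_apply, h]

/-- The induction hypothesis: `α` is trivial on all proper invariant subgroups. -/
def Triv (α : P →* P) : Prop := ∀ R : Subgroup P, R ≠ ⊤ → (∀ r ∈ R, α r ∈ R) → ∀ r ∈ R, α r = r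

theorem le_center_of_triv (hP : IsPGroup p P) (hp : p.Prime) (hl : l.Prime) (hlp : l ≠ p) (α : P →* P)
    (hα : ∀ y, α^[l] y = y) (hne : ∃ y, α y ≠ y) (hT : Triv α) {R : Subgroup P} (hR : R ≠ ⊤) (hRn : R.Normal)
    (hRα : ∀ r ∈ R, α r ∈ R) : R ≤ center P := by
  have hfix := hT R hR hRα
  set C := centralizer (R : Set P) with hC
  have hCtop : C = ⊤ := by
    by_contra hCt
    have hCα : ∀ c ∈ C, α c ∈ C := by
      intro c hc
      rw [hC, mem_centralizer_iff] at hc ⊢
      intro r hr
      have h1 := congrArg α (hc r hr)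
      rw [map_mul, map_mul, hfix r hr] at h1
      exact h1
    have hCf := hT C hCt hCα
    obtain ⟨y, hy⟩ := hne
    apply hy
    refine eq_of_fix hP hp hl hlp α hα (hCf _ ?_)
    rw [hC, mem_centralizer_iff]
    intro r hr
    have h1 : y * r * y⁻¹ ∈ R := hRn.conj_mem r hr y
    have h2 := hfix _ h1
    rw [map_mul, map_mul, map_inv, hfix r hr] at h2
    have h3 : r * (y⁻¹ * α y) = y⁻¹ * (y * r * y⁻¹) * α y := by group
    rw [h3, ← h2]
    group
  intro r hr
  rw [mem_center_iff]
  intro g
  have hg : g ∈ C := by rw [hCtop]; exact mem_top g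
  rw [hC, mem_centralizer_iff] at hg
  exact (hg r hr).symm

theorem map_center (hl : l.Prime) (α : P →* P) (hα : ∀ y, α^[l] y = y) : ∀ z ∈ center P, α z ∈ center P := by
  intro z hz
  have hinj := injective_of_iterate hl α hα
  have hsurj : Function.Surjective α := Finite.surjective_of_injective hinj
  rw [mem_center_iff] at hz ⊢
  intro g
  obtain ⟨h, rfl⟩ := hsurj g
  rw [← map_mul, ← map_mul, hz h]

theorem commutator_le_center (hP : IsPGroup p P) (hp : p.Prime) (hl : l.Prime) (hlp : l ≠ p) (α : P →* P)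
    (hα : ∀ y, α^[l] y = y) (hne : ∃ y, α y ≠ y) (hT : Triv α) : commutator P ≤ center P := by
  have : Fact p.Prime := ⟨hp⟩
  refine le_center_of_triv hP hp hl hlp α hα hne hT ?_ inferInstance ?_
  · intro htop
    obtain ⟨y, hy⟩ := hne
    have hnt : Nontrivial P := ⟨⟨_, _, hy⟩⟩
    have hnil := hP.isNilpotent
    have : Group.IsSolvable P := inferInstance
    exact (Group.IsSolvable.commutator_lt_top_of_nontrivial P).ne htop
  · intro r hr
    have h1 : (commutator P).map α ≤ commutator P := by
      rw [commutator_def, map_commutator]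
      exact commutator_mono le_top le_top
    exact h1 ⟨r, hr, rfl⟩

end Grp

end Cfsg.Agent.H568.LinB
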