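import Cfsg.Agent.H568.LinB

/-!
# Coprime automorphisms of `p`-groups acting on small modules: the two cases (helper568)
-/

set_option autoImplicit false
set_option linter.unusedSectionVars false

namespace Cfsg.Agent.H568.LinC

open Module Subgroup Cfsg.Agent.H568.LinA Cfsg.Agent.H568.LinB

variable {P K V : Type*} [Group P] [Finite P] [Field K] [IsAlgClosed K] [AddCommGroup V] [Module K V]
  [FiniteDimensional K V] {p l : ℕ}

/-- The situation. -/
structure Sit (p l : ℕ) (α : P →* P) (ρ : P →* End K V) (X : End K V) : Prop where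
  hP : IsPGroup p P
  hp : p.Prime
  hp2 : p ≠ 2
  hl : l.Prime
  hlp : l ≠ p
  hpK : (p : K) ≠ 0
  hα : ∀ y, α^[l] y = y
  hρ : Function.Injective ρ
  hXi : Function.Injective X
  hX : ∀ y v, X (ρ y v) = ρ (α y) (X v)

/-- The size condition. -/
def Small (l : ℕ) (ρ : P →* End K V) : Prop :=
  finrank K V < l ∨ (l ≠ 2 ∧ finrank K V < 2 * l ∧ ∃ B : V →ₗ[K] V →ₗ[K] K, (∀ v, (∀ w, B v w = 0) → v = 0) ∧
    ∀ y v w, B (ρ y v) (ρ y w) = B v w)

variable {α : P →* P} {ρ : P →* End K V} {X : End K V}

theorem Sit.card_ne (S : Sit p l α ρ X) : (Nat.card P : K) ≠ 0 := by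
  have : Fact p.Prime := ⟨S.hp⟩
  obtain ⟨k, hk⟩ := IsPGroup.iff_card.1 S.hP
  rw [hk, Nat.cast_pow]
  exact pow_ne_zero _ S.hpK

theorem Sit.odd_card (S : Sit p l α ρ X) : Odd (Nat.card P) := by
  have : Fact p.Prime := ⟨S.hp⟩
  obtain ⟨k, hk⟩ := IsPGroup.iff_card.1 S.hP
  rw [hk]
  exact (S.hp.odd_of_ne_two S.hp2).pow

theorem rho_pow (ρ : P →* End K V) (y : P) : ρ y ^ Nat.card P = 1 := by
  rw [← map_pow, pow_card_eq_one', map_one]

theorem eig_pow {f : End K V} {c : K} {v : V} (h : f v = c • v) (k : ℕ) : (f ^ k) v = c ^ k • v := by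
  induction k with
  | zero => simp
  | succ k ih => rw [pow_succ', Module.End.mul_apply, ih, map_smul, h, smul_smul, ← pow_succ]

theorem eig_card (ρ : P →* End K V) {c : K} {v : V} (hv : v ≠ 0) {y : P} (h : ρ y v = c • v) :
    c ^ Nat.card P = 1 := by
  have h1 := eig_pow h (Nat.card P)
  rw [rho_pow, Module.End.one_apply] at h1
  have h2 : (1 : K) • v = c ^ Nat.card P • v := by rw [one_smul]; exact h1
  exact (smul_left_injective K hv h2).symm

theorem eig_ne_zero (ρ : P →* End K V) {c : K} {v : V} (hv : v ≠ 0) {y : P} (h : ρ y v = c • v) : c ≠ 0 := by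
  rintro rfl
  have h1 := eig_card ρ hv h
  rw [zero_pow (Nat.card_pos).ne'] at h1
  exact zero_ne_one h1

theorem eq_one_of_sq (S : Sit p l α ρ X) {c : K} (h : c ^ Nat.card P = 1) (h2 : c * c = 1) : c = 1 := by
  obtain ⟨m, hm⟩ := S.odd_card
  rw [hm, pow_succ, pow_mul, sq, h2, one_pow, one_mul] at h
  exact h

theorem Sit.iter (S : Sit p l α ρ X) (k : ℕ) (y : P) (v : V) : (X ^ k) (ρ y v) = ρ (α^[k] y) ((X ^ k) v) := by
  induction k with
  | zero => simp
  | succ k ih => rw [pow_succ', Module.End.mul_apply, Module.End.mul_apply, ih, S.hX, Function.iterate_succ_apply']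

theorem Sit.pow_ne_zero (S : Sit p l α ρ X) (k : ℕ) {v : V} (hv : v ≠ 0) : (X ^ k) v ≠ 0 := by
  induction k with
  | zero => simpa using hv
  | succ k ih =>
    rw [pow_succ', Module.End.mul_apply]
    intro h
    exact ih (S.hXi (by rw [h, map_zero]))

/-- Joint eigenvectors for the inverse character. -/
theorem exists_dual (S : Sit p l α ρ X) (hcomm : ∀ a b : P, a * b = b * a) {B : V →ₗ[K] V →ₗ[K] K}
    (hB : ∀ v, (∀ w, B v w = 0) → v = 0) (hinv : ∀ y v w, B (ρ y v) (ρ y w) = B v w) {χ : P → K} {v : V} (hv : v ≠ 0)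
    (h : ∀ y, ρ y v = χ y • v) : ∃ w : V, w ≠ 0 ∧ ∀ y, ρ y w = (χ y)⁻¹ • w := by
  by_contra hcon
  push Not at hcon
  apply hv
  apply hB
  have h1 : B v = 0 := by
    refine eq_of_joint (fun y : P => ρ y) (fun a b => by rw [← map_mul, ← map_mul, hcomm]) (Nat.card P) S.card_ne
      (fun y => rho_pow ρ y) fun ψ w hw => ?_
    rw [LinearMap.zero_apply]
    by_contra hne
    have hw0 : w ≠ 0 := by rintro rfl; exact hne (map_zero _)
    obtain ⟨y, hy⟩ := hcon w hw0
    apply hy
    rw [hw y]
    congr 1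
    have h2 := hinv y v w
    rw [h y, hw y, map_smul, map_smul, LinearMap.smul_apply, smul_smul, smul_eq_mul] at h2
    have h3 : ψ y * χ y = 1 := by
      have : (ψ y * χ y) * B v w = 1 * B v w := by rw [h2, one_mul]
      exact mul_right_cancel₀ hne this
    exact eq_inv_of_mul_eq_one_left h3
  intro w
  rw [h1, LinearMap.zero_apply]

theorem comm_case (S : Sit p l α ρ X) (hs : Small l ρ) (hcomm : ∀ a b : P, a * b = b * a) : ∀ y, α y = y := by
  by_contra hcon
  push Not at hcon
  obtain ⟨y0, hy0⟩ := hcon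
  obtain ⟨χ, v, hv, hne⟩ : ∃ (χ : P → K) (v : V), (∀ y, ρ y v = χ y • v) ∧ ρ (α y0) v ≠ ρ y0 v := by
    by_contra hcon
    push Not at hcon
    apply hy0
    apply S.hρ
    exact eq_of_joint (fun y : P => ρ y) (fun a b => by rw [← map_mul, ← map_mul, hcomm]) (Nat.card P) S.card_ne
      (fun y => rho_pow ρ y) fun χ v hv => hcon χ v hv
  have hv0 : v ≠ 0 := by rintro rfl; exact hne (by simp)
  have hχ : χ (α y0) ≠ χ y0 := fun h => hne (by rw [hv, hv, h])
  set T : (P → K) → (P → K) := fun f => f ∘ α with hT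
  have hTi : ∀ (k : ℕ) (f : P → K), T^[k] f = f ∘ α^[k] := by
    intro k
    induction k with
    | zero => intro f; rfl
    | succ k ih =>
      intro f
      rw [Function.iterate_succ_apply, ih]
      funext y
      show f (α (α^[k] y)) = f (α^[k + 1] y)
      rw [Function.iterate_succ_apply']
  have hper : Function.IsPeriodicPt T l χ := by
    rw [Function.IsPeriodicPt, Function.IsFixedPt, hTi]
    funext y
    exact congrArg χ (S.hα y)
  have hmin : Function.minimalPeriod T χ = l := by
    rcases (Nat.dvd_prime S.hl).1 hper.minimalPeriod_dvd with h | h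
    · exfalso
      have h1 : Function.IsFixedPt T χ := Function.minimalPeriod_eq_one_iff_isFixedPt.1 h
      exact hχ (congrFun h1 y0)
    · exact h
  have hinj : ∀ i j : Fin l, T^[(i : ℕ)] χ = T^[(j : ℕ)] χ → i = j := by
    intro i j h
    apply Fin.ext
    exact Function.iterate_injOn_Iio_minimalPeriod (by rw [hmin]; exact i.2) (by rw [hmin]; exact j.2) h
  have heig : ∀ (i : Fin l) (y : P), ρ y ((X ^ (l - i)) v) = (T^[(i : ℕ)] χ) y • (X ^ (l - i)) v := by
    intro i y
    have h1 : α^[l - i] (α^[(i : ℕ)] y) = y := by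
      rw [← Function.iterate_add_apply, Nat.sub_add_cancel i.2.le, S.hα]
    have h2 := S.iter (l - i) (α^[(i : ℕ)] y) v
    rw [h1, hv, map_smul] at h2
    rw [← h2, hTi]
    rfl
  rcases hs with hs | ⟨hl2, hs, B, hB, hinv⟩
  · have h1 := card_le_finrank_of_joint (fun y : P => ρ y) (fun i : Fin l => (X ^ (l - i)) v) (fun i => T^[(i : ℕ)] χ)
      (fun i => S.pow_ne_zero _ hv0) (fun y i => heig i y) (fun i j h => hinj i j h)
    rw [Nat.card_eq_fintype_card, Fintype.card_fin] at h1
    omega
  · choose w hw0 hw using fun i : Fin l => exists_dual S hcomm hB hinv (S.pow_ne_zero (l - i) hv0) (heig i)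
    have hcross : ∀ i j : Fin l, T^[(i : ℕ)] χ ≠ fun y => ((T^[(j : ℕ)] χ) y)⁻¹ := by
      intro i j h
      set I : (P → K) → (P → K) := fun f y => (f y)⁻¹ with hI
      have hIT : ∀ (k : ℕ) (f : P → K), T^[k] (I f) = I (T^[k] f) := by
        intro k f
        rw [hTi, hTi]; rfl
      have hII : ∀ f, I (I f) = f := by intro f; funext y; simp [hI]
      have h1 : T^[l - i + j] χ = I χ := by
        have h2 : T^[l - i] (T^[(i : ℕ)] χ) = T^[l - i] (fun y => ((T^[(j : ℕ)] χ) y)⁻¹) := congrArg _ h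
        rw [← Function.iterate_add_apply, Nat.sub_add_cancel i.2.le, hper.eq] at h2
        have h3 : (fun y => ((T^[(j : ℕ)] χ) y)⁻¹) = I (T^[(j : ℕ)] χ) := rfl
        rw [h3, hIT, ← Function.iterate_add_apply] at h2
        have h4 : I χ = I (I (T^[l - i + j] χ)) := congrArg I h2
        rw [h4, hII]
      set m := l - i + j with hm
      have h2 : Function.IsPeriodicPt T (m + m) χ := by
        rw [Function.IsPeriodicPt, Function.IsFixedPt, Function.iterate_add_apply, h1, hIT, h1, hII]
      have h3 : l ∣ m + m := hmin ▸ h2.minimalPeriod_dvd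
      have h4 : l ∣ m := by
        rw [← two_mul] at h3
        exact ((Nat.Prime.dvd_mul S.hl).1 h3).resolve_left fun h5 =>
          hl2 ((Nat.prime_dvd_prime_iff_eq S.hl Nat.prime_two).1 h5)
      have h5 : T^[m] χ = χ := by
        obtain ⟨c, hc⟩ := h4
        rw [hc]
        exact hper.mul_const c |>.eq
      rw [h5] at h1
      have h6 : ∀ y, χ y = 1 := by
        intro y
        have h7 : χ y = (χ y)⁻¹ := congrFun h1 y
        have h8 : χ y ≠ 0 := eig_ne_zero ρ hv0 (hv y)
        refine eq_one_of_sq S (eig_card ρ hv0 (hv y)) ?_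
        nth_rw 2 [h7]
        exact mul_inv_cancel₀ h8
      exact hχ (by rw [h6, h6])
    have h1 := card_le_finrank_of_joint (fun y : P => ρ y)
      (Sum.elim (fun i : Fin l => (X ^ (l - i)) v) w)
      (Sum.elim (fun i => T^[(i : ℕ)] χ) (fun i y => ((T^[(i : ℕ)] χ) y)⁻¹))
      (by
        rintro (i | i)
        · exact S.pow_ne_zero _ hv0
        · exact hw0 i)
      (by
        rintro y (i | i)
        · exact heig i y
        · exact hw i y)
      (by
        rintro (i | i) (j | j) h
        · exact congrArg _ (hinj i j h)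
        · exact absurd h (hcross i j)
        · exact absurd h.symm (hcross j i)
        · refine congrArg _ (hinj i j ?_)
          funext y
          exact inv_injective (congrFun h y))
    rw [Nat.card_eq_fintype_card, Fintype.card_sum, Fintype.card_fin] at h1
    omega

end Cfsg.Agent.H568.LinC
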