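import Cfsg.Agent.H568.LinC

/-!
# Coprime automorphisms of `p`-groups acting on small modules: the nonabelian case (helper568)
-/

set_option autoImplicit false
set_option linter.unusedSectionVars false

namespace Cfsg.Agent.H568.LinD

open Module Subgroup Cfsg.Agent.H568.LinA Cfsg.Agent.H568.LinB Cfsg.Agent.H568.LinC

section Pairing

variable {P : Type*} [Group P] {K : Type*} [Field K]

/-- The commutator as an element of the centre of a group of class two. -/
def com (h2 : commutator P ≤ center P) (a b : P) : center P :=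
  ⟨a * b * a⁻¹ * b⁻¹, h2 (commutator_mem_commutator (mem_top a) (mem_top b))⟩

theorem com_coe (h2 : commutator P ≤ center P) (a b : P) : (com h2 a b : P) = a * b * a⁻¹ * b⁻¹ := rfl

theorem com_mul_left (h2 : commutator P ≤ center P) (a a' b : P) : com h2 (a * a') b = com h2 a b * com h2 a' b := by
  apply Subtype.ext
  have h := mem_center_iff.1 (com h2 a' b).2
  rw [com_coe] at h
  rw [Subgroup.coe_mul, com_coe, com_coe, com_coe]
  have h3 : a * a' * b * (a * a')⁻¹ * b⁻¹ = a * (a' * b * a'⁻¹ * b⁻¹) * a⁻¹ * (a * b * a⁻¹ * b⁻¹) := by group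
  have h4 := h a
  have h5 := h (a * b * a⁻¹ * b⁻¹)
  rw [h3, h4, h5]
  group

theorem com_mul_right (h2 : commutator P ≤ center P) (a b b' : P) : com h2 a (b * b') = com h2 a b * com h2 a b' := by
  apply Subtype.ext
  have h := mem_center_iff.1 (com h2 a b').2
  rw [com_coe] at h
  rw [Subgroup.coe_mul, com_coe, com_coe, com_coe]
  have h3 : a * (b * b') * a⁻¹ * (b * b')⁻¹ = (a * b * a⁻¹ * b⁻¹) * (b * (a * b' * a⁻¹ * b'⁻¹) * b⁻¹) := by group
  rw [h3, h b]
  group

/-- The pairing defined by a character of the centre. -/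
def beta0 (h2 : commutator P ≤ center P) (χ : center P →* Kˣ) : P →* (P →* Kˣ) where
  toFun a :=
    { toFun := fun b => χ (com h2 a b)
      map_one' := by
        have : com h2 a 1 = 1 := Subtype.ext (by rw [com_coe]; simp)
        rw [this, map_one]
      map_mul' := fun b b' => by rw [com_mul_right, map_mul] }
  map_one' := by
    ext b
    have : com h2 1 b = 1 := Subtype.ext (by rw [com_coe]; simp)
    show ((χ (com h2 1 b) : Kˣ) : K) = ((1 : Kˣ) : K)
    rw [this, map_one]
  map_mul' a a' := by
    ext b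
    show ((χ (com h2 (a * a') b) : Kˣ) : K) = ((χ (com h2 a b) * χ (com h2 a' b) : Kˣ) : K)
    rw [com_mul_left, map_mul]

theorem beta0_apply (h2 : commutator P ≤ center P) (χ : center P →* Kˣ) (a b : P) :
    beta0 h2 χ a b = χ (com h2 a b) := rfl

theorem beta0_self (h2 : commutator P ≤ center P) (χ : center P →* Kˣ) (a : P) : beta0 h2 χ a a = 1 := by
  rw [beta0_apply]
  have : com h2 a a = 1 := Subtype.ext (by rw [com_coe]; simp)
  rw [this, map_one]

theorem beta0_swap (h2 : commutator P ≤ center P) (χ : center P →* Kˣ) (a b : P) :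
    beta0 h2 χ a b * beta0 h2 χ b a = 1 := by
  rw [beta0_apply, beta0_apply, ← map_mul]
  have : com h2 a b * com h2 b a = 1 := Subtype.ext (by
    rw [Subgroup.coe_mul, com_coe, com_coe, Subgroup.coe_one]; group)
  rw [this, map_one]

theorem mem_ker_iff (h2 : commutator P ≤ center P) (χ : center P →* Kˣ) (a : P) :
    a ∈ (beta0 h2 χ).ker ↔ ∀ b, χ (com h2 a b) = 1 := by
  rw [MonoidHom.mem_ker]
  exact ⟨fun h b => DFunLike.congr_fun h b, fun h => MonoidHom.ext h⟩

/-- The pairing on the quotient. -/
def beta1 (h2 : commutator P ≤ center P) (χ : center P →* Kˣ) :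
    P ⧸ (beta0 h2 χ).ker →* (P ⧸ (beta0 h2 χ).ker →* Kˣ) :=
  QuotientGroup.lift _
    { toFun := fun a => QuotientGroup.lift (beta0 h2 χ).ker (beta0 h2 χ a) (fun b hb => by
        have h3 := beta0_swap h2 χ a b
        rw [(MonoidHom.mem_ker.1 hb : beta0 h2 χ b = 1), MonoidHom.one_apply, mul_one] at h3
        exact h3)
      map_one' := by
        ext b
        simp
      map_mul' := fun a a' => by
        ext b
        show ((beta0 h2 χ (a * a') b : Kˣ) : K) = ((beta0 h2 χ a b * beta0 h2 χ a' b : Kˣ) : K)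
        rw [map_mul, MonoidHom.mul_apply] }
    (fun a ha => by
      ext b
      simp [(MonoidHom.mem_ker.1 ha : beta0 h2 χ a = 1)])

theorem beta1_mk (h2 : commutator P ≤ center P) (χ : center P →* Kˣ) (a b : P) :
    beta1 h2 χ (a : P ⧸ (beta0 h2 χ).ker) (b : P ⧸ (beta0 h2 χ).ker) = χ (com h2 a b) := rfl

end Pairing

/-- A map of prime order `l` on a finite set. -/
theorem card_modEq_fixed {M : Type*} [Finite M] {l : ℕ} (hl : l.Prime) (f : M → M) (hf : ∀ m, f^[l] m = m) (m0 : M)
    (hfix : ∀ m, f m = m ↔ m = m0) : Nat.card M ≡ 1 [MOD l] := by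
  classical
  have := Fintype.ofFinite M
  have : Fact l.Prime := ⟨hl⟩
  have h1 := Equiv.Perm.card_fixedPoints_modEq (α := M) (f := f) (p := l) (n := 1)
    (by
      rw [pow_one]
      funext m
      have h2 : ∀ k : ℕ, ((show Function.End M from f) ^ k) m = f^[k] m := by
        intro k
        induction k with
        | zero => rfl
        | succ k ih =>
          rw [pow_succ', Function.iterate_succ_apply', ← ih]
          rfl
      rw [h2, hf]
      rfl)
  rw [Nat.card_eq_fintype_card]
  refine h1.trans ?_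
  have h2 : Fintype.card (Function.fixedPoints f) = 1 := by
    rw [Fintype.card_eq_one_iff]
    refine ⟨⟨m0, (hfix m0).2 rfl⟩, fun y => Subtype.ext ((hfix _).1 y.2)⟩
  rw [h2]

end Cfsg.Agent.H568.LinD
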