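import Cfsg.Agent.H568.LinD

/-!
# Coprime automorphisms of `p`-groups acting on small modules: assembly (helper568)
-/

set_option autoImplicit false
set_option linter.unusedSectionVars false

namespace Cfsg.Agent.H568.LinE

open Module Subgroup Cfsg.Agent.H568.LinA Cfsg.Agent.H568.LinB Cfsg.Agent.H568.LinC Cfsg.Agent.H568.LinD

variable {P K V : Type*} [Group P] [Finite P] [Field K] [IsAlgClosed K] [AddCommGroup V] [Module K V]
  [FiniteDimensional K V] {p l : ℕ} {α : P →* P} {ρ : P →* End K V} {X : End K V}

/-- `α` has no fixed points on the quotient by a central invariant subgroup containing the centre. -/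
theorem card_modEq (S : Sit p l α ρ X) (hT : Triv α) (hne : ∃ y, α y ≠ y) (hZt : center P ≠ ⊤) {Z : Subgroup P}
    [Z.Normal] (hZ : Z = center P) : Nat.card (P ⧸ Z) ≡ 1 [MOD l] := by
  have hc2 := commutator_le_center S.hP S.hp S.hl S.hlp α S.hα hne hT
  have hfixZ : ∀ z ∈ center P, α z = z := hT _ hZt (map_center S.hl α S.hα)
  have hle : Z ≤ Z.comap α := by
    intro z hz
    rw [hZ] at hz
    rw [mem_comap, hfixZ z hz, hZ]
    exact hz
  refine card_modEq_fixed S.hl (QuotientGroup.map Z Z α hle) ?_ 1 ?_
  · intro m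
    obtain ⟨a, rfl⟩ := QuotientGroup.mk_surjective m
    have h1 : ∀ k : ℕ, (QuotientGroup.map Z Z α hle)^[k] (a : P ⧸ Z) = ((α^[k] a : P) : P ⧸ Z) := by
      intro k
      induction k with
      | zero => rfl
      | succ k ih => rw [Function.iterate_succ_apply', ih, Function.iterate_succ_apply']; rfl
    rw [h1, S.hα]
  · intro m
    obtain ⟨a, rfl⟩ := QuotientGroup.mk_surjective m
    constructor
    · intro h
      have h1 : a⁻¹ * α a ∈ Z := by
        have h2 : ((a : P) : P ⧸ Z) = ((α a : P) : P ⧸ Z) := h.symm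
        exact QuotientGroup.eq.1 h2
      rw [hZ] at h1
      have h2 : α a = a := eq_of_fix S.hP S.hp S.hl S.hlp α S.hα (hfixZ _ h1)
      -- the subgroup generated by the centre and the fixed points
      set F : Subgroup P := (α.eqLocus (MonoidHom.id P)) with hF
      have hFZ : center P ≤ F := fun z hz => hfixZ z hz
      have hFt : F ≠ ⊤ := by
        intro h3
        obtain ⟨y, hy⟩ := hne
        have h4 : y ∈ F := by rw [h3]; exact mem_top y
        exact hy h4
      have hFn : F.Normal := by
        refine ⟨fun n hn g => ?_⟩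
        have h3 : g * n * g⁻¹ = (g * n * g⁻¹ * n⁻¹) * n := by group
        rw [h3]
        exact F.mul_mem (hFZ (hc2 (commutator_mem_commutator (mem_top g) (mem_top n)))) hn
      have h3 := le_center_of_triv S.hP S.hp S.hl S.hlp α S.hα hne hT hFt hFn (fun r hr => by
        have h4 : α r = r := hr
        rw [h4]; exact hr)
      have h4 : a ∈ center P := h3 h2
      rw [QuotientGroup.eq_one_iff, hZ]
      exact h4
    · intro h
      rw [h, map_one]

theorem noncomm_case (S : Sit p l α ρ X) (hs : Small l ρ) (hT : Triv α) (hne : ∃ y, α y ≠ y) {a0 b0 : P}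
    (hab : a0 * b0 ≠ b0 * a0) : False := by
  classical
  have hc2 := commutator_le_center S.hP S.hp S.hl S.hlp α S.hα hne hT
  have hZt : center P ≠ ⊤ := by
    intro h
    exact hab ((mem_center_iff.1 (h ▸ mem_top b0 : b0 ∈ center P) a0))
  have hfixZ : ∀ z ∈ center P, α z = z := hT _ hZt (map_center S.hl α S.hα)
  set w : center P := com hc2 a0 b0 with hw
  have hw1 : ρ w ≠ ρ 1 := by
    intro h
    apply hab
    have h1 := S.hρ h
    rw [hw, com_coe, mul_inv_eq_one, mul_inv_eq_iff_eq_mul] at h1
    exact h1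
  -- a character of the centre
  obtain ⟨χ0, v0, hv0, hχ0⟩ : ∃ (χ0 : center P → K) (v0 : V), (∀ z : center P, ρ z v0 = χ0 z • v0) ∧ ρ w v0 ≠ v0 := by
    by_contra hcon
    push Not at hcon
    apply hw1
    rw [map_one]
    refine eq_of_joint (fun z : center P => ρ z) (fun a b => ?_) (Nat.card P) S.card_ne
      (fun y => rho_pow ρ y) fun χ v hv => hcon χ v hv
    rw [← map_mul, ← map_mul, mem_center_iff.1 b.2 a]
  have hv00 : v0 ≠ 0 := by rintro rfl; exact hχ0 (by simp)
  let χ1 : center P →* K :=
    { toFun := χ0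
      map_one' := by
        have h1 := hv0 1
        rw [Subgroup.coe_one, map_one, Module.End.one_apply] at h1
        have h2 : (1 : K) • v0 = χ0 1 • v0 := by rw [one_smul]; exact h1
        exact (smul_left_injective K hv00 h2).symm
      map_mul' := fun a b => by
        have h1 := hv0 (a * b)
        rw [Subgroup.coe_mul, map_mul, Module.End.mul_apply, hv0 b, map_smul, hv0 a, smul_smul] at h1
        have h2 := smul_left_injective K hv00 h1
        show χ0 (a * b) = χ0 a * χ0 b
        rw [mul_comm]
        exact h2.symm }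
  let χ : center P →* Kˣ := χ1.toHomUnits
  have hχ : ∀ z : center P, ((χ z : Kˣ) : K) = χ0 z := fun z => rfl
  have hv0' : ∀ z : center P, ρ z v0 = (χ z : K) • v0 := fun z => hv0 z
  have hχw : χ w ≠ 1 := by
    intro h
    apply hχ0
    rw [hv0', h, Units.val_one, one_smul]
  -- the radical is the centre
  set Z0 := (beta0 hc2 χ).ker with hZ0
  have hcle : center P ≤ Z0 := by
    intro z hz
    rw [hZ0, mem_ker_iff]
    intro b
    have : com hc2 z b = 1 := Subtype.ext (by
      rw [com_coe, Subgroup.coe_one, ← mem_center_iff.1 hz b]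
      group)
    rw [this, map_one]
  have hZ0t : Z0 ≠ ⊤ := by
    intro h
    have h1 : a0 ∈ Z0 := by rw [h]; exact mem_top a0
    rw [hZ0, mem_ker_iff] at h1
    exact hχw (h1 b0)
  have hsurj : Function.Surjective α := Finite.surjective_of_injective (injective_of_iterate S.hl α S.hα)
  have hcomα : ∀ a b, com hc2 (α a) (α b) = com hc2 a b := by
    intro a b
    apply Subtype.ext
    rw [com_coe, com_coe]
    have h1 := hfixZ _ (com hc2 a b).2
    rw [com_coe, map_mul, map_mul, map_mul, map_inv, map_inv] at h1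
    exact h1
  have hZ0α : ∀ z ∈ Z0, α z ∈ Z0 := by
    intro z hz
    rw [hZ0, mem_ker_iff] at hz ⊢
    intro b
    obtain ⟨b', rfl⟩ := hsurj b
    rw [hcomα]
    exact hz b'
  have hZ0c : Z0 = center P :=
    le_antisymm (le_center_of_triv S.hP S.hp S.hl S.hlp α S.hα hne hT hZ0t inferInstance hZ0α) hcle
  -- the lagrangian
  obtain ⟨L, hL, hLc⟩ := exists_lagrangian (beta1 hc2 χ)
    (fun a => by
      obtain ⟨a, rfl⟩ := QuotientGroup.mk_surjective a
      have h := beta0_self hc2 χ a
      rw [beta0_apply] at h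
      rw [beta1_mk]
      exact h)
    (fun a ha => by
      obtain ⟨a, rfl⟩ := QuotientGroup.mk_surjective a
      rw [QuotientGroup.eq_one_iff, mem_ker_iff]
      intro b
      have h := ha (b : P ⧸ Z0)
      rwa [beta1_mk] at h)
  set s := Nat.card L with hsdef
  have hMcard : Nat.card (P ⧸ Z0) = s * s := by
    rw [← L.card_mul_index, hLc]
  have hmod := card_modEq S hT hne hZt hZ0c
  rw [hMcard] at hmod
  set B0 : Subgroup P := L.comap (QuotientGroup.mk' Z0) with hB0
  have hB0i : B0.index = s := by
    rw [hB0, Subgroup.index_comap_of_surjective _ (QuotientGroup.mk'_surjective Z0), hLc]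
  have hB0mem : ∀ a, a ∈ B0 ↔ ∀ b ∈ B0, χ (com hc2 a b) = 1 := by
    intro a
    rw [hB0, mem_comap, hL]
    constructor
    · intro h b hb
      have h1 := h _ hb
      rwa [QuotientGroup.mk'_apply, QuotientGroup.mk'_apply, beta1_mk] at h1
    · intro h b hb
      obtain ⟨b, rfl⟩ := QuotientGroup.mk_surjective b
      rw [QuotientGroup.mk'_apply, beta1_mk]
      exact h b hb
  -- the isotypic component
  let U : Submodule K V :=
    { carrier := {v | ∀ z : center P, ρ z v = (χ z : K) • v}
      add_mem' := fun {a b} ha hb z => by rw [map_add, ha z, hb z, smul_add]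
      zero_mem' := fun z => by simp
      smul_mem' := fun c v hv z => by rw [map_smul, hv z, smul_comm] }
  have hUmem : ∀ v, v ∈ U ↔ ∀ z : center P, ρ z v = (χ z : K) • v := fun v => Iff.rfl
  have hU : ∀ (b : P), ∀ v ∈ U, ρ b v ∈ U := by
    intro b v hv
    rw [hUmem] at hv ⊢
    intro z
    have h1 : ρ (z : P) (ρ b v) = ρ b (ρ (z : P) v) := by
      rw [← Module.End.mul_apply, ← Module.End.mul_apply, ← map_mul, ← map_mul, mem_center_iff.1 z.2 b]
    rw [h1, hv z, map_smul]
  have hUnt : Nontrivial U := ⟨⟨⟨v0, hv0'⟩, 0, fun h => hv00 (congrArg Subtype.val h)⟩⟩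
  let f : B0 → End K U := fun b => (ρ (b : P)).restrict (hU b)
  have hfv : ∀ (b : B0) (u : U), ((f b u : U) : V) = ρ (b : P) (u : V) := fun b u => rfl
  have hswap : ∀ (a b : P) (u : V), u ∈ U → ρ b (ρ a u) = (χ (com hc2 b a) : K) • ρ a (ρ b u) := by
    intro a b u hu
    have h1 : b * a = (com hc2 b a : P) * (a * b) := by rw [com_coe]; group
    have h2 := (hUmem _).1 (hU a _ (hU b _ hu)) (com hc2 b a)
    rw [← h2, ← Module.End.mul_apply, ← map_mul, h1, map_mul, map_mul, Module.End.mul_apply, Module.End.mul_apply]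
  obtain ⟨ψ, u, hu0, hu⟩ := exists_joint f
    (fun a b => by
      refine LinearMap.ext fun x => Subtype.ext ?_
      rw [Module.End.mul_apply, Module.End.mul_apply, hfv, hfv, hfv, hfv, hswap b a x x.2, (hB0mem a).1 a.2 b b.2,
        Units.val_one, one_smul])
    (Nat.card P) S.card_ne
    (fun b => by
      refine LinearMap.ext fun x => Subtype.ext ?_
      have h1 : ∀ k : ℕ, (((f b ^ k) x : U) : V) = (ρ (b : P) ^ k) (x : V) := by
        intro k
        induction k with
        | zero => rfl
        | succ k ih => rw [pow_succ', pow_succ', Module.End.mul_apply, Module.End.mul_apply, hfv, ih]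
      rw [h1, rho_pow]
      rfl)
  have hu' : ∀ b : B0, ρ (b : P) (u : V) = ψ b • (u : V) := fun b => by
    have h1 := congrArg Subtype.val (hu b)
    exact h1
  have hu0' : (u : V) ≠ 0 := fun h => hu0 (Subtype.ext h)
  have hψ : ∀ b, ψ b ≠ 0 := fun b => eig_ne_zero ρ hu0' (hu' b)
  have hinjρ : ∀ (a : P) (v : V), v ≠ 0 → ρ a v ≠ 0 := by
    intro a v hv h
    apply hv
    have h1 : ρ a⁻¹ (ρ a v) = v := by
      rw [← Module.End.mul_apply, ← map_mul, inv_mul_cancel, map_one, Module.End.one_apply]
    rw [← h1, h, map_zero]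
  have hQfin : Finite (P ⧸ B0) := inferInstance
  have hind := indep_joint (K := K) (fun b : B0 => ρ (b : P)) (fun c : P ⧸ B0 => ρ (c.out) (u : V))
    (fun c b => (χ (com hc2 (b : P) c.out) : K) * ψ b) (fun c => hinjρ _ _ hu0')
    (fun b c => by rw [hswap _ _ _ u.2, hu' b, map_smul, smul_smul])
    (fun c c' h => by
      have h1 : ∀ b : B0, χ (com hc2 (b : P) c.out) = χ (com hc2 (b : P) c'.out) := by
        intro b
        have h2 := congrFun h b
        simp only at h2
        exact Units.ext (mul_right_cancel₀ (hψ b) h2)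
      have h2 : c.out⁻¹ * c'.out ∈ B0 := by
        rw [hB0mem]
        intro b hb
        have h3 := beta0_swap hc2 χ (c.out⁻¹ * c'.out) b
        rw [map_mul (beta0 hc2 χ b), map_inv, beta0_apply, beta0_apply, beta0_apply, h1 ⟨b, hb⟩, inv_mul_cancel,
          mul_one] at h3
        exact h3
      rw [← QuotientGroup.out_eq' c, ← QuotientGroup.out_eq' c']
      exact QuotientGroup.eq.2 h2)
  have := Fintype.ofFinite (P ⧸ B0)
  have hsle : s ≤ finrank K V := by
    rw [← hB0i, Subgroup.index, Nat.card_eq_fintype_card]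
    exact hind.fintype_card_le_finrank
  -- arithmetic
  have hs1 : 1 < s := by
    by_contra h
    have h1 : s ≤ 1 := by omega
    have h2 : Nat.card (P ⧸ Z0) ≤ 1 := by rw [hMcard]; nlinarith
    have h3 : Z0.index = 1 := by
      have h4 : Z0.index ≠ 0 := Z0.index_ne_zero_of_finite
      rw [Subgroup.index] at h4 ⊢
      omega
    exact hZ0t (Subgroup.index_eq_one.1 h3)
  have hsodd : Odd s := by
    have h1 : s ∣ Nat.card P := hB0i ▸ B0.index_dvd_card
    exact Odd.of_dvd_nat S.odd_card h1
  obtain ⟨t, ht⟩ := hsodd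
  have hdvd : l ∣ (s - 1) * (s + 1) := by
    have h1 : l ∣ s * s - 1 := (Nat.modEq_iff_dvd' (by nlinarith)).1 hmod.symm
    have h2 : (s - 1) * (s + 1) = s * s - 1 := by
      obtain ⟨r, hr⟩ : ∃ r, s = r + 1 := ⟨s - 1, by omega⟩
      rw [hr]
      simp only [Nat.add_sub_cancel]
      rw [Nat.mul_add, Nat.mul_one]
      have : (r + 1) * (r + 1) = r * (r + 1) + r + 1 := by ring
      omega
    rwa [h2]
  rcases hs with hs | ⟨hl2, hs, B, hB, hinv⟩
  · rcases (Nat.Prime.dvd_mul S.hl).1 hdvd with h | h
    · have := Nat.le_of_dvd (by omega) h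
      omega
    · have h1 := Nat.le_of_dvd (by omega) h
      have h2 : l = s + 1 := by omega
      have h3 : 2 ∣ l := ⟨t + 1, by omega⟩
      have h4 : 2 = l := (Nat.prime_dvd_prime_iff_eq Nat.prime_two S.hl).1 h3
      omega
  · have hlodd : ¬ 2 ∣ l := fun h => hl2 ((Nat.prime_dvd_prime_iff_eq Nat.prime_two S.hl).1 h).symm
    have hcop : Nat.Coprime 2 l := (Nat.Prime.coprime_iff_not_dvd Nat.prime_two).2 hlodd
    rcases (Nat.Prime.dvd_mul S.hl).1 hdvd with h | h
    · have h1 : 2 * l ∣ s - 1 := hcop.mul_dvd_of_dvd_of_dvd ⟨t, by omega⟩ h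
      have h2 := Nat.le_of_dvd (by omega) h1
      omega
    · have h1 : 2 * l ∣ s + 1 := hcop.mul_dvd_of_dvd_of_dvd ⟨t + 1, by omega⟩ h
      have h2 := Nat.le_of_dvd (by omega) h1
      have h3 : s = finrank K V := by omega
      have h4 : Fintype.card (P ⧸ B0) = finrank K V := by
        rw [← h3, ← hB0i, Subgroup.index, Nat.card_eq_fintype_card]
      have h5 := hind.span_eq_top_of_card_eq_finrank' h4
      have h6 : U = ⊤ := by
        rw [eq_top_iff, ← h5, Submodule.span_le]
        rintro _ ⟨c, rfl⟩
        exact hU _ _ u.2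
      apply hχw
      have h7 : ∀ v : V, ρ w v = (χ w : K) • v := fun v => by
        have h8 : v ∈ U := by rw [h6]; exact Submodule.mem_top
        exact h8 w
      obtain ⟨v1, hv1⟩ : ∃ v1, B v0 v1 ≠ 0 := by
        by_contra hcon
        push Not at hcon
        exact hv00 (hB v0 hcon)
      have h9 := hinv w v0 v1
      rw [h7, h7, map_smul, map_smul, LinearMap.smul_apply, smul_smul, smul_eq_mul] at h9
      have h10 : (χ w : K) * (χ w : K) = 1 := by
        have h11 : ((χ w : K) * (χ w : K)) * B v0 v1 = 1 * B v0 v1 := by rw [h9, one_mul]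
        exact mul_right_cancel₀ hv1 h11
      exact Units.ext (eq_one_of_sq S (eig_card ρ hv00 (hv0' w)) h10)

/-- **The linear lemma** over an algebraically closed field. -/
theorem trivial_of_small (S : Sit p l α ρ X) (hs : Small l ρ) : ∀ y, α y = y := by
  obtain ⟨n, hn⟩ : ∃ n, Nat.card P = n := ⟨_, rfl⟩
  induction n using Nat.strong_induction_on generalizing P with
  | _ n ih =>
    have hT : Triv α := by
      intro R hR hRα r hr
      have hlt : Nat.card R < n := by
        rw [← hn]
        refine lt_of_le_of_ne (Nat.le_of_dvd Nat.card_pos R.card_subgroup_dvd_card) fun h => hR ?_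
        exact (Subgroup.card_eq_iff_eq_top R).1 h
      let αR : R →* R := (α.comp R.subtype).codRestrict R (fun r => hRα r r.2)
      have hαR : ∀ (k : ℕ) (r : R), ((αR^[k] r : R) : P) = α^[k] (r : P) := by
        intro k r
        induction k with
        | zero => rfl
        | succ k ih => rw [Function.iterate_succ_apply', Function.iterate_succ_apply', ← ih]; rfl
      have SR : Sit p l αR (ρ.comp R.subtype) X :=
        { hP := S.hP.to_subgroup R
          hp := S.hp
          hp2 := S.hp2
          hl := S.hl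
          hlp := S.hlp
          hpK := S.hpK
          hα := fun r => Subtype.ext (by rw [hαR, S.hα])
          hρ := fun a b h => Subtype.ext (S.hρ h)
          hXi := S.hXi
          hX := fun y v => S.hX y v }
      have hsR : Small l (ρ.comp R.subtype) := by
        rcases hs with hs | ⟨h1, h2, B, hB, hinv⟩
        · exact Or.inl hs
        · exact Or.inr ⟨h1, h2, B, hB, fun y v w => hinv y v w⟩
      exact congrArg Subtype.val (ih (Nat.card R) hlt SR hsR rfl ⟨r, hr⟩)
    by_cases hcomm : ∀ a b : P, a * b = b * a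
    · exact comm_case S hs hcomm
    · by_contra hne
      push Not at hcomm hne
      obtain ⟨a0, b0, hab⟩ := hcomm
      exact noncomm_case S hs hT hne hab

end Cfsg.Agent.H568.LinE
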