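import Mathlib

/-!
# Linear maps of prime order over a finite field (helper568)

`X ^ l = 1`, `l` prime not dividing `q = |F|`, `e` the order of `q` modulo `l` (`he : ∀ m, l ∣ q ^ m - 1 ↔ e ∣ m`):
* `dvd_finrank_sub` : `e` divides `dim V - dim ker (X - 1)` (orbit counting);
* `irred_of_finrank_eq` : `X ≠ 1`, `dim V = e`: no proper invariant subspaces;
* `finrank_ker_add` : `X ≠ 1`, `dim V < 2 e`: `dim ker (X - 1) + e = dim V`;
* `exists_eigen` : a map commuting with `X` has an eigenvector in `ker (X - 1)` if this is a line;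
* `scalar_of_irred` : a map with an eigenvector commuting with an irreducible `X` is a scalar;
* `not_dvd_of_lt` : elements of order `l` need dimension at least `e`.
-/

set_option autoImplicit false
set_option linter.unusedSectionVars false

namespace Cfsg.Agent.H568

open Module

section

variable {F V : Type*} [Field F] [Finite F] [AddCommGroup V] [Module F V] [FiniteDimensional F V]

theorem card_modEq_ker {l : ℕ} (hl : l.Prime) (X : End F V) (hX : X ^ l = 1) :
    Nat.card V ≡ Nat.card ↥(LinearMap.ker (X - 1)) [MOD l] := by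
  classical
  have : Fact l.Prime := ⟨hl⟩
  have hV : Finite V := Module.finite_of_finite F
  have : Fintype V := Fintype.ofFinite V
  let f : Function.End V := fun v => X v
  have hf : ∀ k : ℕ, (f ^ k : Function.End V) = fun v => (X ^ k) v := by
    intro k
    induction k with
    | zero => rfl
    | succ k ih =>
      rw [pow_succ, ih, pow_succ]
      rfl
  have hf1 : f ^ l ^ 1 = 1 := by
    rw [pow_one, hf, hX]
    rfl
  have h1 := Equiv.Perm.card_fixedPoints_modEq (f := f) (p := l) (n := 1) hf1
  rw [← Nat.card_eq_fintype_card, ← Nat.card_eq_fintype_card] at h1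
  have h2 : Nat.card ↥(Function.fixedPoints f) = Nat.card ↥(LinearMap.ker (X - 1)) := by
    apply Nat.card_congr
    refine Equiv.subtypeEquivRight fun v => ?_
    rw [LinearMap.mem_ker, LinearMap.sub_apply, Module.End.one_apply, sub_eq_zero]
    rfl
  rw [← h2]
  exact h1

theorem dvd_pow_sub_one_of {l : ℕ} (hl : l.Prime) (hlq : ¬ l ∣ Nat.card F) (X : End F V) (hX : X ^ l = 1) :
    l ∣ Nat.card F ^ (finrank F V - finrank F ↥(LinearMap.ker (X - 1))) - 1 := by
  have h1 := card_modEq_ker hl X hX
  rw [Module.natCard_eq_pow_finrank (K := F), Module.natCard_eq_pow_finrank (K := F) (V := ↥(LinearMap.ker (X - 1)))] at h1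
  set c := finrank F ↥(LinearMap.ker (X - 1)) with hc
  have hle : c ≤ finrank F V := Submodule.finrank_le _
  have h2 : Nat.card F ^ finrank F V = Nat.card F ^ c * Nat.card F ^ (finrank F V - c) := by
    rw [← pow_add, Nat.add_sub_cancel' hle]
  rw [h2] at h1
  have hco : Nat.Coprime l (Nat.card F ^ c) := ((Nat.Prime.coprime_iff_not_dvd hl).2 hlq).pow_right c
  have h3 : Nat.card F ^ c * Nat.card F ^ (finrank F V - c) ≡ Nat.card F ^ c * 1 [MOD l] := by
    rwa [mul_one]
  have h4 := Nat.ModEq.cancel_left_of_coprime hco h3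
  have h5 : 1 ≤ Nat.card F ^ (finrank F V - c) := Nat.one_le_pow _ _ Nat.card_pos
  exact (Nat.modEq_iff_dvd' h5).1 h4.symm

/-- `e` divides `dim V - dim ker (X - 1)`. -/
theorem dvd_finrank_sub {l e : ℕ} (hl : l.Prime) (hlq : ¬ l ∣ Nat.card F)
    (he : ∀ m, l ∣ Nat.card F ^ m - 1 → e ∣ m) (X : End F V) (hX : X ^ l = 1) :
    e ∣ finrank F V - finrank F ↥(LinearMap.ker (X - 1)) :=
  he _ (dvd_pow_sub_one_of hl hlq X hX)

theorem finrank_ker_lt {X : End F V} (hX1 : X ≠ 1) : finrank F ↥(LinearMap.ker (X - 1)) < finrank F V := by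
  apply Submodule.finrank_lt
  intro h
  apply hX1
  rw [LinearMap.ker_eq_top] at h
  exact sub_eq_zero.1 h

/-- An element of order `l` needs dimension at least `e`. -/
theorem le_finrank {l e : ℕ} (hl : l.Prime) (hlq : ¬ l ∣ Nat.card F)
    (he : ∀ m, l ∣ Nat.card F ^ m - 1 → e ∣ m) (X : End F V) (hX : X ^ l = 1) (hX1 : X ≠ 1) :
    e ≤ finrank F V := by
  have h1 := dvd_finrank_sub hl hlq he X hX
  have h2 := finrank_ker_lt hX1
  exact (Nat.le_of_dvd (by omega) h1).trans (Nat.sub_le _ _)

/-- `dim V < 2 e`: the fixed space has dimension `dim V - e`. -/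
theorem finrank_ker_add {l e : ℕ} (hl : l.Prime) (hlq : ¬ l ∣ Nat.card F)
    (he : ∀ m, l ∣ Nat.card F ^ m - 1 → e ∣ m) (X : End F V) (hX : X ^ l = 1) (hX1 : X ≠ 1)
    (hV : finrank F V < 2 * e) : finrank F ↥(LinearMap.ker (X - 1)) + e = finrank F V := by
  obtain ⟨k, hk⟩ := dvd_finrank_sub hl hlq he X hX
  have h2 := finrank_ker_lt hX1
  have hk0 : k ≠ 0 := by
    rintro rfl
    omega
  have hk2 : k < 2 := by
    by_contra hcon
    have : e * 2 ≤ e * k := Nat.mul_le_mul_left _ (by omega)
    omega
  have hk1 : k = 1 := by omega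
  subst hk1
  omega

theorem pow_restrict {X : End F V} {W : Submodule F V} (hW : ∀ w ∈ W, X w ∈ W) (k : ℕ) (w : W) :
    (((X.restrict hW) ^ k) w : V) = (X ^ k) w := by
  induction k with
  | zero => rfl
  | succ k ih =>
    rw [pow_succ', pow_succ', Module.End.mul_apply, Module.End.mul_apply, ← ih]
    rfl

/-- `X` of order `l` acts irreducibly if `dim V = e`. -/
theorem irred_of_finrank_eq {l e : ℕ} (hl : l.Prime) (hlq : ¬ l ∣ Nat.card F)
    (he : ∀ m, l ∣ Nat.card F ^ m - 1 → e ∣ m) (X : End F V) (hX : X ^ l = 1) (hX1 : X ≠ 1)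
    (hV : finrank F V = e) (W : Submodule F V) (hW : ∀ w ∈ W, X w ∈ W) : W = ⊥ ∨ W = ⊤ := by
  have he0 : 0 < e := by
    have := finrank_ker_lt hX1
    omega
  have h1 := finrank_ker_add hl hlq he X hX hX1 (by omega)
  have h2 : LinearMap.ker (X - 1) = ⊥ := by
    rw [← Submodule.finrank_eq_zero (R := F)]
    omega
  have h3 : (X.restrict hW) ^ l = 1 := by
    ext w
    rw [pow_restrict, hX]
    rfl
  have h4 := dvd_finrank_sub hl hlq he (X.restrict hW) h3
  have h5 : LinearMap.ker (X.restrict hW - 1) = ⊥ := by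
    rw [eq_bot_iff]
    intro w hw
    rw [LinearMap.mem_ker, LinearMap.sub_apply, Module.End.one_apply, sub_eq_zero] at hw
    have h6 : (w : V) ∈ LinearMap.ker (X - 1) := by
      rw [LinearMap.mem_ker, LinearMap.sub_apply, Module.End.one_apply, sub_eq_zero]
      exact congrArg Subtype.val hw
    rw [h2, Submodule.mem_bot] at h6
    rw [Submodule.mem_bot]
    exact Subtype.ext h6
  rw [h5, finrank_bot, Nat.sub_zero] at h4
  rcases Nat.eq_zero_or_pos (finrank F W) with h7 | h7
  · left
    exact Submodule.finrank_eq_zero.1 h7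
  · right
    have h8 := Nat.le_of_dvd h7 h4
    apply Submodule.eq_top_of_finrank_eq
    have := Submodule.finrank_le W
    omega

omit [Finite F] in
/-- A map commuting with `X` has an eigenvector if `ker (X - 1)` is a line. -/
theorem exists_eigen {X A : End F V} (hAX : A * X = X * A) (hker : finrank F ↥(LinearMap.ker (X - 1)) = 1) :
    ∃ (c : F) (v : V), v ≠ 0 ∧ X v = v ∧ A v = c • v := by
  obtain ⟨v, hv0, hv⟩ := finrank_eq_one_iff'.1 hker
  have hXv : X (v : V) = v := by
    have := v.2
    rwa [LinearMap.mem_ker, LinearMap.sub_apply, Module.End.one_apply, sub_eq_zero] at this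
  have h1 : A v ∈ LinearMap.ker (X - 1) := by
    rw [LinearMap.mem_ker, LinearMap.sub_apply, Module.End.one_apply, sub_eq_zero, ← Module.End.mul_apply, ← hAX,
      Module.End.mul_apply, hXv]
  obtain ⟨c, hc⟩ := hv ⟨A v, h1⟩
  refine ⟨c, v, ?_, hXv, ?_⟩
  · intro h
    exact hv0 (Subtype.ext h)
  · exact (congrArg Subtype.val hc).symm

omit [Finite F] [FiniteDimensional F V] in
/-- A map with an eigenvector, commuting with an irreducible `X`, is a scalar. -/
theorem scalar_of_irred {X A : End F V} (hAX : A * X = X * A)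
    (hirr : ∀ W : Submodule F V, (∀ w ∈ W, X w ∈ W) → W = ⊥ ∨ W = ⊤) {c : F} {v : V} (hv : v ≠ 0)
    (hAv : A v = c • v) (w : V) : A w = c • w := by
  have h1 : Module.End.eigenspace A c = ⊤ := by
    rcases hirr (Module.End.eigenspace A c) (fun w hw => by
      rw [Module.End.mem_eigenspace_iff] at hw ⊢
      rw [← Module.End.mul_apply, hAX, Module.End.mul_apply, hw, map_smul]) with h | h
    · exfalso
      apply hv
      have h2 : v ∈ Module.End.eigenspace A c := Module.End.mem_eigenspace_iff.2 hAv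
      rwa [h, Submodule.mem_bot] at h2
    · exact h
  have h2 : w ∈ Module.End.eigenspace A c := h1 ▸ Submodule.mem_top
  exact Module.End.mem_eigenspace_iff.1 h2

end

end Cfsg.Agent.H568
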