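import Cfsg.Agent.H568.OwnChar
import Cfsg.Agent.H568.FieldFix
import Cfsg.Agent.KFacts.TwESix.Dat
import Cfsg.Agent.KFacts.RgdFiltTwAll

/-!
# Elements of `²E₆(q)` normalising no `r`-subgroup (helper568)

`noNorm_twE6` : `x ∈ ²E₆(q)` of prime order `l`, commuting with no element of order `r`, the order of `q` modulo `l`
divisible by `18` (or by some `h` not dividing `21, 29, 31, 24`): `x` normalises no nontrivial `r`-subgroup.
-/

set_option autoImplicit false
set_option linter.unusedSectionVars false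

namespace Cfsg.Agent.H568.OwnCharTw

open CoxeterSystem Cfsg.Agent.ChevalleyStructure.CoxeterGeom Cfsg.Agent.Tits.Roots Cfsg.Agent.Tits.Core
  Cfsg.Agent.Tits.RootComb Cfsg.Agent.Tits.Exchange Cfsg.Agent.Nodes.Reps Cfsg.Agent.Nodes.BNOf
  Cfsg.Agent.Nodes.Coroot Cfsg.Agent.KFacts.RgdSL Cfsg.Agent.KFacts.RgdTI
  Cfsg.Agent.Nodes.RGDTwE6 Cfsg.Agent.KFacts.TwESix.Comb Cfsg.Agent.KFacts.TwESix.CombRho
  Cfsg.Agent.KFacts.TwESix.Facts Cfsg.Agent.KFacts.RgdField
  Cfsg.Agent.Nodes.RGDTwGen Cfsg.Agent.Nodes.RGDFold Cfsg.Agent.Nodes.RGDFoldSL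
open Cfsg.Agent.Nodes.RGDTwNode.E6 Cfsg.Agent.KFacts.TwESix
open Cfsg.Lie Cfsg.Agent.KFacts.RgdFilt Cfsg.Agent.Nodes.Slope

universe u

variable {K : Type u} [Field K] [Fintype K] {q : ℕ} {φ : K →+* K}
variable {W : Type*} [Group W] (cs : CoxeterSystem CoxeterMatrix.F₄ W)

theorem card_rep' [Finite W] {Y : Type*} [Group Y] {T : Subgroup Y} {n : Fin 4 → Y} {X : (Fin 4 → ℤ) → Subgroup Y}
    {p : ℕ} (R : RGD cs isCartan p T n X) (w : W) {x : Fin 4 → ℤ} (hx : IsRoot cs isCartan x) :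
    Nat.card (X (rep cs isCartan w x)) = Nat.card (X x) := by
  obtain ⟨k, hk⟩ := exists_rp cs R.nsys w
  rw [← R.conj_rp hk hx]
  exact Nat.card_congr ((X x).equivMapOfInjective (MulAut.conj k).toMonoidHom (MulAut.conj k).injective).symm.toEquiv

theorem card_F1 (hφ : ∀ x, φ x = x ^ q) (hqq : ∀ t : K, (t ^ q) ^ q = t) (hK : Fintype.card K = q ^ 2)
    (hq1 : 1 < q) : Nat.card ↥(Fx φ 1) = q := by
  have hinv : ∀ x, φ (φ x) = x := fun x => by rw [hφ, hφ, hqq]
  let τ : K ≃+* K := { φ with invFun := φ, left_inv := hinv, right_inv := hinv }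
  have h1 : τ ^ 2 = 1 := by
    ext x
    rw [pow_two, RingAut.mul_apply]
    exact hinv x
  have h2 : τ ≠ 1 := by
    intro h
    apply OutTwo.F1_ne_top hφ hK hq1
    rw [eq_top_iff]
    intro x _
    have h3 : τ x = x := by rw [h]; rfl
    exact h3
  have h3 := FieldFix.card_fx Nat.prime_two h1 h2
  have h4 : FieldFix.fx τ = Fx φ 1 := by
    ext x
    exact Iff.rfl
  rw [h4, Nat.card_eq_fintype_card, hK] at h3
  exact (Nat.pow_left_injective two_ne_zero h3).symm

theorem card_X (hφ : ∀ x, φ x = x ^ q) (hqq : ∀ t : K, (t ^ q) ^ q = t) (hK : Fintype.card K = q ^ 2)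
    (hq1 : 1 < q) (r : ℕ) [Fact r.Prime] [CharP K r] {x : Fin 4 → ℤ} (hx : IsRoot cs isCartan x) :
    Nat.card ↥(X φ q x) = q ^ (if bf x x = 4 then 1 else 2) := by
  have : Finite W := finiteW cs
  have h0 : bf x x = 4 ∨ bf x x = 2 := by
    have h1 := (mem_rts cs).1 hx
    exact (by decide +kernel : ∀ x ∈ rts, bf x x = 4 ∨ bf x x = 2) x h1
  rcases h0 with h0 | h0
  · obtain ⟨w, rfl⟩ := exists_rep_long cs hx h0
    rw [if_pos h0, card_rep' cs (rgd cs hφ hqq r) w (isRoot_sr cs isCartan 0),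
      OutTwo.card_of_coord (Out.coordE hφ hqq 0), pow_one]
    exact card_F1 hφ hqq hK hq1
  · obtain ⟨w, rfl⟩ := exists_rep_short cs hx h0
    rw [if_neg (by rw [h0]; decide), card_rep' cs (rgd cs hφ hqq r) w (isRoot_sr cs isCartan 3),
      OutTwo.card_of_coord (Out.coordE hφ hqq 3)]
    have h1 : (Fx φ 2 : Subfield K) = ⊤ := Out.F2_eq_top hφ hqq
    show Nat.card ↥(Fx φ 2) = _
    rw [h1, ← hK, ← Nat.card_eq_fintype_card]
    exact Nat.card_congr Subfield.topEquiv.toEquiv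

/-- The exponent of the order of the level `1` at the node `j`. -/
def numTw (j : Fin 4) : ℕ := ((rts.filter fun x => decide (1 ≤ x j)).map fun x => if bf x x = 4 then 1 else 2).sum

theorem nodup_rts : rts.Nodup := by decide +kernel

theorem card_Lev (hφ : ∀ x, φ x = x ^ q) (hqq : ∀ t : K, (t ^ q) ^ q = t) (hK : Fintype.card K = q ^ 2)
    (hq1 : 1 < q) (r : ℕ) [Fact r.Prime] [CharP K r] (j : Fin 4) :
    Nat.card ↥(RGD.Sup (X φ q) (Lev cs isCartan j 1)) = q ^ numTw j := by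
  classical
  have : Finite W := finiteW cs
  have := Fintype.ofFinite W
  set s : Finset (Fin 4 → ℤ) := (rts.filter fun x => decide (1 ≤ x j)).toFinset with hs
  have h1 : (s : Set (Fin 4 → ℤ)) = Lev cs isCartan j 1 := by
    ext x
    rw [hs]
    simp only [List.coe_toFinset, Set.mem_ofPred_eq, List.mem_filter, decide_eq_true_eq]
    show _ ↔ IsRoot cs isCartan x ∧ 1 ≤ x j
    rw [mem_rts cs]
  have h2 := Cfsg.Agent.Cit.DCard.card_Sup (rgd cs hφ hqq r)
    ({ toFun := fun x => x j, map_zero' := rfl, map_add' := fun _ _ => rfl } : (Fin 4 → ℤ) →+ ℤ) _ s rfl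
    (by rw [h1]; exact Lev_closed (levOk_one j)) (fun x hx => by
      have h3 : x ∈ (s : Set (Fin 4 → ℤ)) := hx
      rw [h1] at h3
      exact lt_of_lt_of_le one_pos h3.2)
  rw [h1] at h2
  rw [h2, hs, List.prod_toFinset _ (List.Nodup.filter _ nodup_rts)]
  have h3 : ∀ L : List (Fin 4 → ℤ), (∀ x ∈ L, x ∈ rts) →
      (L.map fun x => Nat.card ↥(X φ q x)).prod = q ^ (L.map fun x => if bf x x = 4 then 1 else 2).sum := by
    intro L
    induction L with
    | nil => intro _; simp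
    | cons a L ih =>
      intro hL
      rw [List.map_cons, List.prod_cons, ih fun x hx => hL x (List.mem_cons_of_mem _ hx), List.map_cons, List.sum_cons,
        pow_add, card_X cs hφ hqq hK hq1 r ((mem_rts cs).2 (hL a List.mem_cons_self))]
  exact h3 _ fun x hx => (List.mem_filter.1 hx).1

/-- **Elements of `²E₆(q)` normalising no `r`-subgroup.** -/
theorem noNorm_twE6 (hq : IsPrimePow q) (hK : Fintype.card K = q ^ 2) (r : ℕ) [Fact r.Prime] [CharP K r] {l : ℕ}
    (hl : l.Prime) {x : ↥(twistedE6 K q)} (hx : orderOf x = l)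
    (hcen : ∀ y : ↥(twistedE6 K q), orderOf y = r → x * y ≠ y * x) {h : ℕ} (hh : h = 18 ∨ ∀ j : Fin 4, ¬ h ∣ numTw j)
    (hord : ∀ k, l ∣ q ^ k - 1 → h ∣ k) : NoNorm r x := by
  classical
  obtain ⟨φ, hφ, hqq⟩ := Cfsg.Agent.ChevalleyStructure.TwE6Basic.exists_frob hq hK
  have cs := CoxeterMatrix.F₄.toCoxeterSystem
  have hW : Finite CoxeterMatrix.F₄.Group := finiteW cs
  have hF := Cfsg.Agent.KFacts.RgdFiltTwAll.filt_fold cs isCartan foldData
    (foldGrp hφ hqq) r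
  refine noNorm_rgd (rgd cs hφ hqq r)
    (fun K hK hK1 => borel_tits_of_filt hF (G1_eq_top cs hφ hqq) hK hK1) hl hx hcen ?_
  intro j
  refine ⟨1, levOk_one j, ?_⟩
  rw [card_Lev cs hφ hqq hK hq.one_lt r j]
  intro h1
  have h2 := hord _ h1
  rcases hh with rfl | hh
  · exact (by decide +kernel : ∀ j : Fin 4, ¬ 18 ∣ numTw j) j h2
  · exact hh j h2

end Cfsg.Agent.H568.OwnCharTw
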