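import Mathlib
import Cfsg.Agent.H568.PGrp

/-!
Existence of the maximal invariant abelian subgroup and summary of the analysis.
-/

set_option autoImplicit false

namespace Cfsg.Agent.H568.PGrp

open Subgroup Cfsg.Agent.Transfer.PGroupNormal

variable {X : Type*} [Group X] [Finite X] {p : ℕ} [hpf : Fact p.Prime] {H N : Subgroup X}

theorem exists_setup (hNH : N ≤ H) (hHN : ∀ h ∈ H, ∀ n ∈ N, h * n * h⁻¹ ∈ N)
    (hN : IsPGroup p N) (hN0 : N ≠ ⊥)
    (hnoE : ∀ E : Subgroup X, E ≤ N → (∀ h ∈ H, ∀ e ∈ E, h * e * h⁻¹ ∈ E) →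
      (∀ a ∈ E, ∀ b ∈ E, a * b = b * a) → (∀ e ∈ E, e ^ p = 1) → ∃ x ∈ E, E ≤ zpowers x) :
    ∃ (z c : X) (Y : Subgroup X), Setup p H N z c Y := by
  have hp := hpf.out
  -- the centre of `N`
  let Zc : Subgroup X :=
    { carrier := {x | x ∈ N ∧ ∀ g ∈ N, g * x = x * g}
      one_mem' := ⟨N.one_mem, fun g _ => by rw [mul_one, one_mul]⟩
      mul_mem' := by
        rintro x y ⟨hx1, hx2⟩ ⟨hy1, hy2⟩
        refine ⟨N.mul_mem hx1 hy1, fun g hg => ?_⟩
        rw [← mul_assoc, hx2 g hg, mul_assoc, hy2 g hg, mul_assoc]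
      inv_mem' := by
        rintro x ⟨hx1, hx2⟩
        exact ⟨N.inv_mem hx1, fun g hg => (show Commute g x from hx2 g hg).inv_right⟩ }
  have hHZ : ∀ h ∈ H, ∀ x ∈ Zc, h * x * h⁻¹ ∈ Zc := by
    rintro h hh x ⟨hx1, hx2⟩
    refine ⟨hHN h hh x hx1, fun g hg => ?_⟩
    have h1 : h⁻¹ * g * h ∈ N := by
      have := hHN h⁻¹ (H.inv_mem hh) g hg
      rwa [inv_inv] at this
    have h2 := hx2 _ h1
    calc g * (h * x * h⁻¹) = h * ((h⁻¹ * g * h) * x) * h⁻¹ := by group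
      _ = h * x * h⁻¹ * g := by rw [h2]; group
  obtain ⟨Y, hZY, hYmax⟩ := (Set.toFinite {Y : Subgroup X | Y ≤ N ∧
    (∀ h ∈ H, ∀ y ∈ Y, h * y * h⁻¹ ∈ Y) ∧ (∀ x ∈ Y, ∀ y ∈ Y, x * y = y * x) ∧
    Zc ≤ Y}).exists_maximal
    ⟨Zc, fun x hx => hx.1, hHZ, fun x hx y hy => hy.2 x hx.1, le_rfl⟩
  obtain ⟨hYN, hHY, hYc, hZY⟩ := hZY
  let Om : Subgroup X :=
    { carrier := {x | x ∈ Y ∧ x ^ p = 1}
      one_mem' := ⟨Y.one_mem, one_pow _⟩
      mul_mem' := by
        rintro x y ⟨hx1, hx2⟩ ⟨hy1, hy2⟩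
        refine ⟨Y.mul_mem hx1 hy1, ?_⟩
        rw [(show Commute x y from hYc x hx1 y hy1).mul_pow, hx2, hy2, one_mul]
      inv_mem' := by
        rintro x ⟨hx1, hx2⟩
        exact ⟨Y.inv_mem hx1, by rw [inv_pow, hx2, inv_one]⟩ }
  obtain ⟨w, hwOm, hOm⟩ := hnoE Om (fun x hx => hYN hx.1)
    (by
      rintro h hh x ⟨hx1, hx2⟩
      exact ⟨hHY h hh x hx1, by rw [conj_pow, hx2]; group⟩)
    (fun x hx y hy => hYc x hx.1 y hy.1) (fun x hx => hx.2)
  -- a central element of order `p`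
  have hnt : (⊤ : Subgroup N) ≠ ⊥ := by
    intro h
    apply hN0
    rw [eq_bot_iff]
    intro x hx
    have : (⟨x, hx⟩ : N) ∈ (⊤ : Subgroup N) := trivial
    rw [h, mem_bot] at this
    rw [mem_bot]
    exact congrArg Subtype.val this
  obtain ⟨z', -, hz'c, hz'⟩ := exists_mem_inf_center_orderOf hN ⊤ hnt
  set z : X := (z' : X) with hz
  have hzN : ∀ g ∈ N, g * z = z * g := by
    intro g hg
    have := Subgroup.mem_center_iff.mp hz'c ⟨g, hg⟩
    exact congrArg Subtype.val this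
  have hzp : z ^ p = 1 := by
    have : z' ^ p = 1 := by rw [← hz', pow_orderOf_eq_one]
    exact congrArg Subtype.val this
  have hz1 : z ≠ 1 := by
    intro h
    have : z' = 1 := Subtype.ext h
    rw [this, orderOf_one] at hz'
    exact hp.one_lt.ne hz'
  have hzY : z ∈ Y := hZY ⟨z'.2, hzN⟩
  have hom : ∀ y ∈ Y, y ^ p = 1 → y ∈ zpowers z := by
    intro y hy hyp
    have h1 : y ∈ zpowers w := hOm ⟨hy, hyp⟩
    have h2 : z ∈ zpowers w := hOm ⟨hzY, hzp⟩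
    have h3 := mem_zpowers_swap hp hwOm.2 h2 hz1
    exact (zpowers_le.mpr h3) h1
  -- `Y` is cyclic
  have hYcyc : ∃ c ∈ Y, Y ≤ zpowers c := by
    let _ : CommGroup Y := { (inferInstance : Group Y) with
      mul_comm := fun x y => Subtype.ext (hYc x x.2 y y.2) }
    have hcyc : IsCyclic Y := by
      refine isCyclic_of_card_ker_pow_le (p := p) (hN.to_le hYN) ?_
      have h1 : Nat.card (zpowers z) = p := by
        rw [Nat.card_zpowers, orderOf_eq_prime hzp hz1]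
      refine le_of_le_of_eq ?_ h1
      refine Nat.card_le_card_of_injective
        (fun x : (powMonoidHom p : Y →* Y).ker => (⟨((x : Y) : X), hom _ (x : Y).2 (by
          have := x.2
          rw [MonoidHom.mem_ker, powMonoidHom_apply] at this
          exact congrArg Subtype.val this)⟩ : zpowers z)) ?_
      intro x y hxy
      have h2 : (((x : Y) : X)) = ((y : Y) : X) := congrArg (fun t : zpowers z => (t : X)) hxy
      exact Subtype.ext (Subtype.ext h2)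
    obtain ⟨c, hc⟩ := hcyc
    refine ⟨c, c.2, fun y hy => ?_⟩
    obtain ⟨i, hi⟩ := hc ⟨y, hy⟩
    exact ⟨i, congrArg Subtype.val hi⟩
  obtain ⟨c, hcY, hgen⟩ := hYcyc
  exact ⟨z, c, Y,
    { NH := hNH
      HN := hHN
      pg := hN
      YN := hYN
      HY := hHY
      Yc := hYc
      cen := fun x hx hxc => hZY ⟨hx, hxc⟩
      max := fun T hTN hHT hTc hYT => hYmax ⟨hTN, hHT, hTc, hZY.trans hYT⟩ hYT
      zN := hzN
      zY := hzY
      z1 := hz1
      zp := hzp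
      om := hom
      cY := hcY
      gen := hgen }⟩

theorem analysis (hp2 : p ≠ 2) (hNH : N ≤ H) (hHN : ∀ h ∈ H, ∀ n ∈ N, h * n * h⁻¹ ∈ N)
    (hN : IsPGroup p N) (hN0 : N ≠ ⊥)
    (hnoE : ∀ E : Subgroup X, E ≤ N → (∀ h ∈ H, ∀ e ∈ E, h * e * h⁻¹ ∈ E) →
      (∀ a ∈ E, ∀ b ∈ E, a * b = b * a) → (∀ e ∈ E, e ^ p = 1) → ∃ x ∈ E, E ≤ zpowers x) :
    ∃ z ∈ N, z ≠ 1 ∧ z ^ p = 1 ∧ (∀ g ∈ N, g * z = z * g) ∧ (∀ h ∈ H, h * z * h⁻¹ ∈ zpowers z) ∧
      ((∀ x ∈ N, x ≠ 1 → z ∈ zpowers x) ∨ ∃ D, Good p H N z D) := by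
  have hp := hpf.out
  obtain ⟨z, c, Y, S⟩ := exists_setup hNH hHN hN hN0 hnoE
  refine ⟨z, S.YN S.zY, S.z1, S.zp, S.zN, fun h hh => ?_, ?_⟩
  · refine S.om _ (S.HY h hh z S.zY) ?_
    rw [conj_pow, S.zp]; group
  by_cases hcent : ∀ x ∈ N, (∀ y ∈ Y, x * y = y * x) → x ∈ Y
  · by_cases hne : N ≤ Y
    · left
      intro x hx hx1
      obtain ⟨k, hk⟩ := IsPGroup.iff_orderOf.mp hN ⟨x, hx⟩
      rw [Subgroup.orderOf_mk] at hk
      rcases k with _ | k
      · rw [pow_zero, orderOf_eq_one_iff] at hk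
        exact absurd hk hx1
      · have h1 : (x ^ p ^ k) ^ p = 1 := by
          rw [← pow_mul, ← pow_succ, ← hk, pow_orderOf_eq_one]
        have h2 : x ^ p ^ k ≠ 1 := by
          intro h
          have := orderOf_dvd_of_pow_eq_one h
          rw [hk] at this
          have h3 := Nat.le_of_dvd (pow_pos hp.pos k) this
          have h4 : p ^ k < p ^ (k + 1) := Nat.pow_lt_pow_right hp.one_lt (Nat.lt_succ_self k)
          omega
        have h3 := S.om _ (Y.pow_mem (hne hx) _) h1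
        have h4 := mem_zpowers_swap hp S.zp h3 h2
        exact (zpowers_le.mpr (pow_mem (mem_zpowers x) _)) h4
    · right
      exact case_three hp2 S hcent hne
  · push Not at hcent
    obtain ⟨x, hx, hxc, hxY⟩ := hcent
    right
    exact case_one hp2 S hx hxY hxc

end Cfsg.Agent.H568.PGrp
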