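import Cfsg.Agent.H568.PairRowM
import Cfsg.Agent.S0000

/-!
# `PairRow` for the Monster (helper568)
-/

set_option autoImplicit false

namespace Cfsg.Agent.H568.PairRowM

open Cfsg

/-- **`PairRow` for the Monster.** -/
theorem pairRow {K : Type*} [Group K] (h : Spor.IsoM K) : Cfsg.Agent.H730.Pair.PairRow K :=
  pairRow_of (fun _ _ _ _ => Cfsg.Agent.S0000.result) h

end Cfsg.Agent.H568.PairRowM
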