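import Cfsg.Agent.H568.RowAsmC
import Cfsg.Agent.H719.RowsExc
import Cfsg.Agent.H296.RowON
import Cfsg.Agent.H999.SpRowHe
import Cfsg.Agent.H999.SpRowRu
import Cfsg.Agent.H173.RS.HN
import Cfsg.Agent.S0000

/-!
# All the rows of S4329 (helper568)
-/

set_option autoImplicit false

namespace Cfsg.Agent.H568.RowAsm

open Cfsg Cfsg.Lie

universe u

/-- **Every finite non-abelian simple group satisfies `Row p` for every odd prime `p`.** -/
theorem row_all (K : Type u) [Group K] [Finite K] [IsSimpleGroup K] (hna : ¬ IsMulCommutative K) (p : ℕ)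
    [Fact p.Prime] (hp : p ≠ 2) : Row p K := by
  refine row_known' (fun T _ _ _ => Cfsg.Agent.S0000.result) (fun T _ _ _ => Cfsg.Agent.S0000.result) K hna p hp
    fun h => ?_
  rcases h with h | h | h | h | h | h | h | h | h
  · exact H719.row_G2 K h p hp
  · exact H719.row_F4 K h p hp
  · exact H719.row_E6 K h p hp
  · exact H719.row_E7 K h p hp
  · exact H719.row_E8 K h p hp
  · exact H999.SpRowHe.row_he h p hp
  · exact H999.SpRowRu.row_ru h p hp
  · exact H296.RowON.row_on h hp
  · exact H173.RS.HNRow.row_hn K h p hp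

end Cfsg.Agent.H568.RowAsm
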