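import Cfsg.Agent.H568.RowTools

/-!
# The alternating groups: an even permutation normalising no `p`-subgroup (helper568)
-/

set_option autoImplicit false
set_option linter.unusedSectionVars false

namespace Cfsg.Agent.H568.Alt

open Equiv Equiv.Perm Subgroup

variable {Ω : Type*} [Fintype Ω] [DecidableEq Ω] {p : ℕ}

/-- The fixed points of a subgroup. -/
def Fx (Q : Subgroup (Perm Ω)) (w : Ω) : Prop := ∀ q ∈ Q, q w = w

theorem fx_iff {Q : Subgroup (Perm Ω)} {σ : Perm Ω} (hσ : σ ∈ normalizer (Q : Set (Perm Ω))) (w : Ω) :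
    Fx Q (σ w) ↔ Fx Q w := by
  have key : ∀ (τ : Perm Ω), τ ∈ normalizer (Q : Set (Perm Ω)) → ∀ w, Fx Q w → Fx Q (τ w) := by
    intro τ hτ w hw q hq
    have h1 : τ⁻¹ * q * τ ∈ Q := by
      have h2 := (mem_normalizer_iff.1 hτ (τ⁻¹ * q * τ)).2
      apply h2
      have h3 : τ * (τ⁻¹ * q * τ) * τ⁻¹ = q := by group
      rwa [h3]
    have h2 := hw _ h1
    rw [Perm.mul_apply, Perm.mul_apply, Perm.inv_eq_iff_eq] at h2
    exact h2
  refine ⟨fun h => ?_, key σ hσ w⟩
  have h1 := key σ⁻¹ (inv_mem hσ) _ h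
  rwa [← Perm.mul_apply, inv_mul_cancel, Perm.one_apply] at h1

theorem fx_same {Q : Subgroup (Perm Ω)} {σ : Perm Ω} (hσ : σ ∈ normalizer (Q : Set (Perm Ω))) {w w' : Ω}
    (h : SameCycle σ w w') : Fx Q w ↔ Fx Q w' := by
  obtain ⟨i, rfl⟩ := h
  exact (fx_iff (zpow_mem hσ i) w).symm

open Classical in
theorem card_modEq (Q : Subgroup (Perm Ω)) [hp : Fact p.Prime] (hQ : IsPGroup p Q) :
    Fintype.card Ω ≡ (Finset.univ.filter (Fx Q)).card [MOD p] := by
  have h1 := hQ.card_modEq_card_fixedPoints Ω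
  rw [Nat.card_eq_fintype_card] at h1
  refine h1.trans ?_
  have h2 : Nat.card (MulAction.fixedPoints Q Ω) = (Finset.univ.filter (Fx Q)).card := by
    rw [← Fintype.card_subtype, ← Nat.card_eq_fintype_card]
    refine Nat.card_congr (Equiv.subtypeEquivRight fun w => ?_)
    rw [MulAction.mem_fixedPoints]
    exact ⟨fun h q hq => h ⟨q, hq⟩, fun h q => h q q.2⟩
  rw [h2]

theorem eq_bot_of_fx {Q : Subgroup (Perm Ω)} (h : ∀ w, Fx Q w) : Q = ⊥ := by
  rw [eq_bot_iff]
  intro q hq
  rw [mem_bot]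
  exact Perm.ext fun w => h w q hq

/-- A cycle with given support. -/
theorem exists_cycle (s : Finset Ω) (hs : 2 ≤ s.card) :
    ∃ c : Perm Ω, c.support = s ∧ c.IsCycle ∧ Perm.sign c = -(-1) ^ s.card := by
  obtain ⟨c, hc, hcs⟩ := Finset.exists_cycleOn s
  have hnt : (s : Set Ω).Nontrivial := Finset.one_lt_card_iff_nontrivial.1 hs
  have h1 : c.support = s := by
    refine le_antisymm hcs fun w hw => ?_
    rw [Perm.mem_support]
    exact hc.apply_ne hnt hw
  have h2 : c.IsCycle := by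
    rw [isCycle_iff_exists_isCycleOn]
    refine ⟨s, hnt, hc, fun w hw => ?_⟩
    rw [← h1]
    exact Finset.mem_coe.2 (Perm.mem_support.2 hw)
  exact ⟨c, h1, h2, by rw [h2.sign, h1]⟩

theorem cycle_same {c : Perm Ω} (hc : c.IsCycle) {w w' : Ω} (hw : w ∈ c.support) (hw' : w' ∈ c.support) :
    SameCycle c w w' := hc.sameCycle (Perm.mem_support.1 hw) (Perm.mem_support.1 hw')

/-- Transport of the orbit relation. -/
theorem orb_map {Q : Subgroup (Perm Ω)} {σ : Perm Ω} (hσ : σ ∈ normalizer (Q : Set (Perm Ω))) {u w : Ω}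
    (h : ∃ q ∈ Q, q u = w) (i : ℤ) : ∃ q ∈ Q, q ((σ ^ i) u) = (σ ^ i) w := by
  obtain ⟨q, hq, rfl⟩ := h
  refine ⟨σ ^ i * q * (σ ^ i)⁻¹, (mem_normalizer_iff.1 (zpow_mem hσ i) q).1 hq, ?_⟩
  simp

/-- The orbit of a point fixed by the cycle `c`. -/
theorem orb_cover {Q : Subgroup (Perm Ω)} {c : Perm Ω} (hcc : c.IsCycle) (hc : c ∈ normalizer (Q : Set (Perm Ω)))
    {u w : Ω} (hu : u ∉ c.support) (hw : w ∈ c.support) (h : ∃ q ∈ Q, q u = w) {w' : Ω} (hw' : w' ∈ c.support) :
    ∃ q ∈ Q, q u = w' := by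
  obtain ⟨i, rfl⟩ := cycle_same hcc hw hw'
  have h1 := orb_map hc h i
  rwa [zpow_apply_eq_self_of_apply_eq_self (Perm.notMem_support.1 hu)] at h1

/-- The orbit of a `p`-group has `p`-power length. -/
theorem orb_card (Q : Subgroup (Perm Ω)) [hp : Fact p.Prime] (hQ : IsPGroup p Q) (u : Ω) :
    ∃ k : ℕ, Nat.card (MulAction.orbit Q u) = p ^ k := by
  have : Finite Q := inferInstance
  obtain ⟨n, hn⟩ := hQ.card_orbit u
  exact ⟨n, hn⟩

theorem mem_orb {Q : Subgroup (Perm Ω)} {u w : Ω} : w ∈ MulAction.orbit Q u ↔ ∃ q ∈ Q, q u = w := by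
  constructor
  · rintro ⟨q, rfl⟩
    exact ⟨q, q.2, rfl⟩
  · rintro ⟨q, hq, rfl⟩
    exact ⟨⟨q, hq⟩, rfl⟩

theorem card_of_trans (Q : Subgroup (Perm Ω)) [hp : Fact p.Prime] (hQ : IsPGroup p Q) {u : Ω}
    (h : ∀ w, ∃ q ∈ Q, q u = w) : ∃ k : ℕ, Fintype.card Ω = p ^ k := by
  obtain ⟨k, hk⟩ := orb_card Q hQ u
  refine ⟨k, ?_⟩
  rw [← hk, ← Nat.card_eq_fintype_card]
  have h1 : MulAction.orbit Q u = Set.univ := Set.eq_univ_of_forall fun w => mem_orb.2 (h w)
  rw [h1]
  exact (Nat.card_congr (Equiv.Set.univ Ω)).symm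

/-! ### Degree odd, `p` not dividing it -/

theorem caseA [hp : Fact p.Prime] {σ : Perm Ω} (hσ : σ.IsCycle) (hs : σ.support = Finset.univ)
    (hn : ¬ p ∣ Fintype.card Ω) (Q : Subgroup (Perm Ω)) (hQ : IsPGroup p Q)
    (hnorm : σ ∈ normalizer (Q : Set (Perm Ω))) : Q = ⊥ := by
  classical
  by_cases hF : ∃ w, Fx Q w
  · obtain ⟨w, hw⟩ := hF
    exact eq_bot_of_fx fun w' => (fx_same hnorm (cycle_same hσ (by rw [hs]; exact Finset.mem_univ w)
      (by rw [hs]; exact Finset.mem_univ w'))).1 hw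
  · exfalso
    push Not at hF
    have h1 := card_modEq (p := p) Q hQ
    rw [Finset.filter_false_of_mem fun w _ => hF w, Finset.card_empty] at h1
    exact hn ((Nat.modEq_zero_iff_dvd).1 h1)

/-! ### Degree even, `p` not dividing `n - 1` -/

theorem caseB [hp : Fact p.Prime] (hp2 : p ≠ 2) {σ : Perm Ω} (hσ : σ.IsCycle) {u : Ω} (hs : σ.support = {u}ᶜ)
    (hev : Even (Fintype.card Ω)) (hn : ¬ p ∣ Fintype.card Ω - 1) (Q : Subgroup (Perm Ω)) (hQ : IsPGroup p Q)
    (hnorm : σ ∈ normalizer (Q : Set (Perm Ω))) : Q = ⊥ := by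
  classical
  have hmem : ∀ w, w ∈ σ.support ↔ w ≠ u := fun w => by rw [hs]; simp
  have h1 := card_modEq (p := p) Q hQ
  by_cases hF : ∃ w, w ≠ u ∧ Fx Q w
  · obtain ⟨w, hwu, hw⟩ := hF
    have h2 : ∀ w', w' ≠ u → Fx Q w' := fun w' hw' => (fx_same hnorm (cycle_same hσ ((hmem w).2 hwu)
      ((hmem w').2 hw'))).1 hw
    have h3 : Fx Q u := by
      by_contra h3
      have h4 : Finset.univ.filter (Fx Q) = {u}ᶜ := by
        ext w'
        simp only [Finset.mem_filter, Finset.mem_univ, true_and, Finset.mem_compl, Finset.mem_singleton]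
        exact ⟨fun h5 h6 => h3 (h6 ▸ h5), h2 w'⟩
      rw [h4, Finset.card_compl, Finset.card_singleton] at h1
      have h5 : 0 < Fintype.card Ω := Fintype.card_pos_iff.2 ⟨u⟩
      have h6 : p ∣ Fintype.card Ω - (Fintype.card Ω - 1) := (Nat.modEq_iff_dvd' (Nat.sub_le _ _)).1 h1.symm
      have h7 : Fintype.card Ω - (Fintype.card Ω - 1) = 1 := by omega
      rw [h7] at h6
      exact hp.1.one_lt.ne' (Nat.dvd_one.1 h6)
    exact eq_bot_of_fx fun w' => by
      by_cases h : w' = u
      · rw [h]; exact h3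
      · exact h2 w' h
  · exfalso
    push Not at hF
    by_cases hu : Fx Q u
    · have h4 : Finset.univ.filter (Fx Q) = {u} := by
        ext w'
        simp only [Finset.mem_filter, Finset.mem_univ, true_and, Finset.mem_singleton]
        refine ⟨fun h5 => ?_, fun h5 => h5 ▸ hu⟩
        by_contra h6
        exact hF w' h6 h5
      rw [h4, Finset.card_singleton] at h1
      exact hn ((Nat.modEq_iff_dvd' (Fintype.card_pos_iff.2 ⟨u⟩)).1 h1.symm)
    · unfold Fx at hu
      push Not at hu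
      obtain ⟨q, hq, hqu⟩ := hu
      have h5 : ∀ w, ∃ q ∈ Q, q u = w := by
        intro w
        by_cases hw : w = u
        · exact ⟨1, Q.one_mem, by rw [hw]; rfl⟩
        · exact orb_cover hσ hnorm (fun h => (hmem u).1 h rfl) ((hmem _).2 hqu) ⟨q, hq, rfl⟩ ((hmem w).2 hw)
      obtain ⟨k, hk⟩ := card_of_trans Q hQ h5
      rw [hk] at hev
      exact (Nat.not_even_iff_odd.2 (hp.1.odd_of_ne_two hp2).pow) hev

/-! ### Degree even, `p` dividing `n - 1` -/

theorem caseD [hp : Fact p.Prime] (hp2 : p ≠ 2) {c : Perm Ω} (hc : c.IsCycle) {u v : Ω} (huv : u ≠ v)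
    (hs : c.support = {u, v}ᶜ) (h3 : 3 ≤ Fintype.card Ω)
    (hn : p ∣ Fintype.card Ω - 1) (Q : Subgroup (Perm Ω)) (hQ : IsPGroup p Q)
    (hnorm : c * swap u v ∈ normalizer (Q : Set (Perm Ω))) : Q = ⊥ := by
  classical
  set σ := c * swap u v with hσ
  have hmem : ∀ w, w ∈ c.support ↔ w ≠ u ∧ w ≠ v := fun w => by
    rw [hs]; simp
  have hcu : c u = u := Perm.notMem_support.1 fun h => ((hmem u).1 h).1 rfl
  have hcv : c v = v := Perm.notMem_support.1 fun h => ((hmem v).1 h).2 rfl
  have hdis : Perm.Disjoint c (swap u v) := by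
    intro w
    by_cases h : w = u
    · left; rw [h, hcu]
    · by_cases h' : w = v
      · left; rw [h', hcv]
      · right; exact swap_apply_of_ne_of_ne h h'
  have hσu : σ u = v := by rw [hσ, Perm.mul_apply, swap_apply_left, hcv]
  have huvF : Fx Q u ↔ Fx Q v := by
    have h4 := fx_iff hnorm u
    rw [hσu] at h4
    exact h4.symm
  have hsame : ∀ w w', w ∈ c.support → w' ∈ c.support → SameCycle σ w w' := by
    intro w w' hw hw'
    obtain ⟨i, hi⟩ := cycle_same hc hw hw'
    refine ⟨i, ?_⟩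
    rw [hσ, hdis.commute.mul_zpow, Perm.mul_apply]
    have h5 := (hmem w).1 hw
    rw [zpow_apply_eq_self_of_apply_eq_self (swap_apply_of_ne_of_ne h5.1 h5.2), hi]
  have h1 := card_modEq (p := p) Q hQ
  have hmodn : ∀ m : ℕ, Fintype.card Ω ≡ m [MOD p] → m ≡ 1 [MOD p] := by
    intro m hm
    exact hm.symm.trans ((Nat.modEq_iff_dvd' (by omega)).2 hn).symm
  have hp3 : 3 ≤ p := by
    have := hp.1.two_le
    omega
  by_cases hu : Fx Q u
  · by_cases hF : ∃ w, w ∈ c.support ∧ Fx Q w
    · obtain ⟨w, hwu, hw⟩ := hF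
      exact eq_bot_of_fx fun w' => by
        by_cases h : w' ∈ c.support
        · exact (fx_same hnorm (hsame w w' hwu h)).1 hw
        · rw [hmem, not_and_or, not_not, not_not] at h
          rcases h with rfl | rfl
          · exact hu
          · exact huvF.1 hu
    · exfalso
      push Not at hF
      have h4 : Finset.univ.filter (Fx Q) = {u, v} := by
        ext w'
        simp only [Finset.mem_filter, Finset.mem_univ, true_and, Finset.mem_insert, Finset.mem_singleton]
        constructor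
        · intro h5
          by_contra h6
          rw [not_or] at h6
          exact hF w' ((hmem w').2 h6) h5
        · rintro (rfl | rfl)
          · exact hu
          · exact huvF.1 hu
      rw [h4, Finset.card_pair huv] at h1
      have h5 : p ∣ 2 - 1 := (Nat.modEq_iff_dvd' (by omega)).1 (hmodn _ h1).symm
      have h6 := Nat.le_of_dvd (by omega) h5
      omega
  · by_cases hF : ∃ w, w ∈ c.support ∧ Fx Q w
    · exfalso
      obtain ⟨w, hwu, hw⟩ := hF
      have h4 : Finset.univ.filter (Fx Q) = {u, v}ᶜ := by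
        ext w'
        simp only [Finset.mem_filter, Finset.mem_univ, true_and, Finset.mem_compl, Finset.mem_insert,
          Finset.mem_singleton]
        constructor
        · rintro h5 (rfl | rfl)
          · exact hu h5
          · exact hu (huvF.2 h5)
        · intro h5
          rw [not_or] at h5
          exact (fx_same hnorm (hsame w w' hwu ((hmem w').2 h5))).1 hw
      rw [h4, Finset.card_compl, Finset.card_pair huv] at h1
      have h5 : p ∣ Fintype.card Ω - (Fintype.card Ω - 2) := (Nat.modEq_iff_dvd' (Nat.sub_le _ _)).1 h1.symm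
      have h6 := Nat.le_of_dvd (by omega) h5
      omega
    · exfalso
      push Not at hF
      have h4 : Finset.univ.filter (Fx Q) = ∅ := by
        ext w'
        simp only [Finset.mem_filter, Finset.mem_univ, true_and, Finset.notMem_empty, iff_false]
        intro h5
        by_cases h : w' ∈ c.support
        · exact hF w' h h5
        · rw [hmem, not_and_or, not_not, not_not] at h
          rcases h with rfl | rfl
          · exact hu h5
          · exact hu (huvF.2 h5)
      rw [h4, Finset.card_empty] at h1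
      have h5 : p ∣ 1 - 0 := (Nat.modEq_iff_dvd' (by omega)).1 (hmodn _ h1)
      have h6 := Nat.le_of_dvd (by omega) h5
      omega

/-! ### Degree odd, `p` dividing it -/

/-- A fixed point free `p`-subgroup normalised by an `(n-2)`-cycle is transitive. -/
theorem trans_of [hp : Fact p.Prime] (hp2 : p ≠ 2) {c : Perm Ω} (hc : c.IsCycle) {u v : Ω} (huv : u ≠ v)
    (hs : c.support = {u, v}ᶜ) (hn : p ∣ Fintype.card Ω) (R : Subgroup (Perm Ω)) (hR : IsPGroup p R)
    (hnorm : c ∈ normalizer (R : Set (Perm Ω))) (hF : ∀ w, ¬ Fx R w) : ∀ w, ∃ q ∈ R, q u = w := by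
  classical
  have hmem : ∀ w, w ∈ c.support ↔ w ≠ u ∧ w ≠ v := fun w => by
    rw [hs]; simp
  have hp3 : 3 ≤ p := by
    have := hp.1.two_le
    omega
  obtain ⟨k, hk⟩ := orb_card R hR u
  have hk0 : k ≠ 0 := by
    rintro rfl
    rw [pow_zero, Nat.card_eq_one_iff_unique] at hk
    obtain ⟨⟨h1⟩, -⟩ := hk
    apply hF u
    intro q hq
    exact congrArg Subtype.val (h1 ⟨q u, mem_orb.2 ⟨q, hq, rfl⟩⟩ ⟨u, mem_orb.2 ⟨1, R.one_mem, rfl⟩⟩)
  have hfin : (MulAction.orbit R u).Finite := Set.toFinite _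
  have hex : ∃ w, w ∈ c.support ∧ ∃ q ∈ R, q u = w := by
    by_contra hcon
    push Not at hcon
    have h1 : MulAction.orbit R u ⊆ ({u, v} : Finset Ω) := by
      intro w hw
      obtain ⟨q, hq, hqw⟩ := mem_orb.1 hw
      by_contra h2
      have h3 : w ∈ c.support := by
        rw [hmem]
        simpa using h2
      exact hcon w h3 q hq hqw
    have h2 : Nat.card (MulAction.orbit R u) ≤ 2 := by
      have h3 := Set.ncard_le_ncard h1 (Finset.finite_toSet _)
      rw [Set.ncard_coe_finset, Finset.card_pair huv] at h3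
      exact h3
    rw [hk] at h2
    have h3 : p ≤ p ^ k := Nat.le_self_pow hk0 p
    omega
  obtain ⟨w0, hw0, hw0'⟩ := hex
  have hcov : ∀ w ∈ c.support, ∃ q ∈ R, q u = w := fun w hw =>
    orb_cover hc hnorm (fun h => ((hmem u).1 h).1 rfl) hw0 hw0' hw
  have hv : ∃ q ∈ R, q u = v := by
    by_contra hcon
    have h1 : MulAction.orbit R u = (({v}ᶜ : Finset Ω) : Set Ω) := by
      ext w
      rw [mem_orb]
      simp only [Finset.coe_compl, Finset.coe_singleton, Set.mem_compl_iff, Set.mem_singleton_iff]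
      constructor
      · rintro h rfl
        exact hcon h
      · intro h
        by_cases h' : w = u
        · exact ⟨1, R.one_mem, by rw [h']; rfl⟩
        · exact hcov w ((hmem w).2 ⟨h', h⟩)
    have h2 : Nat.card (MulAction.orbit R u) = Fintype.card Ω - 1 := by
      rw [h1]
      show Nat.card ((({v}ᶜ : Finset Ω) : Set Ω)) = _
      rw [Nat.card_coe_set_eq, Set.ncard_coe_finset, Finset.card_compl, Finset.card_singleton]
    rw [hk] at h2
    have h3 : p ∣ Fintype.card Ω - 1 := h2 ▸ dvd_pow_self p hk0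
    have h5 : 0 < Fintype.card Ω := Fintype.card_pos_iff.2 ⟨u⟩
    have h4 : p ∣ 1 := by
      have h6 := (Nat.dvd_sub hn h3)
      have h7 : Fintype.card Ω - (Fintype.card Ω - 1) = 1 := by omega
      rwa [h7] at h6
    exact hp.1.one_lt.ne' (Nat.dvd_one.1 h4)
  intro w
  by_cases h : w = u
  · exact ⟨1, R.one_mem, by rw [h]; rfl⟩
  · by_cases h' : w = v
    · rw [h']; exact hv
    · exact hcov w ((hmem w).2 ⟨h, h'⟩)

theorem caseC [hp : Fact p.Prime] (hp2 : p ≠ 2) {c : Perm Ω} (hc : c.IsCycle) {u v : Ω} (huv : u ≠ v)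
    (hs : c.support = {u, v}ᶜ) (hn : p ∣ Fintype.card Ω) (Q : Subgroup (Perm Ω)) (hQ : IsPGroup p Q)
    (hnorm : c ∈ normalizer (Q : Set (Perm Ω))) : Q = ⊥ := by
  classical
  by_contra hQb
  have hmem : ∀ w, w ∈ c.support ↔ w ≠ u ∧ w ≠ v := fun w => by
    rw [hs]; simp
  have hp3 : 3 ≤ p := by
    have := hp.1.two_le
    omega
  have hcard3 : 3 ≤ Fintype.card Ω := le_trans hp3 (Nat.le_of_dvd (Fintype.card_pos_iff.2 ⟨u⟩) hn)
  have hcu : c u = u := Perm.notMem_support.1 fun h => ((hmem u).1 h).1 rfl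
  have hcv : c v = v := Perm.notMem_support.1 fun h => ((hmem v).1 h).2 rfl
  have h1 := card_modEq (p := p) Q hQ
  have h2 : p ∣ (Finset.univ.filter (Fx Q)).card := by
    have h3 : (Finset.univ.filter (Fx Q)).card ≡ 0 [MOD p] := h1.symm.trans ((Nat.modEq_zero_iff_dvd).2 hn)
    exact (Nat.modEq_zero_iff_dvd).1 h3
  have hF : ∀ w, ¬ Fx Q w := by
    by_cases hF : ∃ w, w ∈ c.support ∧ Fx Q w
    · exfalso
      obtain ⟨w, hw, hwF⟩ := hF
      have h4 : ({u, v}ᶜ : Finset Ω) ⊆ Finset.univ.filter (Fx Q) := by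
        intro w' hw'
        rw [← hs] at hw'
        simp only [Finset.mem_filter, Finset.mem_univ, true_and]
        exact (fx_same hnorm (cycle_same hc hw hw')).1 hwF
      have h5 := Finset.card_le_card h4
      rw [Finset.card_compl, Finset.card_pair huv] at h5
      have h6 : (Finset.univ.filter (Fx Q)).card < Fintype.card Ω := by
        rw [← Finset.card_univ]
        apply Finset.card_lt_card
        rw [Finset.filter_ssubset]
        by_contra hcon
        push Not at hcon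
        exact hQb (eq_bot_of_fx fun w => hcon w (Finset.mem_univ w))
      have h7 : p ∣ Fintype.card Ω - (Finset.univ.filter (Fx Q)).card := Nat.dvd_sub hn h2
      have h8 := Nat.le_of_dvd (by omega) h7
      omega
    · push Not at hF
      have h4 : Finset.univ.filter (Fx Q) ⊆ {u, v} := by
        intro w hw
        simp only [Finset.mem_filter, Finset.mem_univ, true_and] at hw
        by_contra h5
        exact hF w ((hmem w).2 (by simpa using h5)) hw
      have h5 := Finset.card_le_card h4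
      rw [Finset.card_pair huv] at h5
      have h6 : (Finset.univ.filter (Fx Q)).card = 0 := by
        by_contra h7
        have h8 := Nat.le_of_dvd (Nat.pos_of_ne_zero h7) h2
        omega
      rw [Finset.card_eq_zero, Finset.filter_eq_empty_iff] at h6
      exact fun w => h6 (Finset.mem_univ w)
  have htr := trans_of hp2 hc huv hs hn Q hQ hnorm hF
  -- the centre of `Q`
  set Z : Subgroup (Perm Ω) := Q ⊓ centralizer (Q : Set (Perm Ω)) with hZ
  have hsemi : ∀ z ∈ Z, ∀ w, z w = w → z = 1 := by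
    intro z hz w hw
    have h3 : z u = u := by
      obtain ⟨q, hq, hqw⟩ := htr w
      have h4 : q * z = z * q := (mem_centralizer_iff.1 hz.2) q hq
      apply q.injective
      have h5 : q (z u) = z (q u) := by rw [← Perm.mul_apply, ← Perm.mul_apply, h4]
      rw [h5, hqw, hw]
    apply Perm.ext
    intro w'
    obtain ⟨q, hq, hqw⟩ := htr w'
    have h4 : q * z = z * q := (mem_centralizer_iff.1 hz.2) q hq
    rw [Perm.one_apply, ← hqw, ← Perm.mul_apply, ← h4, Perm.mul_apply, h3]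
  have hZb : Z ≠ ⊥ := by
    have hnt : Nontrivial Q := (nontrivial_iff_ne_bot Q).2 hQb
    have h3 := hQ.center_nontrivial
    obtain ⟨⟨z, hz⟩, hz1⟩ := exists_ne (1 : center Q)
    intro h4
    apply hz1
    have h5 : (z : Perm Ω) ∈ Z := by
      refine ⟨z.2, mem_centralizer_iff.2 fun q hq => ?_⟩
      exact congrArg Subtype.val (mem_center_iff.1 hz ⟨q, hq⟩)
    rw [h4, mem_bot] at h5
    exact Subtype.ext (Subtype.ext h5)
  have hZn : c ∈ normalizer (Z : Set (Perm Ω)) := by
    have key : ∀ (τ : Perm Ω), τ ∈ normalizer (Q : Set (Perm Ω)) → ∀ z ∈ Z, τ * z * τ⁻¹ ∈ Z := by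
      intro τ hτ z hz
      refine ⟨(mem_normalizer_iff.1 hτ z).1 hz.1, mem_centralizer_iff.2 fun q hq => ?_⟩
      have h3 : τ⁻¹ * q * τ ∈ Q := by
        have h4 := (mem_normalizer_iff.1 (inv_mem hτ) q).1 hq
        rwa [inv_inv] at h4
      have h4 := (mem_centralizer_iff.1 hz.2) _ h3
      have h5 : q * (τ * z * τ⁻¹) = τ * (τ⁻¹ * q * τ * z) * τ⁻¹ := by group
      rw [h5, h4]
      group
    rw [mem_normalizer_iff]
    intro z
    refine ⟨key c hnorm z, fun h => ?_⟩
    have h3 := key c⁻¹ (inv_mem hnorm) _ h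
    have h4 : c⁻¹ * (c * z * c⁻¹) * c⁻¹⁻¹ = z := by group
    rwa [h4] at h3
  have hZp : IsPGroup p Z := hQ.to_le inf_le_left
  have hFZ : ∀ w, ¬ Fx Z w := by
    intro w hw
    apply hZb
    rw [eq_bot_iff]
    intro z hz
    rw [mem_bot]
    exact hsemi z hz w (hw z hz)
  obtain ⟨z, hz, hzu⟩ := trans_of hp2 hc huv hs hn Z hZp hZn hFZ v
  have hcz : c * z = z * c := by
    have h3 : c * z * c⁻¹ ∈ Z := (mem_normalizer_iff.1 hZn z).1 hz
    have h4 : z⁻¹ * (c * z * c⁻¹) = 1 := by
      refine hsemi _ (mul_mem (inv_mem hz) h3) u ?_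
      rw [Perm.mul_apply, Perm.mul_apply, Perm.mul_apply, Perm.inv_eq_iff_eq]
      have h5 : c⁻¹ u = u := by rw [Perm.inv_eq_iff_eq, hcu]
      rw [h5, hzu, hcv]
    have h5 : c * z * c⁻¹ = z := (inv_mul_eq_one.1 h4).symm
    exact mul_inv_eq_iff_eq_mul.1 h5
  have hzv : z v = u := by
    have h3 : c (z v) = z v := by
      rw [← Perm.mul_apply, hcz, Perm.mul_apply, hcv]
    have h4 : z v ∉ c.support := Perm.notMem_support.2 h3
    rw [hmem, not_and_or, not_not, not_not] at h4
    rcases h4 with h4 | h4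
    · exact h4
    · exfalso
      apply huv
      apply z.injective
      rw [h4, hzu]
  have hzz : z * z = 1 := hsemi _ (mul_mem hz hz) u (by rw [Perm.mul_apply, hzu, hzv])
  have hz1 : z = 1 := by
    obtain ⟨k, hk⟩ := hZp ⟨z, hz⟩
    have hk' : z ^ p ^ k = 1 := by simpa using congrArg Subtype.val hk
    have h5 : orderOf z ∣ Nat.gcd (p ^ k) 2 :=
      Nat.dvd_gcd (orderOf_dvd_of_pow_eq_one hk') (orderOf_dvd_of_pow_eq_one (by rw [sq, hzz]))
    have h6 : Nat.Coprime (p ^ k) 2 := Nat.Coprime.pow_left _ ((Nat.coprime_primes hp.1 Nat.prime_two).2 hp2)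
    rw [h6, Nat.dvd_one, orderOf_eq_one_iff] at h5
    exact h5
  rw [hz1, Perm.one_apply] at hzu
  exact huv hzu

/-! ### Assembly -/

/-- An even permutation normalising no nontrivial `p`-subgroup of the symmetric group. -/
theorem exists_even [hp : Fact p.Prime] (hp2 : p ≠ 2) (h5 : 5 ≤ Fintype.card Ω) :
    ∃ σ : Perm Ω, σ ∈ alternatingGroup Ω ∧ ∀ Q : Subgroup (Perm Ω), IsPGroup p Q →
      σ ∈ normalizer (Q : Set (Perm Ω)) → Q = ⊥ := by
  have hpos : 0 < Fintype.card Ω := by omega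
  obtain ⟨u, v, huv⟩ : ∃ u v : Ω, u ≠ v := by
    have : Nontrivial Ω := Fintype.one_lt_card_iff_nontrivial.1 (by omega)
    exact exists_pair_ne Ω
  rcases Nat.even_or_odd (Fintype.card Ω) with hev | hodd
  · by_cases hn : p ∣ Fintype.card Ω - 1
    · obtain ⟨c, hs, hc, hsg⟩ := exists_cycle ({u, v}ᶜ : Finset Ω)
        (by rw [Finset.card_compl, Finset.card_pair huv]; omega)
      refine ⟨c * swap u v, ?_, fun Q hQ hnorm => caseD hp2 hc huv hs (by omega) hn Q hQ hnorm⟩
      rw [mem_alternatingGroup, map_mul, hsg, sign_swap huv, Finset.card_compl, Finset.card_pair huv]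
      have : Even (Fintype.card Ω - 2) := (Nat.even_sub (by omega)).2 ⟨fun _ => even_two, fun _ => hev⟩
      rw [this.neg_one_pow]
      simp
    · obtain ⟨c, hs, hc, hsg⟩ := exists_cycle ({u}ᶜ : Finset Ω)
        (by rw [Finset.card_compl, Finset.card_singleton]; omega)
      refine ⟨c, ?_, fun Q hQ hnorm => caseB hp2 hc hs hev hn Q hQ hnorm⟩
      rw [mem_alternatingGroup, hsg, Finset.card_compl, Finset.card_singleton]
      have : Odd (Fintype.card Ω - 1) := Nat.Even.sub_odd (by omega) hev odd_one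
      rw [this.neg_one_pow]
      simp
  · by_cases hn : p ∣ Fintype.card Ω
    · obtain ⟨c, hs, hc, hsg⟩ := exists_cycle ({u, v}ᶜ : Finset Ω)
        (by rw [Finset.card_compl, Finset.card_pair huv]; omega)
      refine ⟨c, ?_, fun Q hQ hnorm => caseC hp2 hc huv hs hn Q hQ hnorm⟩
      rw [mem_alternatingGroup, hsg, Finset.card_compl, Finset.card_pair huv]
      have : Odd (Fintype.card Ω - 2) := Nat.Odd.sub_even (by omega) hodd even_two
      rw [this.neg_one_pow]
      simp
    · obtain ⟨c, hs, hc, hsg⟩ := exists_cycle (Finset.univ : Finset Ω) (by rw [Finset.card_univ]; omega)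
      refine ⟨c, ?_, fun Q hQ hnorm => caseA hc hs hn Q hQ hnorm⟩
      rw [mem_alternatingGroup, hsg, Finset.card_univ, hodd.neg_one_pow]
      simp

theorem exists_noNorm [hp : Fact p.Prime] (hp2 : p ≠ 2) (h5 : 5 ≤ Fintype.card Ω) :
    ∃ x : alternatingGroup Ω, NoNorm p x := by
  obtain ⟨σ, hσ, h⟩ := exists_even (Ω := Ω) hp2 h5
  refine ⟨⟨σ, hσ⟩, fun Q hQ hn => ?_⟩
  have h1 := h (Q.map (alternatingGroup Ω).subtype) (hQ.map _) (by
    rw [mem_normalizer_iff] at hn ⊢
    intro y
    constructor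
    · rintro ⟨q, hq, rfl⟩
      exact ⟨_, (hn q).1 hq, rfl⟩
    · rintro ⟨q, hq, he⟩
      have he' : (q : Perm Ω) = σ * y * σ⁻¹ := he
      have hy : y = σ⁻¹ * q * σ := by rw [he']; group
      refine ⟨⟨σ, hσ⟩⁻¹ * q * ⟨σ, hσ⟩, (hn _).2 ?_, ?_⟩
      · have h2 : (⟨σ, hσ⟩ : alternatingGroup Ω) * (⟨σ, hσ⟩⁻¹ * q * ⟨σ, hσ⟩) * ⟨σ, hσ⟩⁻¹ = q := by group
        rw [h2]
        exact hq
      · rw [hy]
        rfl)
  exact (map_eq_bot_iff_of_injective _ (subtype_injective _)).1 h1

end Cfsg.Agent.H568.Alt
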