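import Cfsg.Agent.H568.RowAlt
import Cfsg.Agent.H999.RowPSL
import Cfsg.Agent.H458.RowPSp
import Cfsg.Agent.H173.RU.Main
import Cfsg.Agent.H200.RowOrthF
import Cfsg.Agent.H200.RowOrthL
import Cfsg.Agent.H798.RowTwB
import Cfsg.Agent.H798.RowTwD
import Cfsg.Agent.H83.RowD4

set_option autoImplicit false

namespace Cfsg.Agent.H568.RowAsm

open Cfsg Cfsg.Lie

universe u

/-- Every row. -/
theorem row_classical (K : Type u) [Group K] [Finite K] [IsSimpleGroup K] (p : ℕ) [Fact p.Prime] (hp : p ≠ 2)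
    (h : IsAlternating K ∨ IsPSL K ∨ IsPSp K ∨ IsPSU K ∨ IsPOmegaOdd K ∨ IsPOmegaPlus K ∨ IsPOmegaMinus K) :
    Row p K := by
  rcases h with h | h | h | h | h | h | h
  · exact row_alt K h p hp
  · exact H999.RowPSL.row_psl K h p hp
  · exact H458.RowPSp.row_psp K h p hp
  · exact H173.RU.row_psu K h p hp
  · exact H200.RowOrth.row_oodd h p hp
  · exact H200.RowOrth.row_oplus h p hp
  · exact H200.RowOrth.row_ominus h p hp

theorem row_twisted (K : Type u) [Group K] [Finite K] [IsSimpleGroup K] (p : ℕ) [Fact p.Prime] (hp : p ≠ 2)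
    (h : Iso3D4 K ∨ IsoSuzuki K ∨ IsoRee K ∨ Iso2F4 K) : Row p K := by
  rcases h with h | h | h | h
  · obtain ⟨F, _, _, q, hq, hK, ⟨e⟩⟩ := h
    exact H83.RowD4.row_twistedD4 hq hK e p hp
  · exact H798.RowTw.row_sz K h p hp
  · exact H798.RowTw.row_ree K h p hp
  · exact H798.RowTw.row_2f4 K h p hp

end Cfsg.Agent.H568.RowAsm
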