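import Cfsg.Agent.H568.RowAsmA
import Cfsg.Agent.H898.RowSpor
import Cfsg.Agent.H377.SporFi23
import Cfsg.Agent.H377.SporFi24
import Cfsg.Agent.H377.SporB
import Cfsg.Agent.H798.RowSpM
import Cfsg.Agent.H798.RowSpJ
import Cfsg.Agent.H798.RowSpH

set_option autoImplicit false

namespace Cfsg.Agent.H568.RowAsm

open Cfsg Cfsg.Lie

universe u

theorem row_prime {K : Type u} [Group K] [Finite K] (hna : ¬ IsMulCommutative K) (p : ℕ) (h : IsPrimeCyclic K) :
    Row p K := by
  exfalso
  apply hna
  have : Fact (Nat.card K).Prime := ⟨h⟩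
  have hc : IsCyclic K := isCyclic_of_prime_card rfl
  obtain ⟨g, hg⟩ := hc.exists_generator
  refine ⟨⟨fun x y => ?_⟩⟩
  obtain ⟨i, rfl⟩ := hg x
  obtain ⟨j, rfl⟩ := hg y
  exact (Commute.refl g).zpow_zpow i j

/-- Every row except those of `hmiss`. -/
theorem row_known (K : Type u) [Group K] [Finite K] [IsSimpleGroup K] (hna : ¬ IsMulCommutative K) (p : ℕ)
    [Fact p.Prime] (hp : p ≠ 2) (h : IsKnownSimple' K)
    (hmiss : (IsoChevG2 K ∨ IsoF4 K ∨ IsoChevE6 K ∨ IsoE7 K ∨ IsoE8 K ∨ Iso2E6 K ∨ Spor.IsoSuz K ∨ Spor.IsoHe K ∨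
      Spor.IsoRu K ∨ Spor.IsoON K ∨ Spor.IsoLy K ∨ Spor.IsoFi22 K ∨ Spor.IsoHN K ∨ Spor.IsoTh K ∨ Spor.IsoM K) →
      Row p K) : Row p K := by
  rcases h with h | h | h | h | h | h | h | h | h | h
  · exact row_prime hna p h
  · exact row_classical K p hp (by tauto)
  · exact row_classical K p hp (by tauto)
  · exact row_classical K p hp (by tauto)
  · exact row_classical K p hp (by tauto)
  · exact row_classical K p hp (by tauto)
  · exact row_classical K p hp (by tauto)
  · exact row_classical K p hp (by tauto)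
  · rcases h with h | h | h | h | h | h | h | h | h | h | h
    · exact hmiss (by tauto)
    · exact hmiss (by tauto)
    · exact hmiss (by tauto)
    · exact hmiss (by tauto)
    · exact hmiss (by tauto)
    · exact hmiss (by tauto)
    · exact row_twisted K p hp (by tauto)
    · exact row_twisted K p hp (by tauto)
    · exact row_twisted K p hp (by tauto)
    · exact row_twisted K p hp (by tauto)
    · exact H798.RowSp.row_tits K h p hp
  · rcases h with h | h | h | h | h | h | h | h | h | h | h | h | h | h | h | h | h | h | h | h | h | h | h | h | h | h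
    · exact H798.RowSp.row_m11 K h p hp
    · exact H798.RowSp.row_m12 K h p hp
    · exact H798.RowSp.row_m22 K h p hp
    · exact H798.RowSp.row_m23 K h p hp
    · exact H798.RowSp.row_m24 K h p hp
    · exact H798.RowSp.row_j1 K h p hp
    · exact H798.RowSp.row_j2 K h p hp
    · exact H898.RowSpor.row_j3 K h p hp
    · exact H798.RowSp.row_j4 K h p hp
    · exact H898.RowSpor.row_co1 K h p hp
    · exact H898.RowSpor.row_co2 K h p hp
    · exact H898.RowSpor.row_co3 K h p hp
    · exact H898.RowSpor.row_mcl K h p hp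
    · exact H798.RowSp.row_hs K h p hp
    · exact hmiss (by tauto)
    · exact hmiss (by tauto)
    · exact hmiss (by tauto)
    · exact hmiss (by tauto)
    · exact hmiss (by tauto)
    · exact hmiss (by tauto)
    · exact H377.SporRow.row_fi23 K h p hp
    · exact H377.SporRow.row_fi24 K h p hp
    · exact hmiss (by tauto)
    · exact hmiss (by tauto)
    · exact H377.SporRow.row_b K h p hp
    · exact hmiss (by tauto)

end Cfsg.Agent.H568.RowAsm
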