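import Cfsg.Agent.H568.RowAsmB
import Cfsg.Agent.H568.RowLy
import Cfsg.Agent.H566.RowSpor
import Cfsg.Agent.H574.RowTh
import Cfsg.Agent.H966.RowM
import Cfsg.Agent.H83.RowE6

set_option autoImplicit false

namespace Cfsg.Agent.H568.RowAsm

open Cfsg Cfsg.Lie

universe u

/-- Every row except those of `hmiss`. -/
theorem row_known' (hK : ∀ (T : Type u) [Group T] [Finite T] [IsSimpleGroup T], IsKnownSimple' T)
    (hK0 : ∀ (T : Type) [Group T] [Finite T] [IsSimpleGroup T], IsKnownSimple' T)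
    (K : Type u) [Group K] [Finite K] [IsSimpleGroup K] (hna : ¬ IsMulCommutative K) (p : ℕ)
    [Fact p.Prime] (hp : p ≠ 2)
    (hmiss : (IsoChevG2 K ∨ IsoF4 K ∨ IsoChevE6 K ∨ IsoE7 K ∨ IsoE8 K ∨ Spor.IsoHe K ∨
      Spor.IsoRu K ∨ Spor.IsoON K ∨ Spor.IsoHN K) → Row p K) : Row p K := by
  refine row_known K hna p hp (hK K) fun h => ?_
  rcases h with h | h | h | h | h | h | h | h | h | h | h | h | h | h | h
  · exact hmiss (by tauto)
  · exact hmiss (by tauto)
  · exact hmiss (by tauto)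
  · exact hmiss (by tauto)
  · exact hmiss (by tauto)
  · obtain ⟨F, _, _, q, hq, hF, ⟨e⟩⟩ := h
    exact H83.RowE6.row_twistedE6 hq hF e p hp
  · exact H566.RowSpor.row_suz K h p hp
  · exact hmiss (by tauto)
  · exact hmiss (by tauto)
  · exact hmiss (by tauto)
  · exact RowLy.row_ly hK K h p hp
  · exact H566.RowSpor.row_fi22 K h p hp
  · exact hmiss (by tauto)
  · exact H574.RowTh.row_th h hp
  · exact H966.RowM.row_m hK0 OrdDiv.table K h p hp

end Cfsg.Agent.H568.RowAsm
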