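import Cfsg.Agent.H568.RowCrit

/-!
# S4329 from the rows (helper568)
-/

set_option autoImplicit false

namespace Cfsg.Agent.H568

open Subgroup
open scoped Pointwise

theorem of_row {G : Type*} [Group G] [Finite G] (S : Subgroup G) [S.Normal]
    (hC : Subgroup.centralizer (S : Set G) = ⊥) (p : ℕ) [hp : Fact p.Prime]
    (A : Subgroup G) (hA : Nat.card A = p) (hrow : Row p ↥S) :
    ∃ X : Subgroup G, X ≤ S ∧ IsCyclic X ∧ ¬ p ∣ Nat.card X ∧
      ∀ Y : Subgroup G, IsPGroup p Y → Y ≠ ⊥ →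
        Y = Subgroup.closure (⋃ g ∈ {g : G | MulAut.conj g • A ≤ Y}, ((MulAut.conj g • A : Subgroup G) : Set G)) →
        ¬ X ≤ Subgroup.normalizer (Y : Set G) := by
  classical
  set φ : G →* MulAut ↥S := MulAut.conjNormal with hφ
  have hφi : Function.Injective φ := by
    rw [← MonoidHom.ker_eq_bot_iff, ← hC]
    ext g
    rw [MonoidHom.mem_ker, mem_centralizer_iff]
    constructor
    · intro h s hs
      have h1 : ((φ g ⟨s, hs⟩ : ↥S) : G) = s := by rw [h]; rfl
      rw [hφ, MulAut.conjNormal_apply] at h1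
      exact (mul_inv_eq_iff_eq_mul.1 h1).symm
    · intro h
      ext s
      rw [hφ, MulAut.conjNormal_apply, ← h s s.2, mul_inv_cancel_right]
      rfl
  have hcard : 1 < Nat.card A := hA ▸ hp.1.one_lt
  obtain ⟨⟨a, haA⟩, ha⟩ := exists_prime_orderOf_dvd_card' p (hA ▸ dvd_rfl : p ∣ Nat.card A)
  have ha' : orderOf a = p := by
    have h := Subgroup.orderOf_mk a haA
    rw [← h]; exact ha
  have hAz : A = zpowers a := by
    symm
    apply Subgroup.eq_of_le_of_card_ge (by rwa [zpowers_le])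
    rw [hA, Nat.card_zpowers, ha']
  obtain ⟨x, hx, havoid⟩ := hrow (φ a) (by rw [orderOf_injective φ hφi, ha'])
  refine ⟨zpowers (x : G), ?_, inferInstance, ?_, ?_⟩
  · rw [zpowers_le]; exact x.2
  · rw [Nat.card_zpowers, Subgroup.orderOf_coe]; exact hx
  intro Y hY hYb hYe hn
  have hex : ∃ g : G, MulAut.conj g • A ≤ Y := by
    by_contra hcon
    push Not at hcon
    apply hYb
    rw [hYe, closure_eq_bot_iff]
    intro z hz
    simp only [Set.mem_iUnion, Set.mem_ofPred_eq] at hz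
    obtain ⟨g, hg, -⟩ := hz
    exact absurd hg (hcon g)
  obtain ⟨g, hg⟩ := hex
  refine havoid (Y.map φ) (hY.map φ) ⟨φ g, ?_⟩ ?_
  · refine ⟨g * a * g⁻¹, hg ?_, by simp⟩
    exact smul_mem_pointwise_smul a (MulAut.conj g) A haA
  · have h1 : MulAut.conj x = φ (x : G) := by
      ext s
      rw [hφ, MulAut.conjNormal_apply]
      rfl
    rw [h1, mem_normalizer_iff]
    have hxn : (x : G) ∈ normalizer (Y : Set G) := by rwa [zpowers_le] at hn
    intro b
    constructor
    · rintro ⟨y, hy, rfl⟩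
      exact ⟨x * y * (x : G)⁻¹, (mem_normalizer_iff.1 hxn y).1 hy, by simp⟩
    · rintro ⟨y, hy, he⟩
      refine ⟨(x : G)⁻¹ * y * x, ?_, ?_⟩
      · have h2 := (mem_normalizer_iff.1 hxn ((x : G)⁻¹ * y * x)).2
        apply h2
        have h3 : (x : G) * ((x : G)⁻¹ * y * x) * (x : G)⁻¹ = y := by group
        rw [h3]; exact hy
      · rw [map_mul, map_mul, map_inv, he]
        group

end Cfsg.Agent.H568
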